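import Cfsg.Agent.ChevalleyStructure.E6Min.Basic

/-!
# The action by conjugation on the span of `H_i`, `N_r`

The elements `z_r(t)` of the group acting on the 27-dimensional module act on the 78 matrices `H_i, N_r` by conjugation;
the coordinates of this action are the matrices `chevE6.xMat F r t`.
-/

set_option autoImplicit false
set_option maxHeartbeats 400000

namespace Cfsg.Agent.ChevalleyStructure.E6Min.Adjoint

open Cfsg.Lie Cfsg.Agent.ChevalleyStructure.E6Min.Tables Cfsg.Agent.ChevalleyStructure.E6Min.Basic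
  Cfsg.Agent.ChevalleyStructure.E6Min.Checks2
open scoped Matrix MatrixGroups

/-! ### more checks -/

/-- a row (code) in which `N_r` is non-zero -/
def rowN (r : ℕ) : ℕ := Nat.rec 0 (fun k acc => if sgN r k = 0 then acc else k) 27

theorem row_all : allLt 72 (fun r => Nat.blt (rowN r) 27 && !(sgN r (rowN r) == 0) && !(srN r (rowN r) == rowN r) &&
    allLt 72 fun s => (s == r) || (sgN s (rowN r) == 0) || !(srN s (rowN r) == srN r (rowN r))) = true := by
  decide +kernel

theorem diag_all : allLt 72 (fun r => allLt 27 fun j => (sgN r j == 0) || !(srN r j == j)) = true := by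
  decide +kernel

/-- a row in which `N_r` is non-zero -/
def row (r : ℕ) : I27 := dec (rowN r)

theorem row_spec {r : ℕ} (hr : r < 72) : sg r (row r) ≠ 0 ∧ row r ≠ sr r (row r) ∧
    ∀ s < 72, s ≠ r → sg s (row r) = 0 ∨ sr s (row r) ≠ sr r (row r) := by
  have := allLt_spec row_all r hr
  simp only [Bool.and_eq_true, Nat.blt_eq, Bool.not_eq_true', beq_eq_false_iff_ne] at this
  obtain ⟨⟨⟨h1, h2⟩, h3⟩, h4⟩ := this
  have hc : code (row r) = rowN r := code_dec h1
  refine ⟨?_, ?_, ?_⟩
  · unfold sg; rw [hc]; exact h2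
  · intro h
    apply h3
    have := congrArg code h
    rw [code_sr hr, hc] at this
    exact this.symm
  · intro s hs hne
    have h5 := allLt_spec h4 s hs
    simp only [Bool.or_eq_true, beq_iff_eq, Bool.not_eq_true', beq_eq_false_iff_ne] at h5
    rcases h5 with (h5 | h5) | h5
    · exact absurd h5 hne
    · left; unfold sg; rw [hc]; exact h5
    · right
      intro h
      apply h5
      have := congrArg code h
      rw [code_sr hr, code_sr hs, hc] at this
      exact this

theorem row_diag {r : ℕ} (hr : r < 72) (x : I27) : sg r x = 0 ∨ x ≠ sr r x := by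
  have := allLt_spec (allLt_spec diag_all r hr) _ (code_lt x)
  simp only [Bool.or_eq_true, beq_iff_eq, Bool.not_eq_true', beq_eq_false_iff_ne] at this
  rcases this with h | h
  · exact Or.inl h
  · right
    intro h2
    apply h
    have := congrArg code h2
    rw [code_sr hr] at this
    exact this.symm

theorem sg_sq (r : ℕ) (x : I27) (h : sg r x ≠ 0) : sg r x * sg r x = 1 := by
  unfold sg sgN at *
  split_ifs at * <;> simp_all

/-! ### the basis -/

section
variable (F : Type*) [Field F]

/-- the 78 matrices `H_i`, `N_r` -/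
def B : chevE6.Idx → Matrix I27 I27 F
  | Sum.inl i => Hm F i.val
  | Sum.inr r => Nm F r.val

variable {F}

theorem B_inl (i : Fin chevE6.rank) : B F (Sum.inl i) = Hm F i.val := rfl

theorem B_inr (r : Fin chevE6.nroots) : B F (Sum.inr r) = Nm F r.val := rfl

omit F in
theorem lt72 (r : Fin chevE6.nroots) : r.val < 72 := r.isLt

omit F in
theorem lt6 (i : Fin chevE6.rank) : i.val < 6 := i.isLt

/-- the linear combination with given coefficients -/
def comb (c : chevE6.Idx → F) : Matrix I27 I27 F := ∑ row, c row • B F row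

theorem comb_def (c : chevE6.Idx → F) : comb c = ∑ row, c row • B F row := rfl

theorem comb_split (c : chevE6.Idx → F) : comb c = (∑ i : Fin chevE6.rank, c (Sum.inl i) • Hm F i.val) +
    ∑ r : Fin chevE6.nroots, c (Sum.inr r) • Nm F r.val := by
  unfold comb
  exact Fintype.sum_sum_type _

theorem comb_apply_row (c : chevE6.Idx → F) (r : Fin chevE6.nroots) :
    comb c (row r.val) (sr r.val (row r.val)) = c (Sum.inr r) * ((sg r.val (row r.val) : ℤ) : F) := by
  obtain ⟨h1, h2, h3⟩ := row_spec (lt72 r)
  rw [comb_split, Matrix.add_apply, Matrix.sum_apply, Matrix.sum_apply]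
  have e1 : ∑ i : Fin chevE6.rank, (c (Sum.inl i) • Hm F i.val) (row r.val) (sr r.val (row r.val)) = 0 := by
    refine Finset.sum_eq_zero fun i _ => ?_
    rw [Matrix.smul_apply, Hm_apply, if_neg h2, smul_zero]
  rw [e1, zero_add, Finset.sum_eq_single r]
  · rw [Matrix.smul_apply, Nm_apply, if_pos rfl, smul_eq_mul]
  · intro s _ hs
    rw [Matrix.smul_apply, Nm_apply]
    rcases h3 s.val (lt72 s) (fun h => hs (Fin.ext h)) with h4 | h4
    · rw [h4]; simp
    · rw [if_neg (Ne.symm h4), smul_zero]
  · intro h; exact absurd (Finset.mem_univ _) h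

theorem comb_apply_diag (c : chevE6.Idx → F) (x : I27) :
    comb c x x = ∑ i : Fin chevE6.rank, c (Sum.inl i) * ((wt x i.val : ℤ) : F) := by
  rw [comb_split, Matrix.add_apply, Matrix.sum_apply, Matrix.sum_apply]
  have e1 : ∑ r : Fin chevE6.nroots, (c (Sum.inr r) • Nm F r.val) x x = 0 := by
    refine Finset.sum_eq_zero fun r _ => ?_
    rw [Matrix.smul_apply, Nm_apply]
    rcases row_diag (lt72 r) x with h | h
    · rw [h]; simp
    · rw [if_neg h, smul_zero]
  rw [e1, add_zero]
  refine Finset.sum_congr rfl fun i _ => ?_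
  rw [Matrix.smul_apply, Hm_apply, if_pos rfl, smul_eq_mul]

theorem comb_diag_val (c : chevE6.Idx → F) (n : ℕ) (l0 l1 l2 l3 l4 l5 : ℤ)
    (h : wt (dec n) 0 = l0 ∧ wt (dec n) 1 = l1 ∧ wt (dec n) 2 = l2 ∧ wt (dec n) 3 = l3 ∧ wt (dec n) 4 = l4 ∧
      wt (dec n) 5 = l5) :
    comb c (dec n) (dec n) = c (Sum.inl (0 : Fin 6)) * (l0 : F) + c (Sum.inl (1 : Fin 6)) * (l1 : F) +
      c (Sum.inl (2 : Fin 6)) * (l2 : F) + c (Sum.inl (3 : Fin 6)) * (l3 : F) + c (Sum.inl (4 : Fin 6)) * (l4 : F) +
      c (Sum.inl (5 : Fin 6)) * (l5 : F) := by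
  obtain ⟨h0, h1, h2, h3, h4, h5⟩ := h
  rw [comb_apply_diag]
  refine (Fin.sum_univ_six _).trans ?_
  change c (Sum.inl (0 : Fin 6)) * ((wt (dec n) 0 : ℤ) : F) + c (Sum.inl (1 : Fin 6)) * ((wt (dec n) 1 : ℤ) : F) +
      c (Sum.inl (2 : Fin 6)) * ((wt (dec n) 2 : ℤ) : F) + c (Sum.inl (3 : Fin 6)) * ((wt (dec n) 3 : ℤ) : F) +
      c (Sum.inl (4 : Fin 6)) * ((wt (dec n) 4 : ℤ) : F) + c (Sum.inl (5 : Fin 6)) * ((wt (dec n) 5 : ℤ) : F) = _
  rw [h0, h1, h2, h3, h4, h5]

theorem comb_injective : Function.Injective (comb (F := F)) := by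
  intro c c' h
  have hd : ∀ n, comb c (dec n) (dec n) = comb c' (dec n) (dec n) := fun n => by rw [h]
  have w9 := comb_diag_val c 9 0 0 0 0 0 1 (by decide +kernel)
  have w9' := comb_diag_val c' 9 0 0 0 0 0 1 (by decide +kernel)
  have w10 := comb_diag_val c 10 0 (-1) 0 0 0 1 (by decide +kernel)
  have w10' := comb_diag_val c' 10 0 (-1) 0 0 0 1 (by decide +kernel)
  have w12 := comb_diag_val c 12 0 0 0 0 1 (-1) (by decide +kernel)
  have w12' := comb_diag_val c' 12 0 0 0 0 1 (-1) (by decide +kernel)
  have w15 := comb_diag_val c 15 0 0 0 1 (-1) 0 (by decide +kernel)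
  have w15' := comb_diag_val c' 15 0 0 0 1 (-1) 0 (by decide +kernel)
  have w18 := comb_diag_val c 18 (-1) 0 0 0 0 0 (by decide +kernel)
  have w18' := comb_diag_val c' 18 (-1) 0 0 0 0 0 (by decide +kernel)
  have w19 := comb_diag_val c 19 1 0 (-1) 0 0 0 (by decide +kernel)
  have w19' := comb_diag_val c' 19 1 0 (-1) 0 0 0 (by decide +kernel)
  rw [hd 9] at w9; rw [hd 10] at w10; rw [hd 12] at w12; rw [hd 15] at w15; rw [hd 18] at w18; rw [hd 19] at w19
  push_cast at w9 w9' w10 w10' w12 w12' w15 w15' w18 w18' w19 w19'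
  have g5 : c (Sum.inl (5 : Fin 6)) = c' (Sum.inl (5 : Fin 6)) := by linear_combination w9' - w9
  have g1 : c (Sum.inl (1 : Fin 6)) = c' (Sum.inl (1 : Fin 6)) := by linear_combination w9' - w9 + w10 - w10'
  have g4 : c (Sum.inl (4 : Fin 6)) = c' (Sum.inl (4 : Fin 6)) := by linear_combination w9' - w9 + w12' - w12
  have g3 : c (Sum.inl (3 : Fin 6)) = c' (Sum.inl (3 : Fin 6)) := by
    linear_combination w9' - w9 + w12' - w12 + w15' - w15
  have g0 : c (Sum.inl (0 : Fin 6)) = c' (Sum.inl (0 : Fin 6)) := by linear_combination w18 - w18'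
  have g2 : c (Sum.inl (2 : Fin 6)) = c' (Sum.inl (2 : Fin 6)) := by linear_combination w18 - w18' + w19 - w19'
  funext x
  rcases x with i | r
  · have : ∀ i : Fin 6, c (Sum.inl i) = c' (Sum.inl i) := by
      intro i
      fin_cases i
      exacts [g0, g1, g2, g3, g4, g5]
    exact this i
  · have hr := comb_apply_row c r
    have hr' := comb_apply_row c' r
    rw [h, hr'] at hr
    have h1 : ((sg r.val (row r.val) : ℤ) : F) * ((sg r.val (row r.val) : ℤ) : F) = 1 := by
      rw [← Int.cast_mul, sg_sq _ _ (row_spec (lt72 r)).1, Int.cast_one]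
    calc c (Sum.inr r) = c (Sum.inr r) * ((sg r.val (row r.val) : ℤ) : F) * ((sg r.val (row r.val) : ℤ) : F) := by
          rw [mul_assoc, h1, mul_one]
      _ = c' (Sum.inr r) * ((sg r.val (row r.val) : ℤ) : F) * ((sg r.val (row r.val) : ℤ) : F) := by rw [hr]
      _ = c' (Sum.inr r) := by rw [mul_assoc, h1, mul_one]

/-! ### the columns of `xMat` -/

theorem chainCoeff_eq {r s : ℕ} (hr : r < 72) (hs : s < 72) (u : ℕ) : chevE6.chainCoeff r s u =
    if s + r = 71 ∨ kN r s = 127 then [] else if kN r s = u then [(1, cN r s)] else [] := by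
  have h := allLt_spec (allLt_spec chain_all r hr) s hs
  rw [decide_eq_true_eq] at h
  unfold ChevalleyDatum.chainCoeff
  rw [h]
  unfold expected
  split_ifs with h1 h2
  · rfl
  · subst h2
    simp
  · simp [h2]

theorem xMat_inl (r : Fin chevE6.nroots) (t : F) (i : Fin chevE6.rank) :
    comb (fun row => chevE6.xMat F r t row (Sum.inl i)) = Hm F i.val - (((carN i.val r.val : ℤ) : F) * t) • Nm F r.val := by
  rw [comb_split]
  have e1 : ∑ j : Fin chevE6.rank, chevE6.xMat F r t (Sum.inl j) (Sum.inl i) • Hm F j.val = Hm F i.val := by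
    rw [Finset.sum_eq_single i]
    · change (if i = i then (1 : F) else 0) • Hm F i.val = _
      rw [if_pos rfl, one_smul]
    · intro j _ hj
      change (if j = i then (1 : F) else 0) • Hm F j.val = _
      rw [if_neg hj, zero_smul]
    · intro h; exact absurd (Finset.mem_univ _) h
  have e2 : ∑ u : Fin chevE6.nroots, chevE6.xMat F r t (Sum.inr u) (Sum.inl i) • Nm F u.val =
      -((((carN i.val r.val : ℤ) : F) * t) • Nm F r.val) := by
    rw [Finset.sum_eq_single r]
    · change (if r = r then -(((carN i.val r.val : ℤ) : F)) * t else 0) • Nm F r.val = _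
      rw [if_pos rfl, neg_mul, neg_smul]
    · intro u _ hu
      change (if u = r then -(((carN i.val r.val : ℤ) : F)) * t else 0) • Nm F u.val = _
      rw [if_neg hu, zero_smul]
    · intro h; exact absurd (Finset.mem_univ _) h
  exact (congrArg₂ (· + ·) e1 e2).trans (sub_eq_add_neg _ _).symm

theorem xMat_self (r : Fin chevE6.nroots) (t : F) :
    comb (fun row => chevE6.xMat F r t row (Sum.inr r)) = Nm F r.val := by
  have hx : ∀ row, chevE6.xMat F r t row (Sum.inr r) = if row = Sum.inr r then 1 else 0 := by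
    intro row
    have h0 : chevE6.xMat F r t row (Sum.inr r) =
      (match row with | Sum.inr u => if u = r then 1 else 0 | Sum.inl _ => 0) := by
      unfold ChevalleyDatum.xMat
      rw [Matrix.of_apply]
      show (if r = r then _ else _) = _
      rw [if_pos rfl]
      rcases row with i | u <;> rfl
    rw [h0]
    rcases row with i | u
    · simp
    · simp
  unfold comb
  simp only [hx]
  rw [Finset.sum_eq_single (Sum.inr r)]
  · rw [if_pos rfl, one_smul]; rfl
  · intro u _ hu; rw [if_neg hu, zero_smul]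
  · intro h; exact absurd (Finset.mem_univ _) h

theorem xMat_opp_apply (r s : Fin chevE6.nroots) (hs : s.val = 71 - r.val) (t : F) (row : chevE6.Idx) :
    chevE6.xMat F r t row (Sum.inr s) =
      (match row with
         | Sum.inl i => ((coN r.val i.val : ℤ) : F) * t
         | Sum.inr u => if u = s then 1 else if u = r then -(t ^ 2) else 0) := by
  have hne : s ≠ r := by
    intro h; rw [h] at hs; have := lt72 r; omega
  unfold ChevalleyDatum.xMat
  rw [Matrix.of_apply]
  have h2 : s.val = chevE6.negIdx.getD r.val 0 := by rw [neg_eq (lt72 r)]; exact hs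
  show (if s = r then _ else if s.val = chevE6.negIdx.getD r.val 0 then _ else _) = _
  rw [if_neg hne, if_pos h2]
  rcases row with i | u <;> rfl

theorem xMat_opp (r s : Fin chevE6.nroots) (hs : s.val = 71 - r.val) (t : F) :
    comb (fun row => chevE6.xMat F r t row (Sum.inr s)) =
      Nm F (71 - r.val) + t • (∑ i ∈ Finset.range 6, ((coN r.val i : ℤ) : F) • Hm F i) - t ^ 2 • Nm F r.val := by
  have hne : s ≠ r := by
    intro h; rw [h] at hs; have := lt72 r; omega
  rw [comb_split]
  have e1 : ∑ i : Fin chevE6.rank, chevE6.xMat F r t (Sum.inl i) (Sum.inr s) • Hm F i.val =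
      t • (∑ i ∈ Finset.range 6, ((coN r.val i : ℤ) : F) • Hm F i) := by
    rw [Finset.smul_sum, Finset.sum_range fun i => t • (((coN r.val i : ℤ) : F) • Hm F i)]
    refine Finset.sum_congr rfl fun i _ => ?_
    rw [xMat_opp_apply r s hs, smul_smul, mul_comm]
  have e2 : ∑ u : Fin chevE6.nroots, chevE6.xMat F r t (Sum.inr u) (Sum.inr s) • Nm F u.val =
      Nm F (71 - r.val) - t ^ 2 • Nm F r.val := by
    have : ∀ u : Fin chevE6.nroots, chevE6.xMat F r t (Sum.inr u) (Sum.inr s) • Nm F u.val =
        (if u = s then Nm F u.val else 0) - (if u = r then t ^ 2 • Nm F u.val else 0) := by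
      intro u
      rw [xMat_opp_apply r s hs]
      change (if u = s then (1 : F) else if u = r then -(t ^ 2) else 0) • Nm F u.val = _
      by_cases h1 : u = s
      · rw [if_pos h1, if_pos h1, if_neg (by rw [h1]; exact hne), one_smul, sub_zero]
      · rw [if_neg h1, if_neg h1]
        by_cases h2 : u = r
        · rw [if_pos h2, if_pos h2, neg_smul, zero_sub]
        · rw [if_neg h2, if_neg h2, zero_smul, sub_zero]
    rw [Finset.sum_congr rfl fun u _ => this u, Finset.sum_sub_distrib, Finset.sum_ite_eq' Finset.univ s,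
      Finset.sum_ite_eq' Finset.univ r, if_pos (Finset.mem_univ _), if_pos (Finset.mem_univ _), hs]
  refine (congrArg₂ (· + ·) e1 e2).trans ?_
  abel

theorem xMat_other_apply (r s : Fin chevE6.nroots) (h1 : s ≠ r) (h2 : s.val ≠ 71 - r.val) (t : F) (row : chevE6.Idx) :
    chevE6.xMat F r t row (Sum.inr s) =
      (match row with
         | Sum.inl _ => 0
         | Sum.inr u => (if u = s then 1 else 0) +
             ((chevE6.chainCoeff r.val s.val u.val).map fun km => ((km.2 : ℤ) : F) * t ^ km.1).sum) := by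
  unfold ChevalleyDatum.xMat
  rw [Matrix.of_apply]
  show (if s = r then _ else if s.val = chevE6.negIdx.getD r.val 0 then _ else _) = _
  rw [if_neg h1, if_neg (by rw [neg_eq (lt72 r)]; exact h2)]
  rcases row with i | u <;> rfl

theorem xMat_other_some (r s : Fin chevE6.nroots) (h1 : s ≠ r) (h2 : s.val ≠ 71 - r.val) (hk : kN r.val s.val ≠ 127) (t : F) :
    comb (fun row => chevE6.xMat F r t row (Sum.inr s)) =
      Nm F s.val + (((cN r.val s.val : ℤ) : F) * t) • Nm F (kN r.val s.val) := by
  have hk' := kN_lt (lt72 r) (lt72 s) hk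
  rw [comb_split]
  have e1 : ∑ i : Fin chevE6.rank, chevE6.xMat F r t (Sum.inl i) (Sum.inr s) • Hm F i.val = 0 := by
    refine Finset.sum_eq_zero fun i _ => ?_
    rw [xMat_other_apply r s h1 h2]
    exact zero_smul _ _
  have e2 : ∑ u : Fin chevE6.nroots, chevE6.xMat F r t (Sum.inr u) (Sum.inr s) • Nm F u.val =
      Nm F s.val + (((cN r.val s.val : ℤ) : F) * t) • Nm F (kN r.val s.val) := by
    have : ∀ u : Fin chevE6.nroots, chevE6.xMat F r t (Sum.inr u) (Sum.inr s) • Nm F u.val =
        (if u = s then Nm F u.val else 0) +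
          (if u = ⟨kN r.val s.val, hk'⟩ then (((cN r.val s.val : ℤ) : F) * t) • Nm F u.val else 0) := by
      intro u
      rw [xMat_other_apply r s h1 h2]
      change ((if u = s then (1 : F) else 0) +
        ((chevE6.chainCoeff r.val s.val u.val).map fun km => ((km.2 : ℤ) : F) * t ^ km.1).sum) • Nm F u.val = _
      have hcc : chevE6.chainCoeff r.val s.val u.val =
          if kN r.val s.val = u.val then [(1, cN r.val s.val)] else [] := by
        rw [chainCoeff_eq (lt72 r) (lt72 s), if_neg]
        rintro (h | h)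
        · have := lt72 s; have := lt72 r; omega
        · exact hk h
      rw [hcc, add_smul]
      congr 1
      · split_ifs <;> simp
      · by_cases h3 : u = ⟨kN r.val s.val, hk'⟩
        · rw [if_pos h3, if_pos (show kN r.val s.val = u.val by rw [h3])]; simp
        · rw [if_neg h3, if_neg (fun h => h3 (Fin.ext h.symm))]; simp
    rw [Finset.sum_congr rfl fun u _ => this u, Finset.sum_add_distrib, Finset.sum_ite_eq' Finset.univ s,
      Finset.sum_ite_eq' Finset.univ _, if_pos (Finset.mem_univ _), if_pos (Finset.mem_univ _)]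
  refine (congrArg₂ (· + ·) e1 e2).trans ?_
  rw [zero_add]

theorem xMat_other_none (r s : Fin chevE6.nroots) (h1 : s ≠ r) (h2 : s.val ≠ 71 - r.val) (hk : kN r.val s.val = 127) (t : F) :
    comb (fun row => chevE6.xMat F r t row (Sum.inr s)) = Nm F s.val := by
  rw [comb_split]
  have e1 : ∑ i : Fin chevE6.rank, chevE6.xMat F r t (Sum.inl i) (Sum.inr s) • Hm F i.val = 0 := by
    refine Finset.sum_eq_zero fun i _ => ?_
    rw [xMat_other_apply r s h1 h2]
    exact zero_smul _ _
  have e2 : ∑ u : Fin chevE6.nroots, chevE6.xMat F r t (Sum.inr u) (Sum.inr s) • Nm F u.val = Nm F s.val := by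
    have : ∀ u : Fin chevE6.nroots, chevE6.xMat F r t (Sum.inr u) (Sum.inr s) • Nm F u.val =
        (if u = s then Nm F u.val else 0) := by
      intro u
      rw [xMat_other_apply r s h1 h2]
      change ((if u = s then (1 : F) else 0) +
        ((chevE6.chainCoeff r.val s.val u.val).map fun km => ((km.2 : ℤ) : F) * t ^ km.1).sum) • Nm F u.val = _
      rw [chainCoeff_eq (lt72 r) (lt72 s), if_pos (Or.inr hk)]
      split_ifs <;> simp
    rw [Finset.sum_congr rfl fun u _ => this u, Finset.sum_ite_eq' Finset.univ s, if_pos (Finset.mem_univ _)]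
  refine (congrArg₂ (· + ·) e1 e2).trans ?_
  rw [zero_add]

/-! ### conjugation -/

/-- `A` is the matrix of the conjugation by `g` on the span of the `B col` -/
def P (g : Matrix I27 I27 F) (A : Matrix chevE6.Idx chevE6.Idx F) : Prop :=
  ∀ col, g * B F col = comb (fun row => A row col) * g

theorem P_def (g : Matrix I27 I27 F) (A : Matrix chevE6.Idx chevE6.Idx F) :
    P g A ↔ ∀ col, g * B F col = comb (fun row => A row col) * g := Iff.rfl

theorem P_root (r : Fin chevE6.nroots) (t : F) : P (zM r.val t) (chevE6.xMat F r t) := by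
  intro col
  rcases col with i | s
  · have hi : i.val < 6 := lt6 i
    have h1 := Hm_comm (F := F) (lt72 r) hi
    have h2 := Nm_sq (F := F) (lt72 r)
    refine Eq.trans ?_ (congrArg (· * zM r.val t) (xMat_inl r t i).symm)
    change zM r.val t * Hm F i.val = (Hm F i.val - (((carN i.val r.val : ℤ) : F) * t) • Nm F r.val) * zM r.val t
    rw [zM_def, add_mul, one_mul, sub_mul, mul_add, mul_add, mul_one, mul_one, smul_mul_assoc, smul_mul_assoc,
      mul_smul_comm, mul_smul_comm, h2, smul_zero, smul_zero, add_zero,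
      show Hm F i.val * Nm F r.val = Nm F r.val * Hm F i.val + ((carN i.val r.val : ℤ) : F) • Nm F r.val by
        rw [← h1]; abel, smul_add, smul_smul, mul_comm t]
    abel
  · by_cases hsr : s = r
    · subst hsr
      refine Eq.trans ?_ (congrArg (· * zM s.val t) (xMat_self s t).symm)
      have h2 := Nm_sq (F := F) (lt72 s)
      change zM s.val t * Nm F s.val = Nm F s.val * zM s.val t
      rw [zM_def, add_mul, one_mul, mul_add, mul_one, smul_mul_assoc, mul_smul_comm]
    · by_cases hopp : s.val = 71 - r.val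
      · refine Eq.trans ?_ (congrArg (· * zM r.val t) (xMat_opp r s hopp t).symm)
        have h1 := Nm_bracket_opp (F := F) (lt72 r)
        have h3 := Nm_bracket_opp_mul (F := F) (lt72 r)
        have h2 := Nm_sq (F := F) (lt72 r)
        change zM r.val t * Nm F s.val = (Nm F (71 - r.val) + t • (∑ i ∈ Finset.range 6, ((coN r.val i : ℤ) : F) •
          Hm F i) - t ^ 2 • Nm F r.val) * zM r.val t
        rw [hopp]
        generalize (∑ i ∈ Finset.range 6, ((coN r.val i : ℤ) : F) • Hm F i) = S at *
        rw [zM_def, add_mul, one_mul, sub_mul, add_mul, mul_add, mul_add, mul_add, mul_one, mul_one, mul_one,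
          smul_mul_assoc, smul_mul_assoc, smul_mul_assoc, mul_smul_comm, mul_smul_comm, mul_smul_comm, h2, h3,
          smul_zero, smul_zero, add_zero, smul_smul, ← h1, smul_sub, pow_two]
        abel
      · by_cases hk : kN r.val s.val = 127
        · refine Eq.trans ?_ (congrArg (· * zM r.val t) (xMat_other_none r s hsr hopp hk t).symm)
          have h1 := Nm_comm_of_none (F := F) (lt72 r) (lt72 s) (by have := lt72 s; have := lt72 r; omega) hk
          change zM r.val t * Nm F s.val = Nm F s.val * zM r.val t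
          rw [zM_def, add_mul, one_mul, mul_add, mul_one, smul_mul_assoc, mul_smul_comm, h1]
        · refine Eq.trans ?_ (congrArg (· * zM r.val t) (xMat_other_some r s hsr hopp hk t).symm)
          have h1 := Nm_comm_of_some (F := F) (lt72 r) (lt72 s) (by have := lt72 s; have := lt72 r; omega) hk
          have h2 := Nm_mul_eq_zero_of_sum (F := F) (lt72 r) (lt72 s) (by have := lt72 s; have := lt72 r; omega) hk
          change zM r.val t * Nm F s.val = (Nm F s.val + (((cN r.val s.val : ℤ) : F) * t) •
            Nm F (kN r.val s.val)) * zM r.val t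
          rw [zM_def, add_mul, one_mul, add_mul, mul_add, mul_add, mul_one, mul_one, smul_mul_assoc, smul_mul_assoc,
            mul_smul_comm, mul_smul_comm, h2, smul_zero, smul_zero, add_zero,
            show Nm F r.val * Nm F s.val = Nm F s.val * Nm F r.val + ((cN r.val s.val : ℤ) : F) •
              Nm F (kN r.val s.val) by rw [← h1]; abel, smul_add, smul_smul, mul_comm t]
          abel

theorem comb_mul_of {g : Matrix I27 I27 F} {A : Matrix chevE6.Idx chevE6.Idx F} (h : P g A) (c : chevE6.Idx → F) :
    g * comb c = comb (fun row => ∑ col, A row col * c col) * g := by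
  rw [comb_def, Matrix.mul_sum]
  have h1 : ∀ col, g * (c col • B F col) = (∑ row, (c col * A row col) • B F row) * g := by
    intro col
    rw [mul_smul_comm, h col, comb_def, ← smul_mul_assoc, Finset.smul_sum]
    simp only [smul_smul]
  rw [Finset.sum_congr rfl fun col _ => h1 col, ← Matrix.sum_mul, Finset.sum_comm, comb_def]
  congr 1
  refine Finset.sum_congr rfl fun row _ => ?_
  rw [← Finset.sum_smul]
  congr 1
  refine Finset.sum_congr rfl fun col _ => ?_
  rw [mul_comm]

theorem P_mul {g h : Matrix I27 I27 F} {A C : Matrix chevE6.Idx chevE6.Idx F} (h1 : P g A) (h2 : P h C) :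
    P (g * h) (A * C) := by
  intro col
  rw [mul_assoc, h2 col, ← mul_assoc, comb_mul_of h1, mul_assoc]
  rfl

theorem P_one : P (1 : Matrix I27 I27 F) 1 := by
  intro col
  rw [one_mul, mul_one, comb_def, Finset.sum_eq_single col]
  · rw [Matrix.one_apply_eq, one_smul]
  · intro row _ h
    rw [Matrix.one_apply_ne h, zero_smul]
  · intro h; exact absurd (Finset.mem_univ _) h

theorem P_unique {g : GL I27 F} {A C : Matrix chevE6.Idx chevE6.Idx F} (h1 : P (g : Matrix I27 I27 F) A)
    (h2 : P (g : Matrix I27 I27 F) C) : A = C := by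
  ext row col
  have h3 : comb (fun row => A row col) * (g : Matrix I27 I27 F) = comb (fun row => C row col) * (g : Matrix I27 I27 F) := by
    rw [← h1 col, ← h2 col]
  have h4 : comb (fun row => A row col) = comb (fun row => C row col) := by
    have := congrArg (· * ((g⁻¹ : GL I27 F) : Matrix I27 I27 F)) h3
    simpa [mul_assoc, ← Units.val_mul] using this
  exact congrFun (comb_injective h4) row

theorem xMat_mul_neg (r : Fin chevE6.nroots) (t : F) : chevE6.xMat F r t * chevE6.xMat F r (-t) = 1 := by
  have h1 := P_mul (P_root r t) (P_root r (-t))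
  rw [zM_mul (lt72 r), add_neg_cancel, zM_zero] at h1
  have h2 : P ((1 : GL I27 F) : Matrix I27 I27 F) (chevE6.xMat F r t * chevE6.xMat F r (-t)) := by
    rw [Units.val_one]; exact h1
  have h3 : P ((1 : GL I27 F) : Matrix I27 I27 F) (1 : Matrix chevE6.Idx chevE6.Idx F) := by
    rw [Units.val_one]; exact P_one
  exact P_unique h2 h3

/-- the root element `x_r(t)` in the general linear group -/
def xU (r : Fin chevE6.nroots) (t : F) : GL chevE6.Idx F :=
  ⟨chevE6.xMat F r t, chevE6.xMat F r (-t), xMat_mul_neg r t, by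
    have := xMat_mul_neg r (-t); rwa [neg_neg] at this⟩

theorem coe_xU (r : Fin chevE6.nroots) (t : F) : ((xU r t : GL chevE6.Idx F) : Matrix chevE6.Idx chevE6.Idx F) =
    chevE6.xMat F r t := rfl

theorem xU_mem (r : Fin chevE6.nroots) (t : F) : xU r t ∈ chevE6.group F := Subgroup.subset_closure ⟨r, t, rfl⟩

theorem P_inv {g : GL I27 F} {A : GL chevE6.Idx F}
    (h : P (g : Matrix I27 I27 F) (A : Matrix chevE6.Idx chevE6.Idx F)) :
    P ((g⁻¹ : GL I27 F) : Matrix I27 I27 F) ((A⁻¹ : GL chevE6.Idx F) : Matrix chevE6.Idx chevE6.Idx F) := by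
  intro col
  have h1 := comb_mul_of h (fun row => ((A⁻¹ : GL chevE6.Idx F) : Matrix chevE6.Idx chevE6.Idx F) row col)
  have h2 : comb (fun row => ∑ c, (A : Matrix chevE6.Idx chevE6.Idx F) row c *
      ((A⁻¹ : GL chevE6.Idx F) : Matrix chevE6.Idx chevE6.Idx F) c col) = B F col := by
    have h3 : ∀ row, ∑ c, (A : Matrix chevE6.Idx chevE6.Idx F) row c *
      ((A⁻¹ : GL chevE6.Idx F) : Matrix chevE6.Idx chevE6.Idx F) c col = (1 : Matrix chevE6.Idx chevE6.Idx F) row col := by
      intro row
      have h4 : (A : Matrix chevE6.Idx chevE6.Idx F) * ((A⁻¹ : GL chevE6.Idx F) : Matrix chevE6.Idx chevE6.Idx F) = 1 := by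
        rw [← Units.val_mul, mul_inv_cancel, Units.val_one]
      rw [← h4]; rfl
    simp only [h3]
    have := P_one (F := F) col
    rw [one_mul, mul_one] at this
    exact this.symm
  rw [h2] at h1
  have h5 := congrArg (fun X => ((g⁻¹ : GL I27 F) : Matrix I27 I27 F) * X * ((g⁻¹ : GL I27 F) : Matrix I27 I27 F)) h1
  simp only [← mul_assoc] at h5
  rw [← Units.val_mul, inv_mul_cancel, Units.val_one, one_mul, mul_assoc (_ * _), ← Units.val_mul, mul_inv_cancel,
    Units.val_one, mul_one] at h5
  exact h5.symm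

theorem exists_P {g : GL I27 F} (hg : g ∈ Zgrp F) : ∃ A : GL chevE6.Idx F, A ∈ chevE6.group F ∧
    P (g : Matrix I27 I27 F) (A : Matrix chevE6.Idx chevE6.Idx F) := by
  unfold Zgrp at hg
  induction hg using Subgroup.closure_induction with
  | mem x hx =>
    obtain ⟨r, t, hr, h⟩ := hx
    refine ⟨xU ⟨r, hr⟩ t, xU_mem _ _, ?_⟩
    rw [h, coe_xU]
    exact P_root ⟨r, hr⟩ t
  | one => exact ⟨1, one_mem _, by rw [Units.val_one, Units.val_one]; exact P_one⟩
  | mul x y _ _ hx hy =>
    obtain ⟨A, hA, h1⟩ := hx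
    obtain ⟨C, hC, h2⟩ := hy
    refine ⟨A * C, mul_mem hA hC, ?_⟩
    rw [Units.val_mul, Units.val_mul]
    exact P_mul h1 h2
  | inv x _ hx =>
    obtain ⟨A, hA, h1⟩ := hx
    exact ⟨A⁻¹, inv_mem hA, P_inv h1⟩

/-- the homomorphism from the group on the 27-dimensional module to the Chevalley group -/
noncomputable def ad (F : Type*) [Field F] : Zgrp F →* chevE6.group F :=
  MonoidHom.mk' (fun g => ⟨(exists_P g.2).choose, (exists_P g.2).choose_spec.1⟩) (by
    intro g h
    apply Subtype.ext
    apply Units.ext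
    refine P_unique (g := ((g * h : Zgrp F) : GL I27 F)) (exists_P (g * h).2).choose_spec.2 ?_
    have := P_mul (exists_P g.2).choose_spec.2 (exists_P h.2).choose_spec.2
    rw [← Units.val_mul] at this
    exact this)

theorem ad_P (g : Zgrp F) : P ((g : GL I27 F) : Matrix I27 I27 F)
    (((ad F g : chevE6.group F) : GL chevE6.Idx F) : Matrix chevE6.Idx chevE6.Idx F) :=
  (exists_P g.2).choose_spec.2

theorem ad_surjective : Function.Surjective (ad F) := by
  intro ⟨A, hA⟩
  have key : ∀ A ∈ chevE6.group F, ∃ g : Zgrp F, ((ad F g : chevE6.group F) : GL chevE6.Idx F) = A := by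
    intro A hA
    unfold ChevalleyDatum.group at hA
    induction hA using Subgroup.closure_induction with
    | mem x hx =>
      obtain ⟨r, t, h⟩ := hx
      refine ⟨⟨zU r.val t, zU_mem _ _⟩, ?_⟩
      apply Units.ext
      refine P_unique (g := zU r.val t) (ad_P ⟨zU r.val t, zU_mem _ _⟩) ?_
      rw [coe_zU (lt72 r), h]
      exact P_root r t
    | one => exact ⟨1, by rw [map_one]; rfl⟩
    | mul x y _ _ hx hy =>
      obtain ⟨g, rfl⟩ := hx
      obtain ⟨h, rfl⟩ := hy
      exact ⟨g * h, by rw [map_mul]; rfl⟩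
    | inv x _ hx =>
      obtain ⟨g, rfl⟩ := hx
      exact ⟨g⁻¹, by rw [map_inv]; rfl⟩
  obtain ⟨g, hg⟩ := key A hA
  exact ⟨g, Subtype.ext hg⟩

theorem comm_B_of_ker {g : Zgrp F} (hg : ad F g = 1) (col : chevE6.Idx) :
    ((g : GL I27 F) : Matrix I27 I27 F) * B F col = B F col * ((g : GL I27 F) : Matrix I27 I27 F) := by
  have h := ad_P g col
  rw [hg] at h
  change _ = comb (fun row => (1 : Matrix chevE6.Idx chevE6.Idx F) row col) * _ at h
  rw [h]
  have := P_one (F := F) col
  rw [one_mul, mul_one] at this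
  rw [← this]

theorem ker_ad : (ad F).ker = Subgroup.center (Zgrp F) := by
  ext g
  rw [MonoidHom.mem_ker, Subgroup.mem_center_iff]
  constructor
  · intro hg
    have h1 := comm_B_of_ker hg
    have h2 : ∀ x ∈ Zgrp F, x * (g : GL I27 F) = (g : GL I27 F) * x := by
      intro x hx
      unfold Zgrp at hx
      induction hx using Subgroup.closure_induction with
      | mem x hx =>
        obtain ⟨r, t, hr, h⟩ := hx
        apply Units.ext
        have h3 : ((g : GL I27 F) : Matrix I27 I27 F) * Nm F r = Nm F r * ((g : GL I27 F) : Matrix I27 I27 F) :=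
          h1 (Sum.inr ⟨r, hr⟩)
        rw [Units.val_mul, Units.val_mul, h, zM_def, mul_add, add_mul, mul_one, one_mul, smul_mul_assoc,
          mul_smul_comm, h3]
      | one => rw [one_mul, mul_one]
      | mul x y _ _ hx hy => rw [mul_assoc, hy, ← mul_assoc, hx, mul_assoc]
      | inv x _ hx =>
        rw [inv_mul_eq_iff_eq_mul, ← mul_assoc, hx, mul_assoc, mul_inv_cancel, mul_one]
    intro x
    exact Subtype.ext (h2 x x.2)
  · intro hg
    have h1 : ∀ r < 72, ((g : GL I27 F) : Matrix I27 I27 F) * Nm F r = Nm F r * ((g : GL I27 F) : Matrix I27 I27 F) := by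
      intro r hr
      have h2 := hg ⟨zU r 1, zU_mem _ _⟩
      have h3 := congrArg (fun x : Zgrp F => ((x : GL I27 F) : Matrix I27 I27 F)) h2
      change ((zU r 1 : GL I27 F) : Matrix I27 I27 F) * ((g : GL I27 F) : Matrix I27 I27 F) =
        ((g : GL I27 F) : Matrix I27 I27 F) * ((zU r 1 : GL I27 F) : Matrix I27 I27 F) at h3
      rw [coe_zU hr, zM_def, add_mul, mul_add, one_mul, mul_one, one_smul] at h3
      exact (add_left_cancel h3).symm
    have hH : ∀ i < 6, ((g : GL I27 F) : Matrix I27 I27 F) * Hm F i = Hm F i * ((g : GL I27 F) : Matrix I27 I27 F) := by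
      intro i hi
      obtain ⟨r, hr, hri⟩ : ∃ r < 72, ∀ j < 6, coN r j = if j = i then 1 else 0 := by
        interval_cases i
        · exact ⟨56, by norm_num, by decide +kernel⟩
        · exact ⟨46, by norm_num, by decide +kernel⟩
        · exact ⟨42, by norm_num, by decide +kernel⟩
        · exact ⟨39, by norm_num, by decide +kernel⟩
        · exact ⟨37, by norm_num, by decide +kernel⟩
        · exact ⟨36, by norm_num, by decide +kernel⟩
      have h2 := Nm_bracket_opp (F := F) hr
      have h3 : (∑ j ∈ Finset.range 6, ((coN r j : ℤ) : F) • Hm F j) = Hm F i := by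
        rw [Finset.sum_eq_single i]
        · rw [hri i hi, if_pos rfl, Int.cast_one, one_smul]
        · intro j hj hne
          rw [hri j (Finset.mem_range.mp hj), if_neg hne, Int.cast_zero, zero_smul]
        · intro h; exact absurd (Finset.mem_range.mpr hi) h
      rw [← h3, ← h2, mul_sub, sub_mul, ← mul_assoc, h1 r hr, mul_assoc, h1 (71 - r) (by omega), ← mul_assoc,
        ← mul_assoc, h1 (71 - r) (by omega), mul_assoc (Nm F (71 - r)), h1 r hr, ← mul_assoc]
    apply Subtype.ext
    apply Units.ext
    refine P_unique (g := (g : GL I27 F)) (ad_P g) ?_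
    intro col
    have h4 : comb (fun row => (1 : Matrix chevE6.Idx chevE6.Idx F) row col) = B F col := by
      have := P_one (F := F) col
      rw [one_mul, mul_one] at this
      exact this.symm
    change _ = comb (fun row => (1 : Matrix chevE6.Idx chevE6.Idx F) row col) * _
    rw [h4]
    rcases col with i | r
    · exact hH i.val i.isLt
    · exact h1 r.val r.isLt

/-- the group generated by the root elements on the 27-dimensional module, modulo its centre, is the Chevalley group -/
theorem quot_center_equiv : Nonempty (Zgrp F ⧸ Subgroup.center (Zgrp F) ≃* chevE6.group F) :=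
  ⟨(QuotientGroup.quotientMulEquivOfEq ker_ad.symm).trans
    (QuotientGroup.quotientKerEquivOfSurjective (ad F) ad_surjective)⟩

end

end Cfsg.Agent.ChevalleyStructure.E6Min.Adjoint
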