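import Cfsg.Agent.ChevalleyStructure.E6Min.Checks
import Cfsg.Agent.ChevalleyStructure.E6Min.Checks2

/-!
# The operators `N_r` on the 27-dimensional module of E₆

`Nm F r` (`r < 72` a root index of `chevE6`) are 27 × 27 matrices with `[N_r, N_s] = N_{r,s} N_{r+s}` for the structure
constants of the table `chevE6`, `[N_r, N_{-r}] = Σ_i c_i(r) H_i`, `[H_i, N_r] = A_{i,r} N_r`, `N_r² = 0`.
-/

set_option autoImplicit false

namespace Cfsg.Agent.ChevalleyStructure.E6Min.Basic

open Cfsg.Lie Cfsg.Agent.ChevalleyStructure.E6Min.Tables Cfsg.Agent.ChevalleyStructure.E6Min.Checks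
  Cfsg.Agent.ChevalleyStructure.E6Min.Checks2
open scoped Matrix

/-! ### facts on codes -/

theorem srN_lt {r j : ℕ} (hr : r < 72) (hj : j < 27) : srN r j < 27 := by
  have := allLt_spec (allLt_spec srN_lt_all r hr) j hj
  simpa [Nat.blt_eq] using this

theorem kN_lt {r s : ℕ} (hr : r < 72) (hs : s < 72) (h : kN r s ≠ 127) : kN r s < 72 := by
  have := allLt_spec (allLt_spec kN_all r hr) s hs
  simp only [Bool.or_eq_true, Nat.blt_eq, beq_iff_eq] at this
  tauto

/-! ### the row functions -/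

/-- column index of the non-zero entry of `N_r` in row `x` -/
def sr (r : ℕ) (x : I27) : I27 := dec (srN r (code x))

/-- the value of that entry -/
def sg (r : ℕ) (x : I27) : ℤ := sgN r (code x)

/-- Dynkin labels of the weight with index `x` -/
def wt (x : I27) (i : ℕ) : ℤ := lbN (code x) i

theorem code_sr {r : ℕ} (hr : r < 72) (x : I27) : code (sr r x) = srN r (code x) :=
  code_dec (srN_lt hr (code_lt x))

theorem sg_sr {r s : ℕ} (hr : r < 72) (x : I27) : sg s (sr r x) = sgN s (srN r (code x)) := by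
  unfold sg; rw [code_sr hr]

theorem sr_sr {r s : ℕ} (hr : r < 72) (x : I27) : sr s (sr r x) = dec (srN s (srN r (code x))) := by
  unfold sr; rw [code_dec (srN_lt hr (code_lt x))]

theorem comm_spec {r s : ℕ} (hr : r < 72) (hs : s < 72) (h : s + r ≠ 71) {j : ℕ} (hj : j < 27) :
    commCheck r s j = true := by
  have := allLt_spec (allLt_spec comm_all r hr) s hs
  rw [Bool.or_eq_true] at this
  rcases this with h1 | h1
  · exact absurd (by simpa using h1) h
  · exact allLt_spec h1 j hj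

/-- no sum: the two products agree -/
theorem row_comm_of_none {r s : ℕ} (hr : r < 72) (hs : s < 72) (h : s + r ≠ 71) (hk : kN r s = 127) (x : I27) :
    sg r x * sg s (sr r x) = sg s x * sg r (sr s x) ∧
      (sg r x * sg s (sr r x) = 0 ∨ sr s (sr r x) = sr r (sr s x)) := by
  have := comm_spec hr hs h (code_lt x)
  unfold commCheck at this
  simp only [hk, if_true, Bool.and_eq_true, Bool.or_eq_true, beq_iff_eq] at this
  rw [sg_sr hr, sg_sr hs, sr_sr hr, sr_sr hs]
  refine ⟨this.1, ?_⟩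
  rcases this.2 with h1 | h1
  · exact Or.inl h1
  · exact Or.inr (congrArg dec h1)

theorem row_comm_of_some {r s : ℕ} (hr : r < 72) (hs : s < 72) (h : s + r ≠ 71) (hk : kN r s ≠ 127) (x : I27) :
    sg r x * sg s (sr r x) - sg s x * sg r (sr s x) = cN r s * sg (kN r s) x ∧
      (sg r x * sg s (sr r x) = 0 ∨ sr s (sr r x) = sr (kN r s) x) ∧
      (sg s x * sg r (sr s x) = 0 ∨ sr r (sr s x) = sr (kN r s) x) ∧
      sg (kN r s) x * sg r (sr (kN r s) x) = 0 := by
  have := comm_spec hr hs h (code_lt x)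
  unfold commCheck at this
  simp only [hk, if_false, Bool.and_eq_true, Bool.or_eq_true, beq_iff_eq] at this
  have hk' := kN_lt hr hs hk
  rw [sg_sr hr, sg_sr hs, sr_sr hr, sr_sr hs, sg_sr hk']
  obtain ⟨⟨⟨h1, h2⟩, h3⟩, h4⟩ := this
  refine ⟨h1, ?_, ?_, h4⟩
  · rcases h2 with h2 | h2
    · exact Or.inl h2
    · exact Or.inr (congrArg dec h2)
  · rcases h3 with h3 | h3
    · exact Or.inl h3
    · exact Or.inr (congrArg dec h3)

theorem row_sq {r : ℕ} (hr : r < 72) (x : I27) : sg r x * sg r (sr r x) = 0 := by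
  have := allLt_spec (allLt_spec sq_all r hr) _ (code_lt x)
  simp only [Bool.or_eq_true, beq_iff_eq] at this
  rw [sg_sr hr]
  rcases this with h | h
  · unfold sg; rw [h, zero_mul]
  · rw [h, mul_zero]

theorem row_opp {r : ℕ} (hr : r < 72) {x : I27} (hx : sg r x ≠ 0) :
    sr (71 - r) (sr r x) = x ∧ sg r x * sg (71 - r) (sr r x) = 1 ∧ sg (71 - r) x = 0 := by
  have := allLt_spec (allLt_spec opp_all r hr) _ (code_lt x)
  simp only [Bool.or_eq_true, Bool.and_eq_true, beq_iff_eq] at this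
  rw [sg_sr hr, sr_sr hr]
  rcases this with h | h
  · exact absurd h hx
  · refine ⟨?_, h.1.2, h.2⟩
    rw [h.1.1, dec_code]

/-- indicator of the non-zero rows of `N_r` -/
def ind (r : ℕ) (x : I27) : ℤ := indN r (code x)

theorem ind_of_ne {r : ℕ} {x : I27} (h : sg r x ≠ 0) : ind r x = 1 := if_neg h

theorem ind_of_eq {r : ℕ} {x : I27} (h : sg r x = 0) : ind r x = 0 := if_pos h

theorem row_wt {r : ℕ} (hr : r < 72) (x : I27) :
    ind r x - ind (71 - r) x = ∑ i ∈ Finset.range 6, coN r i * wt x i := by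
  have := allLt_spec (allLt_spec wt_all r hr) _ (code_lt x)
  rw [beq_iff_eq] at this
  simp only [Finset.sum_range_succ, Finset.sum_range_zero, zero_add]
  exact this

theorem row_car {r : ℕ} (hr : r < 72) {i : ℕ} (hi : i < 6) {x : I27} (hx : sg r x ≠ 0) :
    wt x i - wt (sr r x) i = carN i r := by
  have := allLt_spec (allLt_spec (allLt_spec car_all r hr) _ (code_lt x)) i hi
  simp only [Bool.or_eq_true, beq_iff_eq] at this
  unfold wt
  rw [code_sr hr]
  rcases this with h | h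
  · exact absurd h hx
  · exact h

theorem neg_eq {r : ℕ} (hr : r < 72) : chevE6.negIdx.getD r 0 = 71 - r := by
  have := allLt_spec neg_all r hr
  exact beq_iff_eq.mp this

/-! ### matrices -/

section matrices

variable (F : Type*) [CommRing F]

/-- the operator `N_r` -/
def Nm (r : ℕ) : Matrix I27 I27 F := Matrix.of fun x y => if y = sr r x then ((sg r x : ℤ) : F) else 0

/-- the operator `H_i` -/
def Hm (i : ℕ) : Matrix I27 I27 F := Matrix.diagonal fun x => ((wt x i : ℤ) : F)

variable {F}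

theorem Nm_apply (r : ℕ) (x y : I27) : Nm F r x y = if y = sr r x then ((sg r x : ℤ) : F) else 0 := rfl

theorem Hm_apply (i : ℕ) (x y : I27) : Hm F i x y = if x = y then ((wt x i : ℤ) : F) else 0 := by
  unfold Hm; rw [Matrix.diagonal_apply]

theorem Nm_mulVec (r : ℕ) (v : I27 → F) (x : I27) : (Nm F r *ᵥ v) x = ((sg r x : ℤ) : F) * v (sr r x) := by
  simp [Matrix.mulVec, dotProduct, Nm_apply]

theorem Nm_mul_apply (r : ℕ) (M : Matrix I27 I27 F) (x y : I27) :
    (Nm F r * M) x y = ((sg r x : ℤ) : F) * M (sr r x) y := by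
  simp [Matrix.mul_apply, Nm_apply]

theorem Nm_mul_Nm (r s : ℕ) (x y : I27) :
    (Nm F r * Nm F s) x y = if y = sr s (sr r x) then ((sg r x * sg s (sr r x) : ℤ) : F) else 0 := by
  rw [Nm_mul_apply, Nm_apply]
  split_ifs with h
  · push_cast; rfl
  · rw [mul_zero]

theorem ite_cast_congr {a b y : I27} {m n : ℤ} (h : m = n) (h2 : m = 0 ∨ a = b) :
    (if y = a then (m : F) else 0) = (if y = b then (n : F) else 0) := by
  subst h
  rcases h2 with h2 | h2
  · subst h2; simp
  · subst h2; rfl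

theorem Nm_comm_of_none {r s : ℕ} (hr : r < 72) (hs : s < 72) (h : s + r ≠ 71) (hk : kN r s = 127) :
    Nm F r * Nm F s = Nm F s * Nm F r := by
  ext x y
  rw [Nm_mul_Nm, Nm_mul_Nm]
  obtain ⟨h1, h2⟩ := row_comm_of_none hr hs h hk x
  exact ite_cast_congr h1 h2

theorem Nm_comm_of_some {r s : ℕ} (hr : r < 72) (hs : s < 72) (h : s + r ≠ 71) (hk : kN r s ≠ 127) :
    Nm F r * Nm F s - Nm F s * Nm F r = ((cN r s : ℤ) : F) • Nm F (kN r s) := by
  ext x y
  rw [Matrix.sub_apply, Nm_mul_Nm, Nm_mul_Nm, Matrix.smul_apply, Nm_apply, smul_eq_mul]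
  obtain ⟨h1, h2, h3, -⟩ := row_comm_of_some hr hs h hk x
  rw [ite_cast_congr (y := y) rfl h2, ite_cast_congr (y := y) rfl h3]
  split_ifs with h
  · rw [← Int.cast_sub, h1, Int.cast_mul]
  · simp

theorem Nm_mul_eq_zero_of_sum {r s : ℕ} (hr : r < 72) (hs : s < 72) (h : s + r ≠ 71) (hk : kN r s ≠ 127) :
    Nm F (kN r s) * Nm F r = 0 := by
  ext x y
  rw [Nm_mul_Nm, (row_comm_of_some hr hs h hk x).2.2.2]
  simp

theorem Nm_sq {r : ℕ} (hr : r < 72) : Nm F r * Nm F r = 0 := by
  ext x y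
  rw [Nm_mul_Nm, row_sq hr]
  simp

theorem Nm_mul_opp {r : ℕ} (hr : r < 72) :
    Nm F r * Nm F (71 - r) = Matrix.diagonal fun x => ((ind r x : ℤ) : F) := by
  ext x y
  rw [Nm_mul_Nm, Matrix.diagonal_apply]
  by_cases hx : sg r x = 0
  · rw [hx, ind_of_eq hx]; simp
  · obtain ⟨h1, h2, -⟩ := row_opp hr hx
    rw [h1, h2, ind_of_ne hx]
    simp [eq_comm]

theorem opp_opp {r : ℕ} (hr : r < 72) : 71 - (71 - r) = r := by omega

theorem Nm_opp_mul {r : ℕ} (hr : r < 72) :
    Nm F (71 - r) * Nm F r = Matrix.diagonal fun x => ((ind (71 - r) x : ℤ) : F) := by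
  have := Nm_mul_opp (F := F) (r := 71 - r) (by omega)
  rwa [opp_opp hr] at this

theorem Nm_mul_opp_mul {r : ℕ} (hr : r < 72) : Nm F r * Nm F (71 - r) * Nm F r = Nm F r := by
  rw [Nm_mul_opp hr]
  ext x y
  rw [Matrix.diagonal_mul, Nm_apply]
  by_cases hx : sg r x = 0
  · rw [hx]; simp
  · rw [ind_of_ne hx]; simp

theorem Nm_bracket_opp {r : ℕ} (hr : r < 72) :
    Nm F r * Nm F (71 - r) - Nm F (71 - r) * Nm F r = ∑ i ∈ Finset.range 6, ((coN r i : ℤ) : F) • Hm F i := by
  rw [Nm_mul_opp hr, Nm_opp_mul hr]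
  ext x y
  rw [Matrix.sub_apply, Matrix.diagonal_apply, Matrix.diagonal_apply, Matrix.sum_apply]
  simp only [Matrix.smul_apply, Hm_apply, smul_eq_mul]
  by_cases hxy : x = y
  · simp only [hxy, if_true]
    rw [← Int.cast_sub, row_wt hr]
    push_cast
    rfl
  · simp [hxy]

theorem Nm_bracket_opp_mul {r : ℕ} (hr : r < 72) :
    (∑ i ∈ Finset.range 6, ((coN r i : ℤ) : F) • Hm F i) * Nm F r = Nm F r := by
  rw [← Nm_bracket_opp hr, sub_mul, Nm_mul_opp_mul hr, mul_assoc, Nm_sq hr, mul_zero, sub_zero]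

theorem Hm_comm {r : ℕ} (hr : r < 72) {i : ℕ} (hi : i < 6) :
    Hm F i * Nm F r - Nm F r * Hm F i = ((carN i r : ℤ) : F) • Nm F r := by
  ext x y
  unfold Hm
  rw [Matrix.sub_apply, Matrix.diagonal_mul, Matrix.mul_diagonal, Matrix.smul_apply, Nm_apply, smul_eq_mul]
  by_cases hx : sg r x = 0
  · rw [hx]; simp
  · by_cases hy : y = sr r x
    · subst hy
      rw [if_pos rfl, ← row_car hr hi hx]
      push_cast; ring
    · rw [if_neg hy]; simp

end matrices

/-! ### the root elements -/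

section elements

variable {F : Type*} [CommRing F]

/-- `z_r(t) = 1 + t N_r` as a matrix -/
def zM (r : ℕ) (t : F) : Matrix I27 I27 F := 1 + t • Nm F r

theorem zM_def (r : ℕ) (t : F) : zM r t = 1 + t • Nm F r := rfl

theorem zM_zero (r : ℕ) : zM r (0 : F) = 1 := by rw [zM_def, zero_smul, add_zero]

theorem zM_mul {r : ℕ} (hr : r < 72) (t u : F) : zM r t * zM r u = zM r (t + u) := by
  simp only [zM_def, mul_add, add_mul, mul_one, one_mul, smul_mul_smul_comm, Nm_sq hr, smul_zero, add_zero, add_smul]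
  abel

theorem zM_mulVec (r : ℕ) (t : F) (v : I27 → F) (x : I27) :
    (zM r t *ᵥ v) x = v x + t * (((sg r x : ℤ) : F) * v (sr r x)) := by
  rw [zM_def, Matrix.add_mulVec, Matrix.one_mulVec, Matrix.smul_mulVec, Pi.add_apply, Pi.smul_apply,
    Nm_mulVec, smul_eq_mul]

/-- `z_r(t)` as an element of the general linear group (the identity for `r` out of range) -/
def zU (r : ℕ) (t : F) : GL I27 F :=
  if hr : r < 72 then
    ⟨zM r t, zM r (-t), by rw [zM_mul hr, add_neg_cancel, zM_zero], by rw [zM_mul hr, neg_add_cancel, zM_zero]⟩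
  else 1

theorem coe_zU {r : ℕ} (hr : r < 72) (t : F) : ((zU r t : GL I27 F) : Matrix I27 I27 F) = zM r t := by
  unfold zU; rw [dif_pos hr]

/-- the group generated by the root elements -/
def Zgrp (F : Type*) [CommRing F] : Subgroup (GL I27 F) :=
  Subgroup.closure {g | ∃ (r : ℕ) (t : F), r < 72 ∧ (g : Matrix I27 I27 F) = zM r t}

theorem zU_mem (r : ℕ) (t : F) : zU r t ∈ Zgrp F := by
  by_cases hr : r < 72
  · exact Subgroup.subset_closure ⟨r, t, hr, coe_zU hr t⟩
  · unfold zU; rw [dif_neg hr]; exact one_mem _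

end elements

end Cfsg.Agent.ChevalleyStructure.E6Min.Basic
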