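import Cfsg.Agent.ChevalleyStructure.E6Min.Tables

/-!
# Kernel check of the commutator table of the 27-dimensional module of E₆, part 3
-/

set_option autoImplicit false

namespace Cfsg.Agent.ChevalleyStructure.E6Min.CheckC3

open Cfsg.Lie Cfsg.Agent.ChevalleyStructure.E6Min.Tables

/-- the commutator check for `r, s` with `s ≠ -r` (`71 - r` is the index of `-r`) -/
def cc (r s j : ℕ) : Bool :=
  let a := srN s (srN r j)
  let al := sgN r j * sgN s (srN r j)
  let b := srN r (srN s j)
  let be := sgN s j * sgN r (srN s j)
  if kN r s = 127 then
    (al == be) && ((al == 0) || (a == b))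
  else
    let k := kN r s
    let d := srN k j
    let ga := cN r s * sgN k j
    (al - be == ga) && ((al == 0) || (a == d)) && ((be == 0) || (b == d)) &&
      (sgN k j * sgN r (srN k j) == 0)

theorem comm : allLt 18 (fun r => allLt 72 fun s => (s + (r + 54) == 71) || allLt 27 fun j => cc (r + 54) s j) = true := by
  decide +kernel

end Cfsg.Agent.ChevalleyStructure.E6Min.CheckC3
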