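import Cfsg.Agent.ChevalleyStructure.E6Min.CheckC0
import Cfsg.Agent.ChevalleyStructure.E6Min.CheckC1
import Cfsg.Agent.ChevalleyStructure.E6Min.CheckC2
import Cfsg.Agent.ChevalleyStructure.E6Min.CheckC3

/-!
# Kernel checks of the tables of the 27-dimensional module of E₆
-/

set_option autoImplicit false

namespace Cfsg.Agent.ChevalleyStructure.E6Min.Checks

open Cfsg.Lie Cfsg.Agent.ChevalleyStructure.E6Min.Tables

theorem srN_lt_all : allLt 72 (fun r => allLt 27 fun j => Nat.blt (srN r j) 27) = true := by decide +kernel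

theorem kN_all : allLt 72 (fun r => allLt 72 fun s => Nat.blt (kN r s) 72 || (kN r s == 127)) = true := by
  decide +kernel

/-- the commutator check for `r, s` with `s ≠ -r` (`71 - r` is the index of `-r`) -/
def commCheck (r s j : ℕ) : Bool :=
  let a := srN s (srN r j)
  let al := sgN r j * sgN s (srN r j)
  let b := srN r (srN s j)
  let be := sgN s j * sgN r (srN s j)
  if kN r s = 127 then
    (al == be) && ((al == 0) || (a == b))
  else
    let k := kN r s
    let d := srN k j
    let ga := cN r s * sgN k j
    (al - be == ga) && ((al == 0) || (a == d)) && ((be == 0) || (b == d)) &&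
      (sgN k j * sgN r (srN k j) == 0)

theorem allLt_intro {n : ℕ} {p : ℕ → Bool} (h : ∀ k, k < n → p k = true) : allLt n p = true := by
  induction n with
  | zero => rfl
  | succ n ih =>
    have h' : allLt (n + 1) p = (p n && allLt n p) := rfl
    rw [h', h n (by omega), ih fun k hk => h k (by omega)]
    rfl

theorem comm_all : allLt 72 (fun r => allLt 72 fun s => (s + r == 71) || allLt 27 fun j => commCheck r s j) = true := by
  apply allLt_intro
  intro r hr
  rcases Nat.lt_or_ge r 18 with h | h
  · exact allLt_spec CheckC0.comm r h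
  rcases Nat.lt_or_ge r 36 with h | h
  · obtain ⟨k, rfl⟩ : ∃ k, r = k + 18 := ⟨r - 18, by omega⟩
    exact allLt_spec CheckC1.comm k (by omega)
  rcases Nat.lt_or_ge r 54 with h | h
  · obtain ⟨k, rfl⟩ : ∃ k, r = k + 36 := ⟨r - 36, by omega⟩
    exact allLt_spec CheckC2.comm k (by omega)
  · obtain ⟨k, rfl⟩ : ∃ k, r = k + 54 := ⟨r - 54, by omega⟩
    exact allLt_spec CheckC3.comm k (by omega)

end Cfsg.Agent.ChevalleyStructure.E6Min.Checks
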