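import Cfsg.Agent.ChevalleyStructure.E6Min.Expand

/-!
# The root elements `1 + t N_r` preserve the cubic form (roots 18 to 35)
-/

set_option autoImplicit false

namespace Cfsg.Agent.ChevalleyStructure.E6Min.Inv2

open Cfsg.Lie Cfsg.Agent.ChevalleyStructure.E6Min.Tables Cfsg.Agent.ChevalleyStructure.E6Min.Basic
  Cfsg.Agent.ChevalleyStructure.E6Min.Expand

theorem inv_18 {F : Type*} [CommRing F] (t : F) (v : I27 → F) : cubicT (zv 18 t v) = cubicT v := by
  have h0 : zv 18 t v (0, 0, 0) = v (0, 0, 0) := by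
    rw [zv_def, show sg 18 (0, 0, 0) = 0 from by decide +kernel]; simp
  have h1 : zv 18 t v (0, 0, 1) = v (0, 0, 1) - t * v (1, 2, 0) := by
    rw [zv_def, show sg 18 (0, 0, 1) = -1 from by decide +kernel, show sr 18 (0, 0, 1) = (1, 2, 0) from by decide +kernel]; push_cast; ring
  have h2 : zv 18 t v (0, 0, 2) = v (0, 0, 2) + t * v (1, 1, 0) := by
    rw [zv_def, show sg 18 (0, 0, 2) = 1 from by decide +kernel, show sr 18 (0, 0, 2) = (1, 1, 0) from by decide +kernel]; simp
  have h3 : zv 18 t v (0, 1, 0) = v (0, 1, 0) := by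
    rw [zv_def, show sg 18 (0, 1, 0) = 0 from by decide +kernel]; simp
  have h4 : zv 18 t v (0, 1, 1) = v (0, 1, 1) := by
    rw [zv_def, show sg 18 (0, 1, 1) = 0 from by decide +kernel]; simp
  have h5 : zv 18 t v (0, 1, 2) = v (0, 1, 2) := by
    rw [zv_def, show sg 18 (0, 1, 2) = 0 from by decide +kernel]; simp
  have h6 : zv 18 t v (0, 2, 0) = v (0, 2, 0) := by
    rw [zv_def, show sg 18 (0, 2, 0) = 0 from by decide +kernel]; simp
  have h7 : zv 18 t v (0, 2, 1) = v (0, 2, 1) := by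
    rw [zv_def, show sg 18 (0, 2, 1) = 0 from by decide +kernel]; simp
  have h8 : zv 18 t v (0, 2, 2) = v (0, 2, 2) := by
    rw [zv_def, show sg 18 (0, 2, 2) = 0 from by decide +kernel]; simp
  have h9 : zv 18 t v (1, 0, 0) = v (1, 0, 0) := by
    rw [zv_def, show sg 18 (1, 0, 0) = 0 from by decide +kernel]; simp
  have h10 : zv 18 t v (1, 0, 1) = v (1, 0, 1) - t * v (2, 2, 0) := by
    rw [zv_def, show sg 18 (1, 0, 1) = -1 from by decide +kernel, show sr 18 (1, 0, 1) = (2, 2, 0) from by decide +kernel]; push_cast; ring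
  have h11 : zv 18 t v (1, 0, 2) = v (1, 0, 2) + t * v (2, 1, 0) := by
    rw [zv_def, show sg 18 (1, 0, 2) = 1 from by decide +kernel, show sr 18 (1, 0, 2) = (2, 1, 0) from by decide +kernel]; simp
  have h12 : zv 18 t v (1, 1, 0) = v (1, 1, 0) := by
    rw [zv_def, show sg 18 (1, 1, 0) = 0 from by decide +kernel]; simp
  have h13 : zv 18 t v (1, 1, 1) = v (1, 1, 1) := by
    rw [zv_def, show sg 18 (1, 1, 1) = 0 from by decide +kernel]; simp
  have h14 : zv 18 t v (1, 1, 2) = v (1, 1, 2) := by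
    rw [zv_def, show sg 18 (1, 1, 2) = 0 from by decide +kernel]; simp
  have h15 : zv 18 t v (1, 2, 0) = v (1, 2, 0) := by
    rw [zv_def, show sg 18 (1, 2, 0) = 0 from by decide +kernel]; simp
  have h16 : zv 18 t v (1, 2, 1) = v (1, 2, 1) := by
    rw [zv_def, show sg 18 (1, 2, 1) = 0 from by decide +kernel]; simp
  have h17 : zv 18 t v (1, 2, 2) = v (1, 2, 2) := by
    rw [zv_def, show sg 18 (1, 2, 2) = 0 from by decide +kernel]; simp
  have h18 : zv 18 t v (2, 0, 0) = v (2, 0, 0) := by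
    rw [zv_def, show sg 18 (2, 0, 0) = 0 from by decide +kernel]; simp
  have h19 : zv 18 t v (2, 0, 1) = v (2, 0, 1) - t * v (0, 2, 0) := by
    rw [zv_def, show sg 18 (2, 0, 1) = -1 from by decide +kernel, show sr 18 (2, 0, 1) = (0, 2, 0) from by decide +kernel]; push_cast; ring
  have h20 : zv 18 t v (2, 0, 2) = v (2, 0, 2) + t * v (0, 1, 0) := by
    rw [zv_def, show sg 18 (2, 0, 2) = 1 from by decide +kernel, show sr 18 (2, 0, 2) = (0, 1, 0) from by decide +kernel]; simp
  have h21 : zv 18 t v (2, 1, 0) = v (2, 1, 0) := by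
    rw [zv_def, show sg 18 (2, 1, 0) = 0 from by decide +kernel]; simp
  have h22 : zv 18 t v (2, 1, 1) = v (2, 1, 1) := by
    rw [zv_def, show sg 18 (2, 1, 1) = 0 from by decide +kernel]; simp
  have h23 : zv 18 t v (2, 1, 2) = v (2, 1, 2) := by
    rw [zv_def, show sg 18 (2, 1, 2) = 0 from by decide +kernel]; simp
  have h24 : zv 18 t v (2, 2, 0) = v (2, 2, 0) := by
    rw [zv_def, show sg 18 (2, 2, 0) = 0 from by decide +kernel]; simp
  have h25 : zv 18 t v (2, 2, 1) = v (2, 2, 1) := by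
    rw [zv_def, show sg 18 (2, 2, 1) = 0 from by decide +kernel]; simp
  have h26 : zv 18 t v (2, 2, 2) = v (2, 2, 2) := by
    rw [zv_def, show sg 18 (2, 2, 2) = 0 from by decide +kernel]; simp
  rw [cubicT_expand, cubicT_expand]
  simp only [h0, h1, h2, h3, h4, h5, h6, h7, h8, h9, h10, h11, h12, h13, h14, h15, h16, h17, h18, h19, h20, h21, h22, h23, h24, h25, h26]
  ring

theorem inv_19 {F : Type*} [CommRing F] (t : F) (v : I27 → F) : cubicT (zv 19 t v) = cubicT v := by
  have h0 : zv 19 t v (0, 0, 0) = v (0, 0, 0) - t * v (2, 1, 2) := by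
    rw [zv_def, show sg 19 (0, 0, 0) = -1 from by decide +kernel, show sr 19 (0, 0, 0) = (2, 1, 2) from by decide +kernel]; push_cast; ring
  have h1 : zv 19 t v (0, 0, 1) = v (0, 0, 1) := by
    rw [zv_def, show sg 19 (0, 0, 1) = 0 from by decide +kernel]; simp
  have h2 : zv 19 t v (0, 0, 2) = v (0, 0, 2) := by
    rw [zv_def, show sg 19 (0, 0, 2) = 0 from by decide +kernel]; simp
  have h3 : zv 19 t v (0, 1, 0) = v (0, 1, 0) := by
    rw [zv_def, show sg 19 (0, 1, 0) = 0 from by decide +kernel]; simp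
  have h4 : zv 19 t v (0, 1, 1) = v (0, 1, 1) := by
    rw [zv_def, show sg 19 (0, 1, 1) = 0 from by decide +kernel]; simp
  have h5 : zv 19 t v (0, 1, 2) = v (0, 1, 2) := by
    rw [zv_def, show sg 19 (0, 1, 2) = 0 from by decide +kernel]; simp
  have h6 : zv 19 t v (0, 2, 0) = v (0, 2, 0) + t * v (2, 1, 0) := by
    rw [zv_def, show sg 19 (0, 2, 0) = 1 from by decide +kernel, show sr 19 (0, 2, 0) = (2, 1, 0) from by decide +kernel]; simp
  have h7 : zv 19 t v (0, 2, 1) = v (0, 2, 1) := by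
    rw [zv_def, show sg 19 (0, 2, 1) = 0 from by decide +kernel]; simp
  have h8 : zv 19 t v (0, 2, 2) = v (0, 2, 2) := by
    rw [zv_def, show sg 19 (0, 2, 2) = 0 from by decide +kernel]; simp
  have h9 : zv 19 t v (1, 0, 0) = v (1, 0, 0) := by
    rw [zv_def, show sg 19 (1, 0, 0) = 0 from by decide +kernel]; simp
  have h10 : zv 19 t v (1, 0, 1) = v (1, 0, 1) := by
    rw [zv_def, show sg 19 (1, 0, 1) = 0 from by decide +kernel]; simp
  have h11 : zv 19 t v (1, 0, 2) = v (1, 0, 2) := by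
    rw [zv_def, show sg 19 (1, 0, 2) = 0 from by decide +kernel]; simp
  have h12 : zv 19 t v (1, 1, 0) = v (1, 1, 0) := by
    rw [zv_def, show sg 19 (1, 1, 0) = 0 from by decide +kernel]; simp
  have h13 : zv 19 t v (1, 1, 1) = v (1, 1, 1) + t * v (0, 1, 2) := by
    rw [zv_def, show sg 19 (1, 1, 1) = 1 from by decide +kernel, show sr 19 (1, 1, 1) = (0, 1, 2) from by decide +kernel]; simp
  have h14 : zv 19 t v (1, 1, 2) = v (1, 1, 2) := by
    rw [zv_def, show sg 19 (1, 1, 2) = 0 from by decide +kernel]; simp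
  have h15 : zv 19 t v (1, 2, 0) = v (1, 2, 0) := by
    rw [zv_def, show sg 19 (1, 2, 0) = 0 from by decide +kernel]; simp
  have h16 : zv 19 t v (1, 2, 1) = v (1, 2, 1) - t * v (0, 1, 1) := by
    rw [zv_def, show sg 19 (1, 2, 1) = -1 from by decide +kernel, show sr 19 (1, 2, 1) = (0, 1, 1) from by decide +kernel]; push_cast; ring
  have h17 : zv 19 t v (1, 2, 2) = v (1, 2, 2) := by
    rw [zv_def, show sg 19 (1, 2, 2) = 0 from by decide +kernel]; simp
  have h18 : zv 19 t v (2, 0, 0) = v (2, 0, 0) := by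
    rw [zv_def, show sg 19 (2, 0, 0) = 0 from by decide +kernel]; simp
  have h19 : zv 19 t v (2, 0, 1) = v (2, 0, 1) - t * v (1, 0, 2) := by
    rw [zv_def, show sg 19 (2, 0, 1) = -1 from by decide +kernel, show sr 19 (2, 0, 1) = (1, 0, 2) from by decide +kernel]; push_cast; ring
  have h20 : zv 19 t v (2, 0, 2) = v (2, 0, 2) := by
    rw [zv_def, show sg 19 (2, 0, 2) = 0 from by decide +kernel]; simp
  have h21 : zv 19 t v (2, 1, 0) = v (2, 1, 0) := by
    rw [zv_def, show sg 19 (2, 1, 0) = 0 from by decide +kernel]; simp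
  have h22 : zv 19 t v (2, 1, 1) = v (2, 1, 1) := by
    rw [zv_def, show sg 19 (2, 1, 1) = 0 from by decide +kernel]; simp
  have h23 : zv 19 t v (2, 1, 2) = v (2, 1, 2) := by
    rw [zv_def, show sg 19 (2, 1, 2) = 0 from by decide +kernel]; simp
  have h24 : zv 19 t v (2, 2, 0) = v (2, 2, 0) := by
    rw [zv_def, show sg 19 (2, 2, 0) = 0 from by decide +kernel]; simp
  have h25 : zv 19 t v (2, 2, 1) = v (2, 2, 1) + t * v (1, 0, 0) := by
    rw [zv_def, show sg 19 (2, 2, 1) = 1 from by decide +kernel, show sr 19 (2, 2, 1) = (1, 0, 0) from by decide +kernel]; simp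
  have h26 : zv 19 t v (2, 2, 2) = v (2, 2, 2) := by
    rw [zv_def, show sg 19 (2, 2, 2) = 0 from by decide +kernel]; simp
  rw [cubicT_expand, cubicT_expand]
  simp only [h0, h1, h2, h3, h4, h5, h6, h7, h8, h9, h10, h11, h12, h13, h14, h15, h16, h17, h18, h19, h20, h21, h22, h23, h24, h25, h26]
  ring

theorem inv_20 {F : Type*} [CommRing F] (t : F) (v : I27 → F) : cubicT (zv 20 t v) = cubicT v := by
  have h0 : zv 20 t v (0, 0, 0) = v (0, 0, 0) := by
    rw [zv_def, show sg 20 (0, 0, 0) = 0 from by decide +kernel]; simp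
  have h1 : zv 20 t v (0, 0, 1) = v (0, 0, 1) + t * v (2, 1, 2) := by
    rw [zv_def, show sg 20 (0, 0, 1) = 1 from by decide +kernel, show sr 20 (0, 0, 1) = (2, 1, 2) from by decide +kernel]; simp
  have h2 : zv 20 t v (0, 0, 2) = v (0, 0, 2) := by
    rw [zv_def, show sg 20 (0, 0, 2) = 0 from by decide +kernel]; simp
  have h3 : zv 20 t v (0, 1, 0) = v (0, 1, 0) := by
    rw [zv_def, show sg 20 (0, 1, 0) = 0 from by decide +kernel]; simp
  have h4 : zv 20 t v (0, 1, 1) = v (0, 1, 1) := by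
    rw [zv_def, show sg 20 (0, 1, 1) = 0 from by decide +kernel]; simp
  have h5 : zv 20 t v (0, 1, 2) = v (0, 1, 2) := by
    rw [zv_def, show sg 20 (0, 1, 2) = 0 from by decide +kernel]; simp
  have h6 : zv 20 t v (0, 2, 0) = v (0, 2, 0) := by
    rw [zv_def, show sg 20 (0, 2, 0) = 0 from by decide +kernel]; simp
  have h7 : zv 20 t v (0, 2, 1) = v (0, 2, 1) - t * v (2, 1, 0) := by
    rw [zv_def, show sg 20 (0, 2, 1) = -1 from by decide +kernel, show sr 20 (0, 2, 1) = (2, 1, 0) from by decide +kernel]; push_cast; ring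
  have h8 : zv 20 t v (0, 2, 2) = v (0, 2, 2) := by
    rw [zv_def, show sg 20 (0, 2, 2) = 0 from by decide +kernel]; simp
  have h9 : zv 20 t v (1, 0, 0) = v (1, 0, 0) := by
    rw [zv_def, show sg 20 (1, 0, 0) = 0 from by decide +kernel]; simp
  have h10 : zv 20 t v (1, 0, 1) = v (1, 0, 1) + t * v (0, 1, 2) := by
    rw [zv_def, show sg 20 (1, 0, 1) = 1 from by decide +kernel, show sr 20 (1, 0, 1) = (0, 1, 2) from by decide +kernel]; simp
  have h11 : zv 20 t v (1, 0, 2) = v (1, 0, 2) := by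
    rw [zv_def, show sg 20 (1, 0, 2) = 0 from by decide +kernel]; simp
  have h12 : zv 20 t v (1, 1, 0) = v (1, 1, 0) := by
    rw [zv_def, show sg 20 (1, 1, 0) = 0 from by decide +kernel]; simp
  have h13 : zv 20 t v (1, 1, 1) = v (1, 1, 1) := by
    rw [zv_def, show sg 20 (1, 1, 1) = 0 from by decide +kernel]; simp
  have h14 : zv 20 t v (1, 1, 2) = v (1, 1, 2) := by
    rw [zv_def, show sg 20 (1, 1, 2) = 0 from by decide +kernel]; simp
  have h15 : zv 20 t v (1, 2, 0) = v (1, 2, 0) := by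
    rw [zv_def, show sg 20 (1, 2, 0) = 0 from by decide +kernel]; simp
  have h16 : zv 20 t v (1, 2, 1) = v (1, 2, 1) - t * v (0, 1, 0) := by
    rw [zv_def, show sg 20 (1, 2, 1) = -1 from by decide +kernel, show sr 20 (1, 2, 1) = (0, 1, 0) from by decide +kernel]; push_cast; ring
  have h17 : zv 20 t v (1, 2, 2) = v (1, 2, 2) := by
    rw [zv_def, show sg 20 (1, 2, 2) = 0 from by decide +kernel]; simp
  have h18 : zv 20 t v (2, 0, 0) = v (2, 0, 0) := by
    rw [zv_def, show sg 20 (2, 0, 0) = 0 from by decide +kernel]; simp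
  have h19 : zv 20 t v (2, 0, 1) = v (2, 0, 1) + t * v (1, 1, 2) := by
    rw [zv_def, show sg 20 (2, 0, 1) = 1 from by decide +kernel, show sr 20 (2, 0, 1) = (1, 1, 2) from by decide +kernel]; simp
  have h20 : zv 20 t v (2, 0, 2) = v (2, 0, 2) := by
    rw [zv_def, show sg 20 (2, 0, 2) = 0 from by decide +kernel]; simp
  have h21 : zv 20 t v (2, 1, 0) = v (2, 1, 0) := by
    rw [zv_def, show sg 20 (2, 1, 0) = 0 from by decide +kernel]; simp
  have h22 : zv 20 t v (2, 1, 1) = v (2, 1, 1) := by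
    rw [zv_def, show sg 20 (2, 1, 1) = 0 from by decide +kernel]; simp
  have h23 : zv 20 t v (2, 1, 2) = v (2, 1, 2) := by
    rw [zv_def, show sg 20 (2, 1, 2) = 0 from by decide +kernel]; simp
  have h24 : zv 20 t v (2, 2, 0) = v (2, 2, 0) := by
    rw [zv_def, show sg 20 (2, 2, 0) = 0 from by decide +kernel]; simp
  have h25 : zv 20 t v (2, 2, 1) = v (2, 2, 1) - t * v (1, 1, 0) := by
    rw [zv_def, show sg 20 (2, 2, 1) = -1 from by decide +kernel, show sr 20 (2, 2, 1) = (1, 1, 0) from by decide +kernel]; push_cast; ring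
  have h26 : zv 20 t v (2, 2, 2) = v (2, 2, 2) := by
    rw [zv_def, show sg 20 (2, 2, 2) = 0 from by decide +kernel]; simp
  rw [cubicT_expand, cubicT_expand]
  simp only [h0, h1, h2, h3, h4, h5, h6, h7, h8, h9, h10, h11, h12, h13, h14, h15, h16, h17, h18, h19, h20, h21, h22, h23, h24, h25, h26]
  ring

theorem inv_21 {F : Type*} [CommRing F] (t : F) (v : I27 → F) : cubicT (zv 21 t v) = cubicT v := by
  have h0 : zv 21 t v (0, 0, 0) = v (0, 0, 0) := by
    rw [zv_def, show sg 21 (0, 0, 0) = 0 from by decide +kernel]; simp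
  have h1 : zv 21 t v (0, 0, 1) = v (0, 0, 1) := by
    rw [zv_def, show sg 21 (0, 0, 1) = 0 from by decide +kernel]; simp
  have h2 : zv 21 t v (0, 0, 2) = v (0, 0, 2) - t * v (2, 1, 2) := by
    rw [zv_def, show sg 21 (0, 0, 2) = -1 from by decide +kernel, show sr 21 (0, 0, 2) = (2, 1, 2) from by decide +kernel]; push_cast; ring
  have h3 : zv 21 t v (0, 1, 0) = v (0, 1, 0) := by
    rw [zv_def, show sg 21 (0, 1, 0) = 0 from by decide +kernel]; simp
  have h4 : zv 21 t v (0, 1, 1) = v (0, 1, 1) := by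
    rw [zv_def, show sg 21 (0, 1, 1) = 0 from by decide +kernel]; simp
  have h5 : zv 21 t v (0, 1, 2) = v (0, 1, 2) := by
    rw [zv_def, show sg 21 (0, 1, 2) = 0 from by decide +kernel]; simp
  have h6 : zv 21 t v (0, 2, 0) = v (0, 2, 0) := by
    rw [zv_def, show sg 21 (0, 2, 0) = 0 from by decide +kernel]; simp
  have h7 : zv 21 t v (0, 2, 1) = v (0, 2, 1) := by
    rw [zv_def, show sg 21 (0, 2, 1) = 0 from by decide +kernel]; simp
  have h8 : zv 21 t v (0, 2, 2) = v (0, 2, 2) + t * v (2, 1, 0) := by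
    rw [zv_def, show sg 21 (0, 2, 2) = 1 from by decide +kernel, show sr 21 (0, 2, 2) = (2, 1, 0) from by decide +kernel]; simp
  have h9 : zv 21 t v (1, 0, 0) = v (1, 0, 0) := by
    rw [zv_def, show sg 21 (1, 0, 0) = 0 from by decide +kernel]; simp
  have h10 : zv 21 t v (1, 0, 1) = v (1, 0, 1) + t * v (0, 1, 1) := by
    rw [zv_def, show sg 21 (1, 0, 1) = 1 from by decide +kernel, show sr 21 (1, 0, 1) = (0, 1, 1) from by decide +kernel]; simp
  have h11 : zv 21 t v (1, 0, 2) = v (1, 0, 2) := by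
    rw [zv_def, show sg 21 (1, 0, 2) = 0 from by decide +kernel]; simp
  have h12 : zv 21 t v (1, 1, 0) = v (1, 1, 0) := by
    rw [zv_def, show sg 21 (1, 1, 0) = 0 from by decide +kernel]; simp
  have h13 : zv 21 t v (1, 1, 1) = v (1, 1, 1) - t * v (0, 1, 0) := by
    rw [zv_def, show sg 21 (1, 1, 1) = -1 from by decide +kernel, show sr 21 (1, 1, 1) = (0, 1, 0) from by decide +kernel]; push_cast; ring
  have h14 : zv 21 t v (1, 1, 2) = v (1, 1, 2) := by
    rw [zv_def, show sg 21 (1, 1, 2) = 0 from by decide +kernel]; simp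
  have h15 : zv 21 t v (1, 2, 0) = v (1, 2, 0) := by
    rw [zv_def, show sg 21 (1, 2, 0) = 0 from by decide +kernel]; simp
  have h16 : zv 21 t v (1, 2, 1) = v (1, 2, 1) := by
    rw [zv_def, show sg 21 (1, 2, 1) = 0 from by decide +kernel]; simp
  have h17 : zv 21 t v (1, 2, 2) = v (1, 2, 2) := by
    rw [zv_def, show sg 21 (1, 2, 2) = 0 from by decide +kernel]; simp
  have h18 : zv 21 t v (2, 0, 0) = v (2, 0, 0) := by
    rw [zv_def, show sg 21 (2, 0, 0) = 0 from by decide +kernel]; simp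
  have h19 : zv 21 t v (2, 0, 1) = v (2, 0, 1) - t * v (1, 2, 2) := by
    rw [zv_def, show sg 21 (2, 0, 1) = -1 from by decide +kernel, show sr 21 (2, 0, 1) = (1, 2, 2) from by decide +kernel]; push_cast; ring
  have h20 : zv 21 t v (2, 0, 2) = v (2, 0, 2) := by
    rw [zv_def, show sg 21 (2, 0, 2) = 0 from by decide +kernel]; simp
  have h21 : zv 21 t v (2, 1, 0) = v (2, 1, 0) := by
    rw [zv_def, show sg 21 (2, 1, 0) = 0 from by decide +kernel]; simp
  have h22 : zv 21 t v (2, 1, 1) = v (2, 1, 1) := by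
    rw [zv_def, show sg 21 (2, 1, 1) = 0 from by decide +kernel]; simp
  have h23 : zv 21 t v (2, 1, 2) = v (2, 1, 2) := by
    rw [zv_def, show sg 21 (2, 1, 2) = 0 from by decide +kernel]; simp
  have h24 : zv 21 t v (2, 2, 0) = v (2, 2, 0) := by
    rw [zv_def, show sg 21 (2, 2, 0) = 0 from by decide +kernel]; simp
  have h25 : zv 21 t v (2, 2, 1) = v (2, 2, 1) + t * v (1, 2, 0) := by
    rw [zv_def, show sg 21 (2, 2, 1) = 1 from by decide +kernel, show sr 21 (2, 2, 1) = (1, 2, 0) from by decide +kernel]; simp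
  have h26 : zv 21 t v (2, 2, 2) = v (2, 2, 2) := by
    rw [zv_def, show sg 21 (2, 2, 2) = 0 from by decide +kernel]; simp
  rw [cubicT_expand, cubicT_expand]
  simp only [h0, h1, h2, h3, h4, h5, h6, h7, h8, h9, h10, h11, h12, h13, h14, h15, h16, h17, h18, h19, h20, h21, h22, h23, h24, h25, h26]
  ring

theorem inv_22 {F : Type*} [CommRing F] (t : F) (v : I27 → F) : cubicT (zv 22 t v) = cubicT v := by
  have h0 : zv 22 t v (0, 0, 0) = v (0, 0, 0) + t * v (2, 1, 1) := by
    rw [zv_def, show sg 22 (0, 0, 0) = 1 from by decide +kernel, show sr 22 (0, 0, 0) = (2, 1, 1) from by decide +kernel]; simp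
  have h1 : zv 22 t v (0, 0, 1) = v (0, 0, 1) := by
    rw [zv_def, show sg 22 (0, 0, 1) = 0 from by decide +kernel]; simp
  have h2 : zv 22 t v (0, 0, 2) = v (0, 0, 2) := by
    rw [zv_def, show sg 22 (0, 0, 2) = 0 from by decide +kernel]; simp
  have h3 : zv 22 t v (0, 1, 0) = v (0, 1, 0) - t * v (2, 1, 0) := by
    rw [zv_def, show sg 22 (0, 1, 0) = -1 from by decide +kernel, show sr 22 (0, 1, 0) = (2, 1, 0) from by decide +kernel]; push_cast; ring
  have h4 : zv 22 t v (0, 1, 1) = v (0, 1, 1) := by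
    rw [zv_def, show sg 22 (0, 1, 1) = 0 from by decide +kernel]; simp
  have h5 : zv 22 t v (0, 1, 2) = v (0, 1, 2) := by
    rw [zv_def, show sg 22 (0, 1, 2) = 0 from by decide +kernel]; simp
  have h6 : zv 22 t v (0, 2, 0) = v (0, 2, 0) := by
    rw [zv_def, show sg 22 (0, 2, 0) = 0 from by decide +kernel]; simp
  have h7 : zv 22 t v (0, 2, 1) = v (0, 2, 1) := by
    rw [zv_def, show sg 22 (0, 2, 1) = 0 from by decide +kernel]; simp
  have h8 : zv 22 t v (0, 2, 2) = v (0, 2, 2) := by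
    rw [zv_def, show sg 22 (0, 2, 2) = 0 from by decide +kernel]; simp
  have h9 : zv 22 t v (1, 0, 0) = v (1, 0, 0) := by
    rw [zv_def, show sg 22 (1, 0, 0) = 0 from by decide +kernel]; simp
  have h10 : zv 22 t v (1, 0, 1) = v (1, 0, 1) := by
    rw [zv_def, show sg 22 (1, 0, 1) = 0 from by decide +kernel]; simp
  have h11 : zv 22 t v (1, 0, 2) = v (1, 0, 2) := by
    rw [zv_def, show sg 22 (1, 0, 2) = 0 from by decide +kernel]; simp
  have h12 : zv 22 t v (1, 1, 0) = v (1, 1, 0) := by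
    rw [zv_def, show sg 22 (1, 1, 0) = 0 from by decide +kernel]; simp
  have h13 : zv 22 t v (1, 1, 1) = v (1, 1, 1) + t * v (0, 2, 2) := by
    rw [zv_def, show sg 22 (1, 1, 1) = 1 from by decide +kernel, show sr 22 (1, 1, 1) = (0, 2, 2) from by decide +kernel]; simp
  have h14 : zv 22 t v (1, 1, 2) = v (1, 1, 2) := by
    rw [zv_def, show sg 22 (1, 1, 2) = 0 from by decide +kernel]; simp
  have h15 : zv 22 t v (1, 2, 0) = v (1, 2, 0) := by
    rw [zv_def, show sg 22 (1, 2, 0) = 0 from by decide +kernel]; simp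
  have h16 : zv 22 t v (1, 2, 1) = v (1, 2, 1) - t * v (0, 2, 1) := by
    rw [zv_def, show sg 22 (1, 2, 1) = -1 from by decide +kernel, show sr 22 (1, 2, 1) = (0, 2, 1) from by decide +kernel]; push_cast; ring
  have h17 : zv 22 t v (1, 2, 2) = v (1, 2, 2) := by
    rw [zv_def, show sg 22 (1, 2, 2) = 0 from by decide +kernel]; simp
  have h18 : zv 22 t v (2, 0, 0) = v (2, 0, 0) := by
    rw [zv_def, show sg 22 (2, 0, 0) = 0 from by decide +kernel]; simp
  have h19 : zv 22 t v (2, 0, 1) = v (2, 0, 1) := by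
    rw [zv_def, show sg 22 (2, 0, 1) = 0 from by decide +kernel]; simp
  have h20 : zv 22 t v (2, 0, 2) = v (2, 0, 2) - t * v (1, 0, 2) := by
    rw [zv_def, show sg 22 (2, 0, 2) = -1 from by decide +kernel, show sr 22 (2, 0, 2) = (1, 0, 2) from by decide +kernel]; push_cast; ring
  have h21 : zv 22 t v (2, 1, 0) = v (2, 1, 0) := by
    rw [zv_def, show sg 22 (2, 1, 0) = 0 from by decide +kernel]; simp
  have h22 : zv 22 t v (2, 1, 1) = v (2, 1, 1) := by
    rw [zv_def, show sg 22 (2, 1, 1) = 0 from by decide +kernel]; simp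
  have h23 : zv 22 t v (2, 1, 2) = v (2, 1, 2) := by
    rw [zv_def, show sg 22 (2, 1, 2) = 0 from by decide +kernel]; simp
  have h24 : zv 22 t v (2, 2, 0) = v (2, 2, 0) := by
    rw [zv_def, show sg 22 (2, 2, 0) = 0 from by decide +kernel]; simp
  have h25 : zv 22 t v (2, 2, 1) = v (2, 2, 1) := by
    rw [zv_def, show sg 22 (2, 2, 1) = 0 from by decide +kernel]; simp
  have h26 : zv 22 t v (2, 2, 2) = v (2, 2, 2) + t * v (1, 0, 0) := by
    rw [zv_def, show sg 22 (2, 2, 2) = 1 from by decide +kernel, show sr 22 (2, 2, 2) = (1, 0, 0) from by decide +kernel]; simp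
  rw [cubicT_expand, cubicT_expand]
  simp only [h0, h1, h2, h3, h4, h5, h6, h7, h8, h9, h10, h11, h12, h13, h14, h15, h16, h17, h18, h19, h20, h21, h22, h23, h24, h25, h26]
  ring

theorem inv_23 {F : Type*} [CommRing F] (t : F) (v : I27 → F) : cubicT (zv 23 t v) = cubicT v := by
  have h0 : zv 23 t v (0, 0, 0) = v (0, 0, 0) := by
    rw [zv_def, show sg 23 (0, 0, 0) = 0 from by decide +kernel]; simp
  have h1 : zv 23 t v (0, 0, 1) = v (0, 0, 1) - t * v (2, 1, 1) := by
    rw [zv_def, show sg 23 (0, 0, 1) = -1 from by decide +kernel, show sr 23 (0, 0, 1) = (2, 1, 1) from by decide +kernel]; push_cast; ring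
  have h2 : zv 23 t v (0, 0, 2) = v (0, 0, 2) := by
    rw [zv_def, show sg 23 (0, 0, 2) = 0 from by decide +kernel]; simp
  have h3 : zv 23 t v (0, 1, 0) = v (0, 1, 0) := by
    rw [zv_def, show sg 23 (0, 1, 0) = 0 from by decide +kernel]; simp
  have h4 : zv 23 t v (0, 1, 1) = v (0, 1, 1) + t * v (2, 1, 0) := by
    rw [zv_def, show sg 23 (0, 1, 1) = 1 from by decide +kernel, show sr 23 (0, 1, 1) = (2, 1, 0) from by decide +kernel]; simp
  have h5 : zv 23 t v (0, 1, 2) = v (0, 1, 2) := by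
    rw [zv_def, show sg 23 (0, 1, 2) = 0 from by decide +kernel]; simp
  have h6 : zv 23 t v (0, 2, 0) = v (0, 2, 0) := by
    rw [zv_def, show sg 23 (0, 2, 0) = 0 from by decide +kernel]; simp
  have h7 : zv 23 t v (0, 2, 1) = v (0, 2, 1) := by
    rw [zv_def, show sg 23 (0, 2, 1) = 0 from by decide +kernel]; simp
  have h8 : zv 23 t v (0, 2, 2) = v (0, 2, 2) := by
    rw [zv_def, show sg 23 (0, 2, 2) = 0 from by decide +kernel]; simp
  have h9 : zv 23 t v (1, 0, 0) = v (1, 0, 0) := by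
    rw [zv_def, show sg 23 (1, 0, 0) = 0 from by decide +kernel]; simp
  have h10 : zv 23 t v (1, 0, 1) = v (1, 0, 1) + t * v (0, 2, 2) := by
    rw [zv_def, show sg 23 (1, 0, 1) = 1 from by decide +kernel, show sr 23 (1, 0, 1) = (0, 2, 2) from by decide +kernel]; simp
  have h11 : zv 23 t v (1, 0, 2) = v (1, 0, 2) := by
    rw [zv_def, show sg 23 (1, 0, 2) = 0 from by decide +kernel]; simp
  have h12 : zv 23 t v (1, 1, 0) = v (1, 1, 0) := by
    rw [zv_def, show sg 23 (1, 1, 0) = 0 from by decide +kernel]; simp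
  have h13 : zv 23 t v (1, 1, 1) = v (1, 1, 1) := by
    rw [zv_def, show sg 23 (1, 1, 1) = 0 from by decide +kernel]; simp
  have h14 : zv 23 t v (1, 1, 2) = v (1, 1, 2) := by
    rw [zv_def, show sg 23 (1, 1, 2) = 0 from by decide +kernel]; simp
  have h15 : zv 23 t v (1, 2, 0) = v (1, 2, 0) := by
    rw [zv_def, show sg 23 (1, 2, 0) = 0 from by decide +kernel]; simp
  have h16 : zv 23 t v (1, 2, 1) = v (1, 2, 1) - t * v (0, 2, 0) := by
    rw [zv_def, show sg 23 (1, 2, 1) = -1 from by decide +kernel, show sr 23 (1, 2, 1) = (0, 2, 0) from by decide +kernel]; push_cast; ring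
  have h17 : zv 23 t v (1, 2, 2) = v (1, 2, 2) := by
    rw [zv_def, show sg 23 (1, 2, 2) = 0 from by decide +kernel]; simp
  have h18 : zv 23 t v (2, 0, 0) = v (2, 0, 0) := by
    rw [zv_def, show sg 23 (2, 0, 0) = 0 from by decide +kernel]; simp
  have h19 : zv 23 t v (2, 0, 1) = v (2, 0, 1) := by
    rw [zv_def, show sg 23 (2, 0, 1) = 0 from by decide +kernel]; simp
  have h20 : zv 23 t v (2, 0, 2) = v (2, 0, 2) + t * v (1, 1, 2) := by
    rw [zv_def, show sg 23 (2, 0, 2) = 1 from by decide +kernel, show sr 23 (2, 0, 2) = (1, 1, 2) from by decide +kernel]; simp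
  have h21 : zv 23 t v (2, 1, 0) = v (2, 1, 0) := by
    rw [zv_def, show sg 23 (2, 1, 0) = 0 from by decide +kernel]; simp
  have h22 : zv 23 t v (2, 1, 1) = v (2, 1, 1) := by
    rw [zv_def, show sg 23 (2, 1, 1) = 0 from by decide +kernel]; simp
  have h23 : zv 23 t v (2, 1, 2) = v (2, 1, 2) := by
    rw [zv_def, show sg 23 (2, 1, 2) = 0 from by decide +kernel]; simp
  have h24 : zv 23 t v (2, 2, 0) = v (2, 2, 0) := by
    rw [zv_def, show sg 23 (2, 2, 0) = 0 from by decide +kernel]; simp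
  have h25 : zv 23 t v (2, 2, 1) = v (2, 2, 1) := by
    rw [zv_def, show sg 23 (2, 2, 1) = 0 from by decide +kernel]; simp
  have h26 : zv 23 t v (2, 2, 2) = v (2, 2, 2) - t * v (1, 1, 0) := by
    rw [zv_def, show sg 23 (2, 2, 2) = -1 from by decide +kernel, show sr 23 (2, 2, 2) = (1, 1, 0) from by decide +kernel]; push_cast; ring
  rw [cubicT_expand, cubicT_expand]
  simp only [h0, h1, h2, h3, h4, h5, h6, h7, h8, h9, h10, h11, h12, h13, h14, h15, h16, h17, h18, h19, h20, h21, h22, h23, h24, h25, h26]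
  ring

theorem inv_24 {F : Type*} [CommRing F] (t : F) (v : I27 → F) : cubicT (zv 24 t v) = cubicT v := by
  have h0 : zv 24 t v (0, 0, 0) = v (0, 0, 0) := by
    rw [zv_def, show sg 24 (0, 0, 0) = 0 from by decide +kernel]; simp
  have h1 : zv 24 t v (0, 0, 1) = v (0, 0, 1) := by
    rw [zv_def, show sg 24 (0, 0, 1) = 0 from by decide +kernel]; simp
  have h2 : zv 24 t v (0, 0, 2) = v (0, 0, 2) + t * v (2, 1, 1) := by
    rw [zv_def, show sg 24 (0, 0, 2) = 1 from by decide +kernel, show sr 24 (0, 0, 2) = (2, 1, 1) from by decide +kernel]; simp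
  have h3 : zv 24 t v (0, 1, 0) = v (0, 1, 0) := by
    rw [zv_def, show sg 24 (0, 1, 0) = 0 from by decide +kernel]; simp
  have h4 : zv 24 t v (0, 1, 1) = v (0, 1, 1) := by
    rw [zv_def, show sg 24 (0, 1, 1) = 0 from by decide +kernel]; simp
  have h5 : zv 24 t v (0, 1, 2) = v (0, 1, 2) - t * v (2, 1, 0) := by
    rw [zv_def, show sg 24 (0, 1, 2) = -1 from by decide +kernel, show sr 24 (0, 1, 2) = (2, 1, 0) from by decide +kernel]; push_cast; ring
  have h6 : zv 24 t v (0, 2, 0) = v (0, 2, 0) := by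
    rw [zv_def, show sg 24 (0, 2, 0) = 0 from by decide +kernel]; simp
  have h7 : zv 24 t v (0, 2, 1) = v (0, 2, 1) := by
    rw [zv_def, show sg 24 (0, 2, 1) = 0 from by decide +kernel]; simp
  have h8 : zv 24 t v (0, 2, 2) = v (0, 2, 2) := by
    rw [zv_def, show sg 24 (0, 2, 2) = 0 from by decide +kernel]; simp
  have h9 : zv 24 t v (1, 0, 0) = v (1, 0, 0) := by
    rw [zv_def, show sg 24 (1, 0, 0) = 0 from by decide +kernel]; simp
  have h10 : zv 24 t v (1, 0, 1) = v (1, 0, 1) + t * v (0, 2, 1) := by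
    rw [zv_def, show sg 24 (1, 0, 1) = 1 from by decide +kernel, show sr 24 (1, 0, 1) = (0, 2, 1) from by decide +kernel]; simp
  have h11 : zv 24 t v (1, 0, 2) = v (1, 0, 2) := by
    rw [zv_def, show sg 24 (1, 0, 2) = 0 from by decide +kernel]; simp
  have h12 : zv 24 t v (1, 1, 0) = v (1, 1, 0) := by
    rw [zv_def, show sg 24 (1, 1, 0) = 0 from by decide +kernel]; simp
  have h13 : zv 24 t v (1, 1, 1) = v (1, 1, 1) - t * v (0, 2, 0) := by
    rw [zv_def, show sg 24 (1, 1, 1) = -1 from by decide +kernel, show sr 24 (1, 1, 1) = (0, 2, 0) from by decide +kernel]; push_cast; ring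
  have h14 : zv 24 t v (1, 1, 2) = v (1, 1, 2) := by
    rw [zv_def, show sg 24 (1, 1, 2) = 0 from by decide +kernel]; simp
  have h15 : zv 24 t v (1, 2, 0) = v (1, 2, 0) := by
    rw [zv_def, show sg 24 (1, 2, 0) = 0 from by decide +kernel]; simp
  have h16 : zv 24 t v (1, 2, 1) = v (1, 2, 1) := by
    rw [zv_def, show sg 24 (1, 2, 1) = 0 from by decide +kernel]; simp
  have h17 : zv 24 t v (1, 2, 2) = v (1, 2, 2) := by
    rw [zv_def, show sg 24 (1, 2, 2) = 0 from by decide +kernel]; simp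
  have h18 : zv 24 t v (2, 0, 0) = v (2, 0, 0) := by
    rw [zv_def, show sg 24 (2, 0, 0) = 0 from by decide +kernel]; simp
  have h19 : zv 24 t v (2, 0, 1) = v (2, 0, 1) := by
    rw [zv_def, show sg 24 (2, 0, 1) = 0 from by decide +kernel]; simp
  have h20 : zv 24 t v (2, 0, 2) = v (2, 0, 2) - t * v (1, 2, 2) := by
    rw [zv_def, show sg 24 (2, 0, 2) = -1 from by decide +kernel, show sr 24 (2, 0, 2) = (1, 2, 2) from by decide +kernel]; push_cast; ring
  have h21 : zv 24 t v (2, 1, 0) = v (2, 1, 0) := by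
    rw [zv_def, show sg 24 (2, 1, 0) = 0 from by decide +kernel]; simp
  have h22 : zv 24 t v (2, 1, 1) = v (2, 1, 1) := by
    rw [zv_def, show sg 24 (2, 1, 1) = 0 from by decide +kernel]; simp
  have h23 : zv 24 t v (2, 1, 2) = v (2, 1, 2) := by
    rw [zv_def, show sg 24 (2, 1, 2) = 0 from by decide +kernel]; simp
  have h24 : zv 24 t v (2, 2, 0) = v (2, 2, 0) := by
    rw [zv_def, show sg 24 (2, 2, 0) = 0 from by decide +kernel]; simp
  have h25 : zv 24 t v (2, 2, 1) = v (2, 2, 1) := by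
    rw [zv_def, show sg 24 (2, 2, 1) = 0 from by decide +kernel]; simp
  have h26 : zv 24 t v (2, 2, 2) = v (2, 2, 2) + t * v (1, 2, 0) := by
    rw [zv_def, show sg 24 (2, 2, 2) = 1 from by decide +kernel, show sr 24 (2, 2, 2) = (1, 2, 0) from by decide +kernel]; simp
  rw [cubicT_expand, cubicT_expand]
  simp only [h0, h1, h2, h3, h4, h5, h6, h7, h8, h9, h10, h11, h12, h13, h14, h15, h16, h17, h18, h19, h20, h21, h22, h23, h24, h25, h26]
  ring

theorem inv_25 {F : Type*} [CommRing F] (t : F) (v : I27 → F) : cubicT (zv 25 t v) = cubicT v := by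
  have h0 : zv 25 t v (0, 0, 0) = v (0, 0, 0) := by
    rw [zv_def, show sg 25 (0, 0, 0) = 0 from by decide +kernel]; simp
  have h1 : zv 25 t v (0, 0, 1) = v (0, 0, 1) := by
    rw [zv_def, show sg 25 (0, 0, 1) = 0 from by decide +kernel]; simp
  have h2 : zv 25 t v (0, 0, 2) = v (0, 0, 2) := by
    rw [zv_def, show sg 25 (0, 0, 2) = 0 from by decide +kernel]; simp
  have h3 : zv 25 t v (0, 1, 0) = v (0, 1, 0) := by
    rw [zv_def, show sg 25 (0, 1, 0) = 0 from by decide +kernel]; simp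
  have h4 : zv 25 t v (0, 1, 1) = v (0, 1, 1) := by
    rw [zv_def, show sg 25 (0, 1, 1) = 0 from by decide +kernel]; simp
  have h5 : zv 25 t v (0, 1, 2) = v (0, 1, 2) := by
    rw [zv_def, show sg 25 (0, 1, 2) = 0 from by decide +kernel]; simp
  have h6 : zv 25 t v (0, 2, 0) = v (0, 2, 0) := by
    rw [zv_def, show sg 25 (0, 2, 0) = 0 from by decide +kernel]; simp
  have h7 : zv 25 t v (0, 2, 1) = v (0, 2, 1) := by
    rw [zv_def, show sg 25 (0, 2, 1) = 0 from by decide +kernel]; simp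
  have h8 : zv 25 t v (0, 2, 2) = v (0, 2, 2) := by
    rw [zv_def, show sg 25 (0, 2, 2) = 0 from by decide +kernel]; simp
  have h9 : zv 25 t v (1, 0, 0) = v (1, 0, 0) := by
    rw [zv_def, show sg 25 (1, 0, 0) = 0 from by decide +kernel]; simp
  have h10 : zv 25 t v (1, 0, 1) = v (1, 0, 1) + t * v (1, 0, 2) := by
    rw [zv_def, show sg 25 (1, 0, 1) = 1 from by decide +kernel, show sr 25 (1, 0, 1) = (1, 0, 2) from by decide +kernel]; simp
  have h11 : zv 25 t v (1, 0, 2) = v (1, 0, 2) := by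
    rw [zv_def, show sg 25 (1, 0, 2) = 0 from by decide +kernel]; simp
  have h12 : zv 25 t v (1, 1, 0) = v (1, 1, 0) := by
    rw [zv_def, show sg 25 (1, 1, 0) = 0 from by decide +kernel]; simp
  have h13 : zv 25 t v (1, 1, 1) = v (1, 1, 1) + t * v (1, 1, 2) := by
    rw [zv_def, show sg 25 (1, 1, 1) = 1 from by decide +kernel, show sr 25 (1, 1, 1) = (1, 1, 2) from by decide +kernel]; simp
  have h14 : zv 25 t v (1, 1, 2) = v (1, 1, 2) := by
    rw [zv_def, show sg 25 (1, 1, 2) = 0 from by decide +kernel]; simp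
  have h15 : zv 25 t v (1, 2, 0) = v (1, 2, 0) := by
    rw [zv_def, show sg 25 (1, 2, 0) = 0 from by decide +kernel]; simp
  have h16 : zv 25 t v (1, 2, 1) = v (1, 2, 1) + t * v (1, 2, 2) := by
    rw [zv_def, show sg 25 (1, 2, 1) = 1 from by decide +kernel, show sr 25 (1, 2, 1) = (1, 2, 2) from by decide +kernel]; simp
  have h17 : zv 25 t v (1, 2, 2) = v (1, 2, 2) := by
    rw [zv_def, show sg 25 (1, 2, 2) = 0 from by decide +kernel]; simp
  have h18 : zv 25 t v (2, 0, 0) = v (2, 0, 0) := by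
    rw [zv_def, show sg 25 (2, 0, 0) = 0 from by decide +kernel]; simp
  have h19 : zv 25 t v (2, 0, 1) = v (2, 0, 1) := by
    rw [zv_def, show sg 25 (2, 0, 1) = 0 from by decide +kernel]; simp
  have h20 : zv 25 t v (2, 0, 2) = v (2, 0, 2) := by
    rw [zv_def, show sg 25 (2, 0, 2) = 0 from by decide +kernel]; simp
  have h21 : zv 25 t v (2, 1, 0) = v (2, 1, 0) := by
    rw [zv_def, show sg 25 (2, 1, 0) = 0 from by decide +kernel]; simp
  have h22 : zv 25 t v (2, 1, 1) = v (2, 1, 1) := by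
    rw [zv_def, show sg 25 (2, 1, 1) = 0 from by decide +kernel]; simp
  have h23 : zv 25 t v (2, 1, 2) = v (2, 1, 2) := by
    rw [zv_def, show sg 25 (2, 1, 2) = 0 from by decide +kernel]; simp
  have h24 : zv 25 t v (2, 2, 0) = v (2, 2, 0) - t * v (2, 1, 0) := by
    rw [zv_def, show sg 25 (2, 2, 0) = -1 from by decide +kernel, show sr 25 (2, 2, 0) = (2, 1, 0) from by decide +kernel]; push_cast; ring
  have h25 : zv 25 t v (2, 2, 1) = v (2, 2, 1) - t * v (2, 1, 1) := by
    rw [zv_def, show sg 25 (2, 2, 1) = -1 from by decide +kernel, show sr 25 (2, 2, 1) = (2, 1, 1) from by decide +kernel]; push_cast; ring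
  have h26 : zv 25 t v (2, 2, 2) = v (2, 2, 2) - t * v (2, 1, 2) := by
    rw [zv_def, show sg 25 (2, 2, 2) = -1 from by decide +kernel, show sr 25 (2, 2, 2) = (2, 1, 2) from by decide +kernel]; push_cast; ring
  rw [cubicT_expand, cubicT_expand]
  simp only [h0, h1, h2, h3, h4, h5, h6, h7, h8, h9, h10, h11, h12, h13, h14, h15, h16, h17, h18, h19, h20, h21, h22, h23, h24, h25, h26]
  ring

theorem inv_26 {F : Type*} [CommRing F] (t : F) (v : I27 → F) : cubicT (zv 26 t v) = cubicT v := by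
  have h0 : zv 26 t v (0, 0, 0) = v (0, 0, 0) + t * v (2, 2, 2) := by
    rw [zv_def, show sg 26 (0, 0, 0) = 1 from by decide +kernel, show sr 26 (0, 0, 0) = (2, 2, 2) from by decide +kernel]; simp
  have h1 : zv 26 t v (0, 0, 1) = v (0, 0, 1) := by
    rw [zv_def, show sg 26 (0, 0, 1) = 0 from by decide +kernel]; simp
  have h2 : zv 26 t v (0, 0, 2) = v (0, 0, 2) := by
    rw [zv_def, show sg 26 (0, 0, 2) = 0 from by decide +kernel]; simp
  have h3 : zv 26 t v (0, 1, 0) = v (0, 1, 0) := by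
    rw [zv_def, show sg 26 (0, 1, 0) = 0 from by decide +kernel]; simp
  have h4 : zv 26 t v (0, 1, 1) = v (0, 1, 1) := by
    rw [zv_def, show sg 26 (0, 1, 1) = 0 from by decide +kernel]; simp
  have h5 : zv 26 t v (0, 1, 2) = v (0, 1, 2) := by
    rw [zv_def, show sg 26 (0, 1, 2) = 0 from by decide +kernel]; simp
  have h6 : zv 26 t v (0, 2, 0) = v (0, 2, 0) - t * v (2, 2, 0) := by
    rw [zv_def, show sg 26 (0, 2, 0) = -1 from by decide +kernel, show sr 26 (0, 2, 0) = (2, 2, 0) from by decide +kernel]; push_cast; ring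
  have h7 : zv 26 t v (0, 2, 1) = v (0, 2, 1) := by
    rw [zv_def, show sg 26 (0, 2, 1) = 0 from by decide +kernel]; simp
  have h8 : zv 26 t v (0, 2, 2) = v (0, 2, 2) := by
    rw [zv_def, show sg 26 (0, 2, 2) = 0 from by decide +kernel]; simp
  have h9 : zv 26 t v (1, 0, 0) = v (1, 0, 0) := by
    rw [zv_def, show sg 26 (1, 0, 0) = 0 from by decide +kernel]; simp
  have h10 : zv 26 t v (1, 0, 1) = v (1, 0, 1) := by
    rw [zv_def, show sg 26 (1, 0, 1) = 0 from by decide +kernel]; simp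
  have h11 : zv 26 t v (1, 0, 2) = v (1, 0, 2) := by
    rw [zv_def, show sg 26 (1, 0, 2) = 0 from by decide +kernel]; simp
  have h12 : zv 26 t v (1, 1, 0) = v (1, 1, 0) := by
    rw [zv_def, show sg 26 (1, 1, 0) = 0 from by decide +kernel]; simp
  have h13 : zv 26 t v (1, 1, 1) = v (1, 1, 1) := by
    rw [zv_def, show sg 26 (1, 1, 1) = 0 from by decide +kernel]; simp
  have h14 : zv 26 t v (1, 1, 2) = v (1, 1, 2) - t * v (0, 1, 2) := by
    rw [zv_def, show sg 26 (1, 1, 2) = -1 from by decide +kernel, show sr 26 (1, 1, 2) = (0, 1, 2) from by decide +kernel]; push_cast; ring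
  have h15 : zv 26 t v (1, 2, 0) = v (1, 2, 0) := by
    rw [zv_def, show sg 26 (1, 2, 0) = 0 from by decide +kernel]; simp
  have h16 : zv 26 t v (1, 2, 1) = v (1, 2, 1) := by
    rw [zv_def, show sg 26 (1, 2, 1) = 0 from by decide +kernel]; simp
  have h17 : zv 26 t v (1, 2, 2) = v (1, 2, 2) + t * v (0, 1, 1) := by
    rw [zv_def, show sg 26 (1, 2, 2) = 1 from by decide +kernel, show sr 26 (1, 2, 2) = (0, 1, 1) from by decide +kernel]; simp
  have h18 : zv 26 t v (2, 0, 0) = v (2, 0, 0) := by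
    rw [zv_def, show sg 26 (2, 0, 0) = 0 from by decide +kernel]; simp
  have h19 : zv 26 t v (2, 0, 1) = v (2, 0, 1) - t * v (1, 0, 1) := by
    rw [zv_def, show sg 26 (2, 0, 1) = -1 from by decide +kernel, show sr 26 (2, 0, 1) = (1, 0, 1) from by decide +kernel]; push_cast; ring
  have h20 : zv 26 t v (2, 0, 2) = v (2, 0, 2) := by
    rw [zv_def, show sg 26 (2, 0, 2) = 0 from by decide +kernel]; simp
  have h21 : zv 26 t v (2, 1, 0) = v (2, 1, 0) := by
    rw [zv_def, show sg 26 (2, 1, 0) = 0 from by decide +kernel]; simp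
  have h22 : zv 26 t v (2, 1, 1) = v (2, 1, 1) + t * v (1, 0, 0) := by
    rw [zv_def, show sg 26 (2, 1, 1) = 1 from by decide +kernel, show sr 26 (2, 1, 1) = (1, 0, 0) from by decide +kernel]; simp
  have h23 : zv 26 t v (2, 1, 2) = v (2, 1, 2) := by
    rw [zv_def, show sg 26 (2, 1, 2) = 0 from by decide +kernel]; simp
  have h24 : zv 26 t v (2, 2, 0) = v (2, 2, 0) := by
    rw [zv_def, show sg 26 (2, 2, 0) = 0 from by decide +kernel]; simp
  have h25 : zv 26 t v (2, 2, 1) = v (2, 2, 1) := by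
    rw [zv_def, show sg 26 (2, 2, 1) = 0 from by decide +kernel]; simp
  have h26 : zv 26 t v (2, 2, 2) = v (2, 2, 2) := by
    rw [zv_def, show sg 26 (2, 2, 2) = 0 from by decide +kernel]; simp
  rw [cubicT_expand, cubicT_expand]
  simp only [h0, h1, h2, h3, h4, h5, h6, h7, h8, h9, h10, h11, h12, h13, h14, h15, h16, h17, h18, h19, h20, h21, h22, h23, h24, h25, h26]
  ring

theorem inv_27 {F : Type*} [CommRing F] (t : F) (v : I27 → F) : cubicT (zv 27 t v) = cubicT v := by
  have h0 : zv 27 t v (0, 0, 0) = v (0, 0, 0) := by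
    rw [zv_def, show sg 27 (0, 0, 0) = 0 from by decide +kernel]; simp
  have h1 : zv 27 t v (0, 0, 1) = v (0, 0, 1) - t * v (2, 2, 2) := by
    rw [zv_def, show sg 27 (0, 0, 1) = -1 from by decide +kernel, show sr 27 (0, 0, 1) = (2, 2, 2) from by decide +kernel]; push_cast; ring
  have h2 : zv 27 t v (0, 0, 2) = v (0, 0, 2) := by
    rw [zv_def, show sg 27 (0, 0, 2) = 0 from by decide +kernel]; simp
  have h3 : zv 27 t v (0, 1, 0) = v (0, 1, 0) := by
    rw [zv_def, show sg 27 (0, 1, 0) = 0 from by decide +kernel]; simp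
  have h4 : zv 27 t v (0, 1, 1) = v (0, 1, 1) := by
    rw [zv_def, show sg 27 (0, 1, 1) = 0 from by decide +kernel]; simp
  have h5 : zv 27 t v (0, 1, 2) = v (0, 1, 2) := by
    rw [zv_def, show sg 27 (0, 1, 2) = 0 from by decide +kernel]; simp
  have h6 : zv 27 t v (0, 2, 0) = v (0, 2, 0) := by
    rw [zv_def, show sg 27 (0, 2, 0) = 0 from by decide +kernel]; simp
  have h7 : zv 27 t v (0, 2, 1) = v (0, 2, 1) + t * v (2, 2, 0) := by
    rw [zv_def, show sg 27 (0, 2, 1) = 1 from by decide +kernel, show sr 27 (0, 2, 1) = (2, 2, 0) from by decide +kernel]; simp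
  have h8 : zv 27 t v (0, 2, 2) = v (0, 2, 2) := by
    rw [zv_def, show sg 27 (0, 2, 2) = 0 from by decide +kernel]; simp
  have h9 : zv 27 t v (1, 0, 0) = v (1, 0, 0) := by
    rw [zv_def, show sg 27 (1, 0, 0) = 0 from by decide +kernel]; simp
  have h10 : zv 27 t v (1, 0, 1) = v (1, 0, 1) := by
    rw [zv_def, show sg 27 (1, 0, 1) = 0 from by decide +kernel]; simp
  have h11 : zv 27 t v (1, 0, 2) = v (1, 0, 2) - t * v (0, 1, 2) := by
    rw [zv_def, show sg 27 (1, 0, 2) = -1 from by decide +kernel, show sr 27 (1, 0, 2) = (0, 1, 2) from by decide +kernel]; push_cast; ring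
  have h12 : zv 27 t v (1, 1, 0) = v (1, 1, 0) := by
    rw [zv_def, show sg 27 (1, 1, 0) = 0 from by decide +kernel]; simp
  have h13 : zv 27 t v (1, 1, 1) = v (1, 1, 1) := by
    rw [zv_def, show sg 27 (1, 1, 1) = 0 from by decide +kernel]; simp
  have h14 : zv 27 t v (1, 1, 2) = v (1, 1, 2) := by
    rw [zv_def, show sg 27 (1, 1, 2) = 0 from by decide +kernel]; simp
  have h15 : zv 27 t v (1, 2, 0) = v (1, 2, 0) := by
    rw [zv_def, show sg 27 (1, 2, 0) = 0 from by decide +kernel]; simp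
  have h16 : zv 27 t v (1, 2, 1) = v (1, 2, 1) := by
    rw [zv_def, show sg 27 (1, 2, 1) = 0 from by decide +kernel]; simp
  have h17 : zv 27 t v (1, 2, 2) = v (1, 2, 2) + t * v (0, 1, 0) := by
    rw [zv_def, show sg 27 (1, 2, 2) = 1 from by decide +kernel, show sr 27 (1, 2, 2) = (0, 1, 0) from by decide +kernel]; simp
  have h18 : zv 27 t v (2, 0, 0) = v (2, 0, 0) := by
    rw [zv_def, show sg 27 (2, 0, 0) = 0 from by decide +kernel]; simp
  have h19 : zv 27 t v (2, 0, 1) = v (2, 0, 1) + t * v (1, 1, 1) := by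
    rw [zv_def, show sg 27 (2, 0, 1) = 1 from by decide +kernel, show sr 27 (2, 0, 1) = (1, 1, 1) from by decide +kernel]; simp
  have h20 : zv 27 t v (2, 0, 2) = v (2, 0, 2) := by
    rw [zv_def, show sg 27 (2, 0, 2) = 0 from by decide +kernel]; simp
  have h21 : zv 27 t v (2, 1, 0) = v (2, 1, 0) := by
    rw [zv_def, show sg 27 (2, 1, 0) = 0 from by decide +kernel]; simp
  have h22 : zv 27 t v (2, 1, 1) = v (2, 1, 1) - t * v (1, 1, 0) := by
    rw [zv_def, show sg 27 (2, 1, 1) = -1 from by decide +kernel, show sr 27 (2, 1, 1) = (1, 1, 0) from by decide +kernel]; push_cast; ring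
  have h23 : zv 27 t v (2, 1, 2) = v (2, 1, 2) := by
    rw [zv_def, show sg 27 (2, 1, 2) = 0 from by decide +kernel]; simp
  have h24 : zv 27 t v (2, 2, 0) = v (2, 2, 0) := by
    rw [zv_def, show sg 27 (2, 2, 0) = 0 from by decide +kernel]; simp
  have h25 : zv 27 t v (2, 2, 1) = v (2, 2, 1) := by
    rw [zv_def, show sg 27 (2, 2, 1) = 0 from by decide +kernel]; simp
  have h26 : zv 27 t v (2, 2, 2) = v (2, 2, 2) := by
    rw [zv_def, show sg 27 (2, 2, 2) = 0 from by decide +kernel]; simp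
  rw [cubicT_expand, cubicT_expand]
  simp only [h0, h1, h2, h3, h4, h5, h6, h7, h8, h9, h10, h11, h12, h13, h14, h15, h16, h17, h18, h19, h20, h21, h22, h23, h24, h25, h26]
  ring

theorem inv_28 {F : Type*} [CommRing F] (t : F) (v : I27 → F) : cubicT (zv 28 t v) = cubicT v := by
  have h0 : zv 28 t v (0, 0, 0) = v (0, 0, 0) := by
    rw [zv_def, show sg 28 (0, 0, 0) = 0 from by decide +kernel]; simp
  have h1 : zv 28 t v (0, 0, 1) = v (0, 0, 1) := by
    rw [zv_def, show sg 28 (0, 0, 1) = 0 from by decide +kernel]; simp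
  have h2 : zv 28 t v (0, 0, 2) = v (0, 0, 2) + t * v (2, 2, 2) := by
    rw [zv_def, show sg 28 (0, 0, 2) = 1 from by decide +kernel, show sr 28 (0, 0, 2) = (2, 2, 2) from by decide +kernel]; simp
  have h3 : zv 28 t v (0, 1, 0) = v (0, 1, 0) := by
    rw [zv_def, show sg 28 (0, 1, 0) = 0 from by decide +kernel]; simp
  have h4 : zv 28 t v (0, 1, 1) = v (0, 1, 1) := by
    rw [zv_def, show sg 28 (0, 1, 1) = 0 from by decide +kernel]; simp
  have h5 : zv 28 t v (0, 1, 2) = v (0, 1, 2) := by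
    rw [zv_def, show sg 28 (0, 1, 2) = 0 from by decide +kernel]; simp
  have h6 : zv 28 t v (0, 2, 0) = v (0, 2, 0) := by
    rw [zv_def, show sg 28 (0, 2, 0) = 0 from by decide +kernel]; simp
  have h7 : zv 28 t v (0, 2, 1) = v (0, 2, 1) := by
    rw [zv_def, show sg 28 (0, 2, 1) = 0 from by decide +kernel]; simp
  have h8 : zv 28 t v (0, 2, 2) = v (0, 2, 2) - t * v (2, 2, 0) := by
    rw [zv_def, show sg 28 (0, 2, 2) = -1 from by decide +kernel, show sr 28 (0, 2, 2) = (2, 2, 0) from by decide +kernel]; push_cast; ring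
  have h9 : zv 28 t v (1, 0, 0) = v (1, 0, 0) := by
    rw [zv_def, show sg 28 (1, 0, 0) = 0 from by decide +kernel]; simp
  have h10 : zv 28 t v (1, 0, 1) = v (1, 0, 1) := by
    rw [zv_def, show sg 28 (1, 0, 1) = 0 from by decide +kernel]; simp
  have h11 : zv 28 t v (1, 0, 2) = v (1, 0, 2) - t * v (0, 1, 1) := by
    rw [zv_def, show sg 28 (1, 0, 2) = -1 from by decide +kernel, show sr 28 (1, 0, 2) = (0, 1, 1) from by decide +kernel]; push_cast; ring
  have h12 : zv 28 t v (1, 1, 0) = v (1, 1, 0) := by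
    rw [zv_def, show sg 28 (1, 1, 0) = 0 from by decide +kernel]; simp
  have h13 : zv 28 t v (1, 1, 1) = v (1, 1, 1) := by
    rw [zv_def, show sg 28 (1, 1, 1) = 0 from by decide +kernel]; simp
  have h14 : zv 28 t v (1, 1, 2) = v (1, 1, 2) + t * v (0, 1, 0) := by
    rw [zv_def, show sg 28 (1, 1, 2) = 1 from by decide +kernel, show sr 28 (1, 1, 2) = (0, 1, 0) from by decide +kernel]; simp
  have h15 : zv 28 t v (1, 2, 0) = v (1, 2, 0) := by
    rw [zv_def, show sg 28 (1, 2, 0) = 0 from by decide +kernel]; simp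
  have h16 : zv 28 t v (1, 2, 1) = v (1, 2, 1) := by
    rw [zv_def, show sg 28 (1, 2, 1) = 0 from by decide +kernel]; simp
  have h17 : zv 28 t v (1, 2, 2) = v (1, 2, 2) := by
    rw [zv_def, show sg 28 (1, 2, 2) = 0 from by decide +kernel]; simp
  have h18 : zv 28 t v (2, 0, 0) = v (2, 0, 0) := by
    rw [zv_def, show sg 28 (2, 0, 0) = 0 from by decide +kernel]; simp
  have h19 : zv 28 t v (2, 0, 1) = v (2, 0, 1) - t * v (1, 2, 1) := by
    rw [zv_def, show sg 28 (2, 0, 1) = -1 from by decide +kernel, show sr 28 (2, 0, 1) = (1, 2, 1) from by decide +kernel]; push_cast; ring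
  have h20 : zv 28 t v (2, 0, 2) = v (2, 0, 2) := by
    rw [zv_def, show sg 28 (2, 0, 2) = 0 from by decide +kernel]; simp
  have h21 : zv 28 t v (2, 1, 0) = v (2, 1, 0) := by
    rw [zv_def, show sg 28 (2, 1, 0) = 0 from by decide +kernel]; simp
  have h22 : zv 28 t v (2, 1, 1) = v (2, 1, 1) + t * v (1, 2, 0) := by
    rw [zv_def, show sg 28 (2, 1, 1) = 1 from by decide +kernel, show sr 28 (2, 1, 1) = (1, 2, 0) from by decide +kernel]; simp
  have h23 : zv 28 t v (2, 1, 2) = v (2, 1, 2) := by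
    rw [zv_def, show sg 28 (2, 1, 2) = 0 from by decide +kernel]; simp
  have h24 : zv 28 t v (2, 2, 0) = v (2, 2, 0) := by
    rw [zv_def, show sg 28 (2, 2, 0) = 0 from by decide +kernel]; simp
  have h25 : zv 28 t v (2, 2, 1) = v (2, 2, 1) := by
    rw [zv_def, show sg 28 (2, 2, 1) = 0 from by decide +kernel]; simp
  have h26 : zv 28 t v (2, 2, 2) = v (2, 2, 2) := by
    rw [zv_def, show sg 28 (2, 2, 2) = 0 from by decide +kernel]; simp
  rw [cubicT_expand, cubicT_expand]
  simp only [h0, h1, h2, h3, h4, h5, h6, h7, h8, h9, h10, h11, h12, h13, h14, h15, h16, h17, h18, h19, h20, h21, h22, h23, h24, h25, h26]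
  ring

theorem inv_29 {F : Type*} [CommRing F] (t : F) (v : I27 → F) : cubicT (zv 29 t v) = cubicT v := by
  have h0 : zv 29 t v (0, 0, 0) = v (0, 0, 0) := by
    rw [zv_def, show sg 29 (0, 0, 0) = 0 from by decide +kernel]; simp
  have h1 : zv 29 t v (0, 0, 1) = v (0, 0, 1) := by
    rw [zv_def, show sg 29 (0, 0, 1) = 0 from by decide +kernel]; simp
  have h2 : zv 29 t v (0, 0, 2) = v (0, 0, 2) := by
    rw [zv_def, show sg 29 (0, 0, 2) = 0 from by decide +kernel]; simp
  have h3 : zv 29 t v (0, 1, 0) = v (0, 1, 0) := by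
    rw [zv_def, show sg 29 (0, 1, 0) = 0 from by decide +kernel]; simp
  have h4 : zv 29 t v (0, 1, 1) = v (0, 1, 1) := by
    rw [zv_def, show sg 29 (0, 1, 1) = 0 from by decide +kernel]; simp
  have h5 : zv 29 t v (0, 1, 2) = v (0, 1, 2) := by
    rw [zv_def, show sg 29 (0, 1, 2) = 0 from by decide +kernel]; simp
  have h6 : zv 29 t v (0, 2, 0) = v (0, 2, 0) + t * v (0, 1, 0) := by
    rw [zv_def, show sg 29 (0, 2, 0) = 1 from by decide +kernel, show sr 29 (0, 2, 0) = (0, 1, 0) from by decide +kernel]; simp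
  have h7 : zv 29 t v (0, 2, 1) = v (0, 2, 1) + t * v (0, 1, 1) := by
    rw [zv_def, show sg 29 (0, 2, 1) = 1 from by decide +kernel, show sr 29 (0, 2, 1) = (0, 1, 1) from by decide +kernel]; simp
  have h8 : zv 29 t v (0, 2, 2) = v (0, 2, 2) + t * v (0, 1, 2) := by
    rw [zv_def, show sg 29 (0, 2, 2) = 1 from by decide +kernel, show sr 29 (0, 2, 2) = (0, 1, 2) from by decide +kernel]; simp
  have h9 : zv 29 t v (1, 0, 0) = v (1, 0, 0) := by
    rw [zv_def, show sg 29 (1, 0, 0) = 0 from by decide +kernel]; simp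
  have h10 : zv 29 t v (1, 0, 1) = v (1, 0, 1) := by
    rw [zv_def, show sg 29 (1, 0, 1) = 0 from by decide +kernel]; simp
  have h11 : zv 29 t v (1, 0, 2) = v (1, 0, 2) := by
    rw [zv_def, show sg 29 (1, 0, 2) = 0 from by decide +kernel]; simp
  have h12 : zv 29 t v (1, 1, 0) = v (1, 1, 0) := by
    rw [zv_def, show sg 29 (1, 1, 0) = 0 from by decide +kernel]; simp
  have h13 : zv 29 t v (1, 1, 1) = v (1, 1, 1) := by
    rw [zv_def, show sg 29 (1, 1, 1) = 0 from by decide +kernel]; simp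
  have h14 : zv 29 t v (1, 1, 2) = v (1, 1, 2) := by
    rw [zv_def, show sg 29 (1, 1, 2) = 0 from by decide +kernel]; simp
  have h15 : zv 29 t v (1, 2, 0) = v (1, 2, 0) := by
    rw [zv_def, show sg 29 (1, 2, 0) = 0 from by decide +kernel]; simp
  have h16 : zv 29 t v (1, 2, 1) = v (1, 2, 1) := by
    rw [zv_def, show sg 29 (1, 2, 1) = 0 from by decide +kernel]; simp
  have h17 : zv 29 t v (1, 2, 2) = v (1, 2, 2) := by
    rw [zv_def, show sg 29 (1, 2, 2) = 0 from by decide +kernel]; simp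
  have h18 : zv 29 t v (2, 0, 0) = v (2, 0, 0) := by
    rw [zv_def, show sg 29 (2, 0, 0) = 0 from by decide +kernel]; simp
  have h19 : zv 29 t v (2, 0, 1) = v (2, 0, 1) - t * v (2, 0, 2) := by
    rw [zv_def, show sg 29 (2, 0, 1) = -1 from by decide +kernel, show sr 29 (2, 0, 1) = (2, 0, 2) from by decide +kernel]; push_cast; ring
  have h20 : zv 29 t v (2, 0, 2) = v (2, 0, 2) := by
    rw [zv_def, show sg 29 (2, 0, 2) = 0 from by decide +kernel]; simp
  have h21 : zv 29 t v (2, 1, 0) = v (2, 1, 0) := by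
    rw [zv_def, show sg 29 (2, 1, 0) = 0 from by decide +kernel]; simp
  have h22 : zv 29 t v (2, 1, 1) = v (2, 1, 1) - t * v (2, 1, 2) := by
    rw [zv_def, show sg 29 (2, 1, 1) = -1 from by decide +kernel, show sr 29 (2, 1, 1) = (2, 1, 2) from by decide +kernel]; push_cast; ring
  have h23 : zv 29 t v (2, 1, 2) = v (2, 1, 2) := by
    rw [zv_def, show sg 29 (2, 1, 2) = 0 from by decide +kernel]; simp
  have h24 : zv 29 t v (2, 2, 0) = v (2, 2, 0) := by
    rw [zv_def, show sg 29 (2, 2, 0) = 0 from by decide +kernel]; simp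
  have h25 : zv 29 t v (2, 2, 1) = v (2, 2, 1) - t * v (2, 2, 2) := by
    rw [zv_def, show sg 29 (2, 2, 1) = -1 from by decide +kernel, show sr 29 (2, 2, 1) = (2, 2, 2) from by decide +kernel]; push_cast; ring
  have h26 : zv 29 t v (2, 2, 2) = v (2, 2, 2) := by
    rw [zv_def, show sg 29 (2, 2, 2) = 0 from by decide +kernel]; simp
  rw [cubicT_expand, cubicT_expand]
  simp only [h0, h1, h2, h3, h4, h5, h6, h7, h8, h9, h10, h11, h12, h13, h14, h15, h16, h17, h18, h19, h20, h21, h22, h23, h24, h25, h26]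
  ring

theorem inv_30 {F : Type*} [CommRing F] (t : F) (v : I27 → F) : cubicT (zv 30 t v) = cubicT v := by
  have h0 : zv 30 t v (0, 0, 0) = v (0, 0, 0) + t * v (2, 2, 1) := by
    rw [zv_def, show sg 30 (0, 0, 0) = 1 from by decide +kernel, show sr 30 (0, 0, 0) = (2, 2, 1) from by decide +kernel]; simp
  have h1 : zv 30 t v (0, 0, 1) = v (0, 0, 1) := by
    rw [zv_def, show sg 30 (0, 0, 1) = 0 from by decide +kernel]; simp
  have h2 : zv 30 t v (0, 0, 2) = v (0, 0, 2) := by
    rw [zv_def, show sg 30 (0, 0, 2) = 0 from by decide +kernel]; simp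
  have h3 : zv 30 t v (0, 1, 0) = v (0, 1, 0) - t * v (2, 2, 0) := by
    rw [zv_def, show sg 30 (0, 1, 0) = -1 from by decide +kernel, show sr 30 (0, 1, 0) = (2, 2, 0) from by decide +kernel]; push_cast; ring
  have h4 : zv 30 t v (0, 1, 1) = v (0, 1, 1) := by
    rw [zv_def, show sg 30 (0, 1, 1) = 0 from by decide +kernel]; simp
  have h5 : zv 30 t v (0, 1, 2) = v (0, 1, 2) := by
    rw [zv_def, show sg 30 (0, 1, 2) = 0 from by decide +kernel]; simp
  have h6 : zv 30 t v (0, 2, 0) = v (0, 2, 0) := by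
    rw [zv_def, show sg 30 (0, 2, 0) = 0 from by decide +kernel]; simp
  have h7 : zv 30 t v (0, 2, 1) = v (0, 2, 1) := by
    rw [zv_def, show sg 30 (0, 2, 1) = 0 from by decide +kernel]; simp
  have h8 : zv 30 t v (0, 2, 2) = v (0, 2, 2) := by
    rw [zv_def, show sg 30 (0, 2, 2) = 0 from by decide +kernel]; simp
  have h9 : zv 30 t v (1, 0, 0) = v (1, 0, 0) := by
    rw [zv_def, show sg 30 (1, 0, 0) = 0 from by decide +kernel]; simp
  have h10 : zv 30 t v (1, 0, 1) = v (1, 0, 1) := by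
    rw [zv_def, show sg 30 (1, 0, 1) = 0 from by decide +kernel]; simp
  have h11 : zv 30 t v (1, 0, 2) = v (1, 0, 2) := by
    rw [zv_def, show sg 30 (1, 0, 2) = 0 from by decide +kernel]; simp
  have h12 : zv 30 t v (1, 1, 0) = v (1, 1, 0) := by
    rw [zv_def, show sg 30 (1, 1, 0) = 0 from by decide +kernel]; simp
  have h13 : zv 30 t v (1, 1, 1) = v (1, 1, 1) := by
    rw [zv_def, show sg 30 (1, 1, 1) = 0 from by decide +kernel]; simp
  have h14 : zv 30 t v (1, 1, 2) = v (1, 1, 2) + t * v (0, 2, 2) := by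
    rw [zv_def, show sg 30 (1, 1, 2) = 1 from by decide +kernel, show sr 30 (1, 1, 2) = (0, 2, 2) from by decide +kernel]; simp
  have h15 : zv 30 t v (1, 2, 0) = v (1, 2, 0) := by
    rw [zv_def, show sg 30 (1, 2, 0) = 0 from by decide +kernel]; simp
  have h16 : zv 30 t v (1, 2, 1) = v (1, 2, 1) := by
    rw [zv_def, show sg 30 (1, 2, 1) = 0 from by decide +kernel]; simp
  have h17 : zv 30 t v (1, 2, 2) = v (1, 2, 2) - t * v (0, 2, 1) := by
    rw [zv_def, show sg 30 (1, 2, 2) = -1 from by decide +kernel, show sr 30 (1, 2, 2) = (0, 2, 1) from by decide +kernel]; push_cast; ring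
  have h18 : zv 30 t v (2, 0, 0) = v (2, 0, 0) := by
    rw [zv_def, show sg 30 (2, 0, 0) = 0 from by decide +kernel]; simp
  have h19 : zv 30 t v (2, 0, 1) = v (2, 0, 1) := by
    rw [zv_def, show sg 30 (2, 0, 1) = 0 from by decide +kernel]; simp
  have h20 : zv 30 t v (2, 0, 2) = v (2, 0, 2) + t * v (1, 0, 1) := by
    rw [zv_def, show sg 30 (2, 0, 2) = 1 from by decide +kernel, show sr 30 (2, 0, 2) = (1, 0, 1) from by decide +kernel]; simp
  have h21 : zv 30 t v (2, 1, 0) = v (2, 1, 0) := by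
    rw [zv_def, show sg 30 (2, 1, 0) = 0 from by decide +kernel]; simp
  have h22 : zv 30 t v (2, 1, 1) = v (2, 1, 1) := by
    rw [zv_def, show sg 30 (2, 1, 1) = 0 from by decide +kernel]; simp
  have h23 : zv 30 t v (2, 1, 2) = v (2, 1, 2) - t * v (1, 0, 0) := by
    rw [zv_def, show sg 30 (2, 1, 2) = -1 from by decide +kernel, show sr 30 (2, 1, 2) = (1, 0, 0) from by decide +kernel]; push_cast; ring
  have h24 : zv 30 t v (2, 2, 0) = v (2, 2, 0) := by
    rw [zv_def, show sg 30 (2, 2, 0) = 0 from by decide +kernel]; simp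
  have h25 : zv 30 t v (2, 2, 1) = v (2, 2, 1) := by
    rw [zv_def, show sg 30 (2, 2, 1) = 0 from by decide +kernel]; simp
  have h26 : zv 30 t v (2, 2, 2) = v (2, 2, 2) := by
    rw [zv_def, show sg 30 (2, 2, 2) = 0 from by decide +kernel]; simp
  rw [cubicT_expand, cubicT_expand]
  simp only [h0, h1, h2, h3, h4, h5, h6, h7, h8, h9, h10, h11, h12, h13, h14, h15, h16, h17, h18, h19, h20, h21, h22, h23, h24, h25, h26]
  ring

theorem inv_31 {F : Type*} [CommRing F] (t : F) (v : I27 → F) : cubicT (zv 31 t v) = cubicT v := by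
  have h0 : zv 31 t v (0, 0, 0) = v (0, 0, 0) := by
    rw [zv_def, show sg 31 (0, 0, 0) = 0 from by decide +kernel]; simp
  have h1 : zv 31 t v (0, 0, 1) = v (0, 0, 1) - t * v (2, 2, 1) := by
    rw [zv_def, show sg 31 (0, 0, 1) = -1 from by decide +kernel, show sr 31 (0, 0, 1) = (2, 2, 1) from by decide +kernel]; push_cast; ring
  have h2 : zv 31 t v (0, 0, 2) = v (0, 0, 2) := by
    rw [zv_def, show sg 31 (0, 0, 2) = 0 from by decide +kernel]; simp
  have h3 : zv 31 t v (0, 1, 0) = v (0, 1, 0) := by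
    rw [zv_def, show sg 31 (0, 1, 0) = 0 from by decide +kernel]; simp
  have h4 : zv 31 t v (0, 1, 1) = v (0, 1, 1) + t * v (2, 2, 0) := by
    rw [zv_def, show sg 31 (0, 1, 1) = 1 from by decide +kernel, show sr 31 (0, 1, 1) = (2, 2, 0) from by decide +kernel]; simp
  have h5 : zv 31 t v (0, 1, 2) = v (0, 1, 2) := by
    rw [zv_def, show sg 31 (0, 1, 2) = 0 from by decide +kernel]; simp
  have h6 : zv 31 t v (0, 2, 0) = v (0, 2, 0) := by
    rw [zv_def, show sg 31 (0, 2, 0) = 0 from by decide +kernel]; simp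
  have h7 : zv 31 t v (0, 2, 1) = v (0, 2, 1) := by
    rw [zv_def, show sg 31 (0, 2, 1) = 0 from by decide +kernel]; simp
  have h8 : zv 31 t v (0, 2, 2) = v (0, 2, 2) := by
    rw [zv_def, show sg 31 (0, 2, 2) = 0 from by decide +kernel]; simp
  have h9 : zv 31 t v (1, 0, 0) = v (1, 0, 0) := by
    rw [zv_def, show sg 31 (1, 0, 0) = 0 from by decide +kernel]; simp
  have h10 : zv 31 t v (1, 0, 1) = v (1, 0, 1) := by
    rw [zv_def, show sg 31 (1, 0, 1) = 0 from by decide +kernel]; simp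
  have h11 : zv 31 t v (1, 0, 2) = v (1, 0, 2) + t * v (0, 2, 2) := by
    rw [zv_def, show sg 31 (1, 0, 2) = 1 from by decide +kernel, show sr 31 (1, 0, 2) = (0, 2, 2) from by decide +kernel]; simp
  have h12 : zv 31 t v (1, 1, 0) = v (1, 1, 0) := by
    rw [zv_def, show sg 31 (1, 1, 0) = 0 from by decide +kernel]; simp
  have h13 : zv 31 t v (1, 1, 1) = v (1, 1, 1) := by
    rw [zv_def, show sg 31 (1, 1, 1) = 0 from by decide +kernel]; simp
  have h14 : zv 31 t v (1, 1, 2) = v (1, 1, 2) := by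
    rw [zv_def, show sg 31 (1, 1, 2) = 0 from by decide +kernel]; simp
  have h15 : zv 31 t v (1, 2, 0) = v (1, 2, 0) := by
    rw [zv_def, show sg 31 (1, 2, 0) = 0 from by decide +kernel]; simp
  have h16 : zv 31 t v (1, 2, 1) = v (1, 2, 1) := by
    rw [zv_def, show sg 31 (1, 2, 1) = 0 from by decide +kernel]; simp
  have h17 : zv 31 t v (1, 2, 2) = v (1, 2, 2) - t * v (0, 2, 0) := by
    rw [zv_def, show sg 31 (1, 2, 2) = -1 from by decide +kernel, show sr 31 (1, 2, 2) = (0, 2, 0) from by decide +kernel]; push_cast; ring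
  have h18 : zv 31 t v (2, 0, 0) = v (2, 0, 0) := by
    rw [zv_def, show sg 31 (2, 0, 0) = 0 from by decide +kernel]; simp
  have h19 : zv 31 t v (2, 0, 1) = v (2, 0, 1) := by
    rw [zv_def, show sg 31 (2, 0, 1) = 0 from by decide +kernel]; simp
  have h20 : zv 31 t v (2, 0, 2) = v (2, 0, 2) - t * v (1, 1, 1) := by
    rw [zv_def, show sg 31 (2, 0, 2) = -1 from by decide +kernel, show sr 31 (2, 0, 2) = (1, 1, 1) from by decide +kernel]; push_cast; ring
  have h21 : zv 31 t v (2, 1, 0) = v (2, 1, 0) := by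
    rw [zv_def, show sg 31 (2, 1, 0) = 0 from by decide +kernel]; simp
  have h22 : zv 31 t v (2, 1, 1) = v (2, 1, 1) := by
    rw [zv_def, show sg 31 (2, 1, 1) = 0 from by decide +kernel]; simp
  have h23 : zv 31 t v (2, 1, 2) = v (2, 1, 2) + t * v (1, 1, 0) := by
    rw [zv_def, show sg 31 (2, 1, 2) = 1 from by decide +kernel, show sr 31 (2, 1, 2) = (1, 1, 0) from by decide +kernel]; simp
  have h24 : zv 31 t v (2, 2, 0) = v (2, 2, 0) := by
    rw [zv_def, show sg 31 (2, 2, 0) = 0 from by decide +kernel]; simp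
  have h25 : zv 31 t v (2, 2, 1) = v (2, 2, 1) := by
    rw [zv_def, show sg 31 (2, 2, 1) = 0 from by decide +kernel]; simp
  have h26 : zv 31 t v (2, 2, 2) = v (2, 2, 2) := by
    rw [zv_def, show sg 31 (2, 2, 2) = 0 from by decide +kernel]; simp
  rw [cubicT_expand, cubicT_expand]
  simp only [h0, h1, h2, h3, h4, h5, h6, h7, h8, h9, h10, h11, h12, h13, h14, h15, h16, h17, h18, h19, h20, h21, h22, h23, h24, h25, h26]
  ring

theorem inv_32 {F : Type*} [CommRing F] (t : F) (v : I27 → F) : cubicT (zv 32 t v) = cubicT v := by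
  have h0 : zv 32 t v (0, 0, 0) = v (0, 0, 0) := by
    rw [zv_def, show sg 32 (0, 0, 0) = 0 from by decide +kernel]; simp
  have h1 : zv 32 t v (0, 0, 1) = v (0, 0, 1) := by
    rw [zv_def, show sg 32 (0, 0, 1) = 0 from by decide +kernel]; simp
  have h2 : zv 32 t v (0, 0, 2) = v (0, 0, 2) + t * v (2, 2, 1) := by
    rw [zv_def, show sg 32 (0, 0, 2) = 1 from by decide +kernel, show sr 32 (0, 0, 2) = (2, 2, 1) from by decide +kernel]; simp
  have h3 : zv 32 t v (0, 1, 0) = v (0, 1, 0) := by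
    rw [zv_def, show sg 32 (0, 1, 0) = 0 from by decide +kernel]; simp
  have h4 : zv 32 t v (0, 1, 1) = v (0, 1, 1) := by
    rw [zv_def, show sg 32 (0, 1, 1) = 0 from by decide +kernel]; simp
  have h5 : zv 32 t v (0, 1, 2) = v (0, 1, 2) - t * v (2, 2, 0) := by
    rw [zv_def, show sg 32 (0, 1, 2) = -1 from by decide +kernel, show sr 32 (0, 1, 2) = (2, 2, 0) from by decide +kernel]; push_cast; ring
  have h6 : zv 32 t v (0, 2, 0) = v (0, 2, 0) := by
    rw [zv_def, show sg 32 (0, 2, 0) = 0 from by decide +kernel]; simp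
  have h7 : zv 32 t v (0, 2, 1) = v (0, 2, 1) := by
    rw [zv_def, show sg 32 (0, 2, 1) = 0 from by decide +kernel]; simp
  have h8 : zv 32 t v (0, 2, 2) = v (0, 2, 2) := by
    rw [zv_def, show sg 32 (0, 2, 2) = 0 from by decide +kernel]; simp
  have h9 : zv 32 t v (1, 0, 0) = v (1, 0, 0) := by
    rw [zv_def, show sg 32 (1, 0, 0) = 0 from by decide +kernel]; simp
  have h10 : zv 32 t v (1, 0, 1) = v (1, 0, 1) := by
    rw [zv_def, show sg 32 (1, 0, 1) = 0 from by decide +kernel]; simp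
  have h11 : zv 32 t v (1, 0, 2) = v (1, 0, 2) + t * v (0, 2, 1) := by
    rw [zv_def, show sg 32 (1, 0, 2) = 1 from by decide +kernel, show sr 32 (1, 0, 2) = (0, 2, 1) from by decide +kernel]; simp
  have h12 : zv 32 t v (1, 1, 0) = v (1, 1, 0) := by
    rw [zv_def, show sg 32 (1, 1, 0) = 0 from by decide +kernel]; simp
  have h13 : zv 32 t v (1, 1, 1) = v (1, 1, 1) := by
    rw [zv_def, show sg 32 (1, 1, 1) = 0 from by decide +kernel]; simp
  have h14 : zv 32 t v (1, 1, 2) = v (1, 1, 2) - t * v (0, 2, 0) := by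
    rw [zv_def, show sg 32 (1, 1, 2) = -1 from by decide +kernel, show sr 32 (1, 1, 2) = (0, 2, 0) from by decide +kernel]; push_cast; ring
  have h15 : zv 32 t v (1, 2, 0) = v (1, 2, 0) := by
    rw [zv_def, show sg 32 (1, 2, 0) = 0 from by decide +kernel]; simp
  have h16 : zv 32 t v (1, 2, 1) = v (1, 2, 1) := by
    rw [zv_def, show sg 32 (1, 2, 1) = 0 from by decide +kernel]; simp
  have h17 : zv 32 t v (1, 2, 2) = v (1, 2, 2) := by
    rw [zv_def, show sg 32 (1, 2, 2) = 0 from by decide +kernel]; simp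
  have h18 : zv 32 t v (2, 0, 0) = v (2, 0, 0) := by
    rw [zv_def, show sg 32 (2, 0, 0) = 0 from by decide +kernel]; simp
  have h19 : zv 32 t v (2, 0, 1) = v (2, 0, 1) := by
    rw [zv_def, show sg 32 (2, 0, 1) = 0 from by decide +kernel]; simp
  have h20 : zv 32 t v (2, 0, 2) = v (2, 0, 2) + t * v (1, 2, 1) := by
    rw [zv_def, show sg 32 (2, 0, 2) = 1 from by decide +kernel, show sr 32 (2, 0, 2) = (1, 2, 1) from by decide +kernel]; simp
  have h21 : zv 32 t v (2, 1, 0) = v (2, 1, 0) := by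
    rw [zv_def, show sg 32 (2, 1, 0) = 0 from by decide +kernel]; simp
  have h22 : zv 32 t v (2, 1, 1) = v (2, 1, 1) := by
    rw [zv_def, show sg 32 (2, 1, 1) = 0 from by decide +kernel]; simp
  have h23 : zv 32 t v (2, 1, 2) = v (2, 1, 2) - t * v (1, 2, 0) := by
    rw [zv_def, show sg 32 (2, 1, 2) = -1 from by decide +kernel, show sr 32 (2, 1, 2) = (1, 2, 0) from by decide +kernel]; push_cast; ring
  have h24 : zv 32 t v (2, 2, 0) = v (2, 2, 0) := by
    rw [zv_def, show sg 32 (2, 2, 0) = 0 from by decide +kernel]; simp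
  have h25 : zv 32 t v (2, 2, 1) = v (2, 2, 1) := by
    rw [zv_def, show sg 32 (2, 2, 1) = 0 from by decide +kernel]; simp
  have h26 : zv 32 t v (2, 2, 2) = v (2, 2, 2) := by
    rw [zv_def, show sg 32 (2, 2, 2) = 0 from by decide +kernel]; simp
  rw [cubicT_expand, cubicT_expand]
  simp only [h0, h1, h2, h3, h4, h5, h6, h7, h8, h9, h10, h11, h12, h13, h14, h15, h16, h17, h18, h19, h20, h21, h22, h23, h24, h25, h26]
  ring

theorem inv_33 {F : Type*} [CommRing F] (t : F) (v : I27 → F) : cubicT (zv 33 t v) = cubicT v := by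
  have h0 : zv 33 t v (0, 0, 0) = v (0, 0, 0) - t * v (0, 0, 2) := by
    rw [zv_def, show sg 33 (0, 0, 0) = -1 from by decide +kernel, show sr 33 (0, 0, 0) = (0, 0, 2) from by decide +kernel]; push_cast; ring
  have h1 : zv 33 t v (0, 0, 1) = v (0, 0, 1) := by
    rw [zv_def, show sg 33 (0, 0, 1) = 0 from by decide +kernel]; simp
  have h2 : zv 33 t v (0, 0, 2) = v (0, 0, 2) := by
    rw [zv_def, show sg 33 (0, 0, 2) = 0 from by decide +kernel]; simp
  have h3 : zv 33 t v (0, 1, 0) = v (0, 1, 0) - t * v (0, 1, 2) := by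
    rw [zv_def, show sg 33 (0, 1, 0) = -1 from by decide +kernel, show sr 33 (0, 1, 0) = (0, 1, 2) from by decide +kernel]; push_cast; ring
  have h4 : zv 33 t v (0, 1, 1) = v (0, 1, 1) := by
    rw [zv_def, show sg 33 (0, 1, 1) = 0 from by decide +kernel]; simp
  have h5 : zv 33 t v (0, 1, 2) = v (0, 1, 2) := by
    rw [zv_def, show sg 33 (0, 1, 2) = 0 from by decide +kernel]; simp
  have h6 : zv 33 t v (0, 2, 0) = v (0, 2, 0) - t * v (0, 2, 2) := by
    rw [zv_def, show sg 33 (0, 2, 0) = -1 from by decide +kernel, show sr 33 (0, 2, 0) = (0, 2, 2) from by decide +kernel]; push_cast; ring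
  have h7 : zv 33 t v (0, 2, 1) = v (0, 2, 1) := by
    rw [zv_def, show sg 33 (0, 2, 1) = 0 from by decide +kernel]; simp
  have h8 : zv 33 t v (0, 2, 2) = v (0, 2, 2) := by
    rw [zv_def, show sg 33 (0, 2, 2) = 0 from by decide +kernel]; simp
  have h9 : zv 33 t v (1, 0, 0) = v (1, 0, 0) := by
    rw [zv_def, show sg 33 (1, 0, 0) = 0 from by decide +kernel]; simp
  have h10 : zv 33 t v (1, 0, 1) = v (1, 0, 1) := by
    rw [zv_def, show sg 33 (1, 0, 1) = 0 from by decide +kernel]; simp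
  have h11 : zv 33 t v (1, 0, 2) = v (1, 0, 2) := by
    rw [zv_def, show sg 33 (1, 0, 2) = 0 from by decide +kernel]; simp
  have h12 : zv 33 t v (1, 1, 0) = v (1, 1, 0) := by
    rw [zv_def, show sg 33 (1, 1, 0) = 0 from by decide +kernel]; simp
  have h13 : zv 33 t v (1, 1, 1) = v (1, 1, 1) := by
    rw [zv_def, show sg 33 (1, 1, 1) = 0 from by decide +kernel]; simp
  have h14 : zv 33 t v (1, 1, 2) = v (1, 1, 2) := by
    rw [zv_def, show sg 33 (1, 1, 2) = 0 from by decide +kernel]; simp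
  have h15 : zv 33 t v (1, 2, 0) = v (1, 2, 0) + t * v (1, 0, 0) := by
    rw [zv_def, show sg 33 (1, 2, 0) = 1 from by decide +kernel, show sr 33 (1, 2, 0) = (1, 0, 0) from by decide +kernel]; simp
  have h16 : zv 33 t v (1, 2, 1) = v (1, 2, 1) + t * v (1, 0, 1) := by
    rw [zv_def, show sg 33 (1, 2, 1) = 1 from by decide +kernel, show sr 33 (1, 2, 1) = (1, 0, 1) from by decide +kernel]; simp
  have h17 : zv 33 t v (1, 2, 2) = v (1, 2, 2) + t * v (1, 0, 2) := by
    rw [zv_def, show sg 33 (1, 2, 2) = 1 from by decide +kernel, show sr 33 (1, 2, 2) = (1, 0, 2) from by decide +kernel]; simp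
  have h18 : zv 33 t v (2, 0, 0) = v (2, 0, 0) := by
    rw [zv_def, show sg 33 (2, 0, 0) = 0 from by decide +kernel]; simp
  have h19 : zv 33 t v (2, 0, 1) = v (2, 0, 1) := by
    rw [zv_def, show sg 33 (2, 0, 1) = 0 from by decide +kernel]; simp
  have h20 : zv 33 t v (2, 0, 2) = v (2, 0, 2) := by
    rw [zv_def, show sg 33 (2, 0, 2) = 0 from by decide +kernel]; simp
  have h21 : zv 33 t v (2, 1, 0) = v (2, 1, 0) := by
    rw [zv_def, show sg 33 (2, 1, 0) = 0 from by decide +kernel]; simp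
  have h22 : zv 33 t v (2, 1, 1) = v (2, 1, 1) := by
    rw [zv_def, show sg 33 (2, 1, 1) = 0 from by decide +kernel]; simp
  have h23 : zv 33 t v (2, 1, 2) = v (2, 1, 2) := by
    rw [zv_def, show sg 33 (2, 1, 2) = 0 from by decide +kernel]; simp
  have h24 : zv 33 t v (2, 2, 0) = v (2, 2, 0) := by
    rw [zv_def, show sg 33 (2, 2, 0) = 0 from by decide +kernel]; simp
  have h25 : zv 33 t v (2, 2, 1) = v (2, 2, 1) := by
    rw [zv_def, show sg 33 (2, 2, 1) = 0 from by decide +kernel]; simp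
  have h26 : zv 33 t v (2, 2, 2) = v (2, 2, 2) := by
    rw [zv_def, show sg 33 (2, 2, 2) = 0 from by decide +kernel]; simp
  rw [cubicT_expand, cubicT_expand]
  simp only [h0, h1, h2, h3, h4, h5, h6, h7, h8, h9, h10, h11, h12, h13, h14, h15, h16, h17, h18, h19, h20, h21, h22, h23, h24, h25, h26]
  ring

theorem inv_34 {F : Type*} [CommRing F] (t : F) (v : I27 → F) : cubicT (zv 34 t v) = cubicT v := by
  have h0 : zv 34 t v (0, 0, 0) = v (0, 0, 0) := by
    rw [zv_def, show sg 34 (0, 0, 0) = 0 from by decide +kernel]; simp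
  have h1 : zv 34 t v (0, 0, 1) = v (0, 0, 1) + t * v (0, 0, 2) := by
    rw [zv_def, show sg 34 (0, 0, 1) = 1 from by decide +kernel, show sr 34 (0, 0, 1) = (0, 0, 2) from by decide +kernel]; simp
  have h2 : zv 34 t v (0, 0, 2) = v (0, 0, 2) := by
    rw [zv_def, show sg 34 (0, 0, 2) = 0 from by decide +kernel]; simp
  have h3 : zv 34 t v (0, 1, 0) = v (0, 1, 0) := by
    rw [zv_def, show sg 34 (0, 1, 0) = 0 from by decide +kernel]; simp
  have h4 : zv 34 t v (0, 1, 1) = v (0, 1, 1) + t * v (0, 1, 2) := by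
    rw [zv_def, show sg 34 (0, 1, 1) = 1 from by decide +kernel, show sr 34 (0, 1, 1) = (0, 1, 2) from by decide +kernel]; simp
  have h5 : zv 34 t v (0, 1, 2) = v (0, 1, 2) := by
    rw [zv_def, show sg 34 (0, 1, 2) = 0 from by decide +kernel]; simp
  have h6 : zv 34 t v (0, 2, 0) = v (0, 2, 0) := by
    rw [zv_def, show sg 34 (0, 2, 0) = 0 from by decide +kernel]; simp
  have h7 : zv 34 t v (0, 2, 1) = v (0, 2, 1) + t * v (0, 2, 2) := by
    rw [zv_def, show sg 34 (0, 2, 1) = 1 from by decide +kernel, show sr 34 (0, 2, 1) = (0, 2, 2) from by decide +kernel]; simp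
  have h8 : zv 34 t v (0, 2, 2) = v (0, 2, 2) := by
    rw [zv_def, show sg 34 (0, 2, 2) = 0 from by decide +kernel]; simp
  have h9 : zv 34 t v (1, 0, 0) = v (1, 0, 0) := by
    rw [zv_def, show sg 34 (1, 0, 0) = 0 from by decide +kernel]; simp
  have h10 : zv 34 t v (1, 0, 1) = v (1, 0, 1) := by
    rw [zv_def, show sg 34 (1, 0, 1) = 0 from by decide +kernel]; simp
  have h11 : zv 34 t v (1, 0, 2) = v (1, 0, 2) := by
    rw [zv_def, show sg 34 (1, 0, 2) = 0 from by decide +kernel]; simp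
  have h12 : zv 34 t v (1, 1, 0) = v (1, 1, 0) := by
    rw [zv_def, show sg 34 (1, 1, 0) = 0 from by decide +kernel]; simp
  have h13 : zv 34 t v (1, 1, 1) = v (1, 1, 1) := by
    rw [zv_def, show sg 34 (1, 1, 1) = 0 from by decide +kernel]; simp
  have h14 : zv 34 t v (1, 1, 2) = v (1, 1, 2) := by
    rw [zv_def, show sg 34 (1, 1, 2) = 0 from by decide +kernel]; simp
  have h15 : zv 34 t v (1, 2, 0) = v (1, 2, 0) - t * v (1, 1, 0) := by
    rw [zv_def, show sg 34 (1, 2, 0) = -1 from by decide +kernel, show sr 34 (1, 2, 0) = (1, 1, 0) from by decide +kernel]; push_cast; ring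
  have h16 : zv 34 t v (1, 2, 1) = v (1, 2, 1) - t * v (1, 1, 1) := by
    rw [zv_def, show sg 34 (1, 2, 1) = -1 from by decide +kernel, show sr 34 (1, 2, 1) = (1, 1, 1) from by decide +kernel]; push_cast; ring
  have h17 : zv 34 t v (1, 2, 2) = v (1, 2, 2) - t * v (1, 1, 2) := by
    rw [zv_def, show sg 34 (1, 2, 2) = -1 from by decide +kernel, show sr 34 (1, 2, 2) = (1, 1, 2) from by decide +kernel]; push_cast; ring
  have h18 : zv 34 t v (2, 0, 0) = v (2, 0, 0) := by
    rw [zv_def, show sg 34 (2, 0, 0) = 0 from by decide +kernel]; simp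
  have h19 : zv 34 t v (2, 0, 1) = v (2, 0, 1) := by
    rw [zv_def, show sg 34 (2, 0, 1) = 0 from by decide +kernel]; simp
  have h20 : zv 34 t v (2, 0, 2) = v (2, 0, 2) := by
    rw [zv_def, show sg 34 (2, 0, 2) = 0 from by decide +kernel]; simp
  have h21 : zv 34 t v (2, 1, 0) = v (2, 1, 0) := by
    rw [zv_def, show sg 34 (2, 1, 0) = 0 from by decide +kernel]; simp
  have h22 : zv 34 t v (2, 1, 1) = v (2, 1, 1) := by
    rw [zv_def, show sg 34 (2, 1, 1) = 0 from by decide +kernel]; simp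
  have h23 : zv 34 t v (2, 1, 2) = v (2, 1, 2) := by
    rw [zv_def, show sg 34 (2, 1, 2) = 0 from by decide +kernel]; simp
  have h24 : zv 34 t v (2, 2, 0) = v (2, 2, 0) := by
    rw [zv_def, show sg 34 (2, 2, 0) = 0 from by decide +kernel]; simp
  have h25 : zv 34 t v (2, 2, 1) = v (2, 2, 1) := by
    rw [zv_def, show sg 34 (2, 2, 1) = 0 from by decide +kernel]; simp
  have h26 : zv 34 t v (2, 2, 2) = v (2, 2, 2) := by
    rw [zv_def, show sg 34 (2, 2, 2) = 0 from by decide +kernel]; simp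
  rw [cubicT_expand, cubicT_expand]
  simp only [h0, h1, h2, h3, h4, h5, h6, h7, h8, h9, h10, h11, h12, h13, h14, h15, h16, h17, h18, h19, h20, h21, h22, h23, h24, h25, h26]
  ring

theorem inv_35 {F : Type*} [CommRing F] (t : F) (v : I27 → F) : cubicT (zv 35 t v) = cubicT v := by
  have h0 : zv 35 t v (0, 0, 0) = v (0, 0, 0) + t * v (0, 0, 1) := by
    rw [zv_def, show sg 35 (0, 0, 0) = 1 from by decide +kernel, show sr 35 (0, 0, 0) = (0, 0, 1) from by decide +kernel]; simp
  have h1 : zv 35 t v (0, 0, 1) = v (0, 0, 1) := by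
    rw [zv_def, show sg 35 (0, 0, 1) = 0 from by decide +kernel]; simp
  have h2 : zv 35 t v (0, 0, 2) = v (0, 0, 2) := by
    rw [zv_def, show sg 35 (0, 0, 2) = 0 from by decide +kernel]; simp
  have h3 : zv 35 t v (0, 1, 0) = v (0, 1, 0) + t * v (0, 1, 1) := by
    rw [zv_def, show sg 35 (0, 1, 0) = 1 from by decide +kernel, show sr 35 (0, 1, 0) = (0, 1, 1) from by decide +kernel]; simp
  have h4 : zv 35 t v (0, 1, 1) = v (0, 1, 1) := by
    rw [zv_def, show sg 35 (0, 1, 1) = 0 from by decide +kernel]; simp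
  have h5 : zv 35 t v (0, 1, 2) = v (0, 1, 2) := by
    rw [zv_def, show sg 35 (0, 1, 2) = 0 from by decide +kernel]; simp
  have h6 : zv 35 t v (0, 2, 0) = v (0, 2, 0) + t * v (0, 2, 1) := by
    rw [zv_def, show sg 35 (0, 2, 0) = 1 from by decide +kernel, show sr 35 (0, 2, 0) = (0, 2, 1) from by decide +kernel]; simp
  have h7 : zv 35 t v (0, 2, 1) = v (0, 2, 1) := by
    rw [zv_def, show sg 35 (0, 2, 1) = 0 from by decide +kernel]; simp
  have h8 : zv 35 t v (0, 2, 2) = v (0, 2, 2) := by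
    rw [zv_def, show sg 35 (0, 2, 2) = 0 from by decide +kernel]; simp
  have h9 : zv 35 t v (1, 0, 0) = v (1, 0, 0) := by
    rw [zv_def, show sg 35 (1, 0, 0) = 0 from by decide +kernel]; simp
  have h10 : zv 35 t v (1, 0, 1) = v (1, 0, 1) := by
    rw [zv_def, show sg 35 (1, 0, 1) = 0 from by decide +kernel]; simp
  have h11 : zv 35 t v (1, 0, 2) = v (1, 0, 2) := by
    rw [zv_def, show sg 35 (1, 0, 2) = 0 from by decide +kernel]; simp
  have h12 : zv 35 t v (1, 1, 0) = v (1, 1, 0) - t * v (1, 0, 0) := by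
    rw [zv_def, show sg 35 (1, 1, 0) = -1 from by decide +kernel, show sr 35 (1, 1, 0) = (1, 0, 0) from by decide +kernel]; push_cast; ring
  have h13 : zv 35 t v (1, 1, 1) = v (1, 1, 1) - t * v (1, 0, 1) := by
    rw [zv_def, show sg 35 (1, 1, 1) = -1 from by decide +kernel, show sr 35 (1, 1, 1) = (1, 0, 1) from by decide +kernel]; push_cast; ring
  have h14 : zv 35 t v (1, 1, 2) = v (1, 1, 2) - t * v (1, 0, 2) := by
    rw [zv_def, show sg 35 (1, 1, 2) = -1 from by decide +kernel, show sr 35 (1, 1, 2) = (1, 0, 2) from by decide +kernel]; push_cast; ring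
  have h15 : zv 35 t v (1, 2, 0) = v (1, 2, 0) := by
    rw [zv_def, show sg 35 (1, 2, 0) = 0 from by decide +kernel]; simp
  have h16 : zv 35 t v (1, 2, 1) = v (1, 2, 1) := by
    rw [zv_def, show sg 35 (1, 2, 1) = 0 from by decide +kernel]; simp
  have h17 : zv 35 t v (1, 2, 2) = v (1, 2, 2) := by
    rw [zv_def, show sg 35 (1, 2, 2) = 0 from by decide +kernel]; simp
  have h18 : zv 35 t v (2, 0, 0) = v (2, 0, 0) := by
    rw [zv_def, show sg 35 (2, 0, 0) = 0 from by decide +kernel]; simp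
  have h19 : zv 35 t v (2, 0, 1) = v (2, 0, 1) := by
    rw [zv_def, show sg 35 (2, 0, 1) = 0 from by decide +kernel]; simp
  have h20 : zv 35 t v (2, 0, 2) = v (2, 0, 2) := by
    rw [zv_def, show sg 35 (2, 0, 2) = 0 from by decide +kernel]; simp
  have h21 : zv 35 t v (2, 1, 0) = v (2, 1, 0) := by
    rw [zv_def, show sg 35 (2, 1, 0) = 0 from by decide +kernel]; simp
  have h22 : zv 35 t v (2, 1, 1) = v (2, 1, 1) := by
    rw [zv_def, show sg 35 (2, 1, 1) = 0 from by decide +kernel]; simp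
  have h23 : zv 35 t v (2, 1, 2) = v (2, 1, 2) := by
    rw [zv_def, show sg 35 (2, 1, 2) = 0 from by decide +kernel]; simp
  have h24 : zv 35 t v (2, 2, 0) = v (2, 2, 0) := by
    rw [zv_def, show sg 35 (2, 2, 0) = 0 from by decide +kernel]; simp
  have h25 : zv 35 t v (2, 2, 1) = v (2, 2, 1) := by
    rw [zv_def, show sg 35 (2, 2, 1) = 0 from by decide +kernel]; simp
  have h26 : zv 35 t v (2, 2, 2) = v (2, 2, 2) := by
    rw [zv_def, show sg 35 (2, 2, 2) = 0 from by decide +kernel]; simp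
  rw [cubicT_expand, cubicT_expand]
  simp only [h0, h1, h2, h3, h4, h5, h6, h7, h8, h9, h10, h11, h12, h13, h14, h15, h16, h17, h18, h19, h20, h21, h22, h23, h24, h25, h26]
  ring

end Cfsg.Agent.ChevalleyStructure.E6Min.Inv2
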