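import Cfsg.Agent.ChevalleyStructure.E6Min.Expand

/-!
# The root elements `1 + t N_r` preserve the cubic form (roots 36 to 53)
-/

set_option autoImplicit false

namespace Cfsg.Agent.ChevalleyStructure.E6Min.Inv3

open Cfsg.Lie Cfsg.Agent.ChevalleyStructure.E6Min.Tables Cfsg.Agent.ChevalleyStructure.E6Min.Basic
  Cfsg.Agent.ChevalleyStructure.E6Min.Expand

theorem inv_36 {F : Type*} [CommRing F] (t : F) (v : I27 → F) : cubicT (zv 36 t v) = cubicT v := by
  have h0 : zv 36 t v (0, 0, 0) = v (0, 0, 0) := by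
    rw [zv_def, show sg 36 (0, 0, 0) = 0 from by decide +kernel]; simp
  have h1 : zv 36 t v (0, 0, 1) = v (0, 0, 1) + t * v (0, 0, 0) := by
    rw [zv_def, show sg 36 (0, 0, 1) = 1 from by decide +kernel, show sr 36 (0, 0, 1) = (0, 0, 0) from by decide +kernel]; simp
  have h2 : zv 36 t v (0, 0, 2) = v (0, 0, 2) := by
    rw [zv_def, show sg 36 (0, 0, 2) = 0 from by decide +kernel]; simp
  have h3 : zv 36 t v (0, 1, 0) = v (0, 1, 0) := by
    rw [zv_def, show sg 36 (0, 1, 0) = 0 from by decide +kernel]; simp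
  have h4 : zv 36 t v (0, 1, 1) = v (0, 1, 1) + t * v (0, 1, 0) := by
    rw [zv_def, show sg 36 (0, 1, 1) = 1 from by decide +kernel, show sr 36 (0, 1, 1) = (0, 1, 0) from by decide +kernel]; simp
  have h5 : zv 36 t v (0, 1, 2) = v (0, 1, 2) := by
    rw [zv_def, show sg 36 (0, 1, 2) = 0 from by decide +kernel]; simp
  have h6 : zv 36 t v (0, 2, 0) = v (0, 2, 0) := by
    rw [zv_def, show sg 36 (0, 2, 0) = 0 from by decide +kernel]; simp
  have h7 : zv 36 t v (0, 2, 1) = v (0, 2, 1) + t * v (0, 2, 0) := by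
    rw [zv_def, show sg 36 (0, 2, 1) = 1 from by decide +kernel, show sr 36 (0, 2, 1) = (0, 2, 0) from by decide +kernel]; simp
  have h8 : zv 36 t v (0, 2, 2) = v (0, 2, 2) := by
    rw [zv_def, show sg 36 (0, 2, 2) = 0 from by decide +kernel]; simp
  have h9 : zv 36 t v (1, 0, 0) = v (1, 0, 0) - t * v (1, 1, 0) := by
    rw [zv_def, show sg 36 (1, 0, 0) = -1 from by decide +kernel, show sr 36 (1, 0, 0) = (1, 1, 0) from by decide +kernel]; push_cast; ring
  have h10 : zv 36 t v (1, 0, 1) = v (1, 0, 1) - t * v (1, 1, 1) := by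
    rw [zv_def, show sg 36 (1, 0, 1) = -1 from by decide +kernel, show sr 36 (1, 0, 1) = (1, 1, 1) from by decide +kernel]; push_cast; ring
  have h11 : zv 36 t v (1, 0, 2) = v (1, 0, 2) - t * v (1, 1, 2) := by
    rw [zv_def, show sg 36 (1, 0, 2) = -1 from by decide +kernel, show sr 36 (1, 0, 2) = (1, 1, 2) from by decide +kernel]; push_cast; ring
  have h12 : zv 36 t v (1, 1, 0) = v (1, 1, 0) := by
    rw [zv_def, show sg 36 (1, 1, 0) = 0 from by decide +kernel]; simp
  have h13 : zv 36 t v (1, 1, 1) = v (1, 1, 1) := by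
    rw [zv_def, show sg 36 (1, 1, 1) = 0 from by decide +kernel]; simp
  have h14 : zv 36 t v (1, 1, 2) = v (1, 1, 2) := by
    rw [zv_def, show sg 36 (1, 1, 2) = 0 from by decide +kernel]; simp
  have h15 : zv 36 t v (1, 2, 0) = v (1, 2, 0) := by
    rw [zv_def, show sg 36 (1, 2, 0) = 0 from by decide +kernel]; simp
  have h16 : zv 36 t v (1, 2, 1) = v (1, 2, 1) := by
    rw [zv_def, show sg 36 (1, 2, 1) = 0 from by decide +kernel]; simp
  have h17 : zv 36 t v (1, 2, 2) = v (1, 2, 2) := by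
    rw [zv_def, show sg 36 (1, 2, 2) = 0 from by decide +kernel]; simp
  have h18 : zv 36 t v (2, 0, 0) = v (2, 0, 0) := by
    rw [zv_def, show sg 36 (2, 0, 0) = 0 from by decide +kernel]; simp
  have h19 : zv 36 t v (2, 0, 1) = v (2, 0, 1) := by
    rw [zv_def, show sg 36 (2, 0, 1) = 0 from by decide +kernel]; simp
  have h20 : zv 36 t v (2, 0, 2) = v (2, 0, 2) := by
    rw [zv_def, show sg 36 (2, 0, 2) = 0 from by decide +kernel]; simp
  have h21 : zv 36 t v (2, 1, 0) = v (2, 1, 0) := by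
    rw [zv_def, show sg 36 (2, 1, 0) = 0 from by decide +kernel]; simp
  have h22 : zv 36 t v (2, 1, 1) = v (2, 1, 1) := by
    rw [zv_def, show sg 36 (2, 1, 1) = 0 from by decide +kernel]; simp
  have h23 : zv 36 t v (2, 1, 2) = v (2, 1, 2) := by
    rw [zv_def, show sg 36 (2, 1, 2) = 0 from by decide +kernel]; simp
  have h24 : zv 36 t v (2, 2, 0) = v (2, 2, 0) := by
    rw [zv_def, show sg 36 (2, 2, 0) = 0 from by decide +kernel]; simp
  have h25 : zv 36 t v (2, 2, 1) = v (2, 2, 1) := by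
    rw [zv_def, show sg 36 (2, 2, 1) = 0 from by decide +kernel]; simp
  have h26 : zv 36 t v (2, 2, 2) = v (2, 2, 2) := by
    rw [zv_def, show sg 36 (2, 2, 2) = 0 from by decide +kernel]; simp
  rw [cubicT_expand, cubicT_expand]
  simp only [h0, h1, h2, h3, h4, h5, h6, h7, h8, h9, h10, h11, h12, h13, h14, h15, h16, h17, h18, h19, h20, h21, h22, h23, h24, h25, h26]
  ring

theorem inv_37 {F : Type*} [CommRing F] (t : F) (v : I27 → F) : cubicT (zv 37 t v) = cubicT v := by
  have h0 : zv 37 t v (0, 0, 0) = v (0, 0, 0) := by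
    rw [zv_def, show sg 37 (0, 0, 0) = 0 from by decide +kernel]; simp
  have h1 : zv 37 t v (0, 0, 1) = v (0, 0, 1) := by
    rw [zv_def, show sg 37 (0, 0, 1) = 0 from by decide +kernel]; simp
  have h2 : zv 37 t v (0, 0, 2) = v (0, 0, 2) + t * v (0, 0, 1) := by
    rw [zv_def, show sg 37 (0, 0, 2) = 1 from by decide +kernel, show sr 37 (0, 0, 2) = (0, 0, 1) from by decide +kernel]; simp
  have h3 : zv 37 t v (0, 1, 0) = v (0, 1, 0) := by
    rw [zv_def, show sg 37 (0, 1, 0) = 0 from by decide +kernel]; simp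
  have h4 : zv 37 t v (0, 1, 1) = v (0, 1, 1) := by
    rw [zv_def, show sg 37 (0, 1, 1) = 0 from by decide +kernel]; simp
  have h5 : zv 37 t v (0, 1, 2) = v (0, 1, 2) + t * v (0, 1, 1) := by
    rw [zv_def, show sg 37 (0, 1, 2) = 1 from by decide +kernel, show sr 37 (0, 1, 2) = (0, 1, 1) from by decide +kernel]; simp
  have h6 : zv 37 t v (0, 2, 0) = v (0, 2, 0) := by
    rw [zv_def, show sg 37 (0, 2, 0) = 0 from by decide +kernel]; simp
  have h7 : zv 37 t v (0, 2, 1) = v (0, 2, 1) := by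
    rw [zv_def, show sg 37 (0, 2, 1) = 0 from by decide +kernel]; simp
  have h8 : zv 37 t v (0, 2, 2) = v (0, 2, 2) + t * v (0, 2, 1) := by
    rw [zv_def, show sg 37 (0, 2, 2) = 1 from by decide +kernel, show sr 37 (0, 2, 2) = (0, 2, 1) from by decide +kernel]; simp
  have h9 : zv 37 t v (1, 0, 0) = v (1, 0, 0) := by
    rw [zv_def, show sg 37 (1, 0, 0) = 0 from by decide +kernel]; simp
  have h10 : zv 37 t v (1, 0, 1) = v (1, 0, 1) := by
    rw [zv_def, show sg 37 (1, 0, 1) = 0 from by decide +kernel]; simp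
  have h11 : zv 37 t v (1, 0, 2) = v (1, 0, 2) := by
    rw [zv_def, show sg 37 (1, 0, 2) = 0 from by decide +kernel]; simp
  have h12 : zv 37 t v (1, 1, 0) = v (1, 1, 0) - t * v (1, 2, 0) := by
    rw [zv_def, show sg 37 (1, 1, 0) = -1 from by decide +kernel, show sr 37 (1, 1, 0) = (1, 2, 0) from by decide +kernel]; push_cast; ring
  have h13 : zv 37 t v (1, 1, 1) = v (1, 1, 1) - t * v (1, 2, 1) := by
    rw [zv_def, show sg 37 (1, 1, 1) = -1 from by decide +kernel, show sr 37 (1, 1, 1) = (1, 2, 1) from by decide +kernel]; push_cast; ring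
  have h14 : zv 37 t v (1, 1, 2) = v (1, 1, 2) - t * v (1, 2, 2) := by
    rw [zv_def, show sg 37 (1, 1, 2) = -1 from by decide +kernel, show sr 37 (1, 1, 2) = (1, 2, 2) from by decide +kernel]; push_cast; ring
  have h15 : zv 37 t v (1, 2, 0) = v (1, 2, 0) := by
    rw [zv_def, show sg 37 (1, 2, 0) = 0 from by decide +kernel]; simp
  have h16 : zv 37 t v (1, 2, 1) = v (1, 2, 1) := by
    rw [zv_def, show sg 37 (1, 2, 1) = 0 from by decide +kernel]; simp
  have h17 : zv 37 t v (1, 2, 2) = v (1, 2, 2) := by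
    rw [zv_def, show sg 37 (1, 2, 2) = 0 from by decide +kernel]; simp
  have h18 : zv 37 t v (2, 0, 0) = v (2, 0, 0) := by
    rw [zv_def, show sg 37 (2, 0, 0) = 0 from by decide +kernel]; simp
  have h19 : zv 37 t v (2, 0, 1) = v (2, 0, 1) := by
    rw [zv_def, show sg 37 (2, 0, 1) = 0 from by decide +kernel]; simp
  have h20 : zv 37 t v (2, 0, 2) = v (2, 0, 2) := by
    rw [zv_def, show sg 37 (2, 0, 2) = 0 from by decide +kernel]; simp
  have h21 : zv 37 t v (2, 1, 0) = v (2, 1, 0) := by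
    rw [zv_def, show sg 37 (2, 1, 0) = 0 from by decide +kernel]; simp
  have h22 : zv 37 t v (2, 1, 1) = v (2, 1, 1) := by
    rw [zv_def, show sg 37 (2, 1, 1) = 0 from by decide +kernel]; simp
  have h23 : zv 37 t v (2, 1, 2) = v (2, 1, 2) := by
    rw [zv_def, show sg 37 (2, 1, 2) = 0 from by decide +kernel]; simp
  have h24 : zv 37 t v (2, 2, 0) = v (2, 2, 0) := by
    rw [zv_def, show sg 37 (2, 2, 0) = 0 from by decide +kernel]; simp
  have h25 : zv 37 t v (2, 2, 1) = v (2, 2, 1) := by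
    rw [zv_def, show sg 37 (2, 2, 1) = 0 from by decide +kernel]; simp
  have h26 : zv 37 t v (2, 2, 2) = v (2, 2, 2) := by
    rw [zv_def, show sg 37 (2, 2, 2) = 0 from by decide +kernel]; simp
  rw [cubicT_expand, cubicT_expand]
  simp only [h0, h1, h2, h3, h4, h5, h6, h7, h8, h9, h10, h11, h12, h13, h14, h15, h16, h17, h18, h19, h20, h21, h22, h23, h24, h25, h26]
  ring

theorem inv_38 {F : Type*} [CommRing F] (t : F) (v : I27 → F) : cubicT (zv 38 t v) = cubicT v := by
  have h0 : zv 38 t v (0, 0, 0) = v (0, 0, 0) := by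
    rw [zv_def, show sg 38 (0, 0, 0) = 0 from by decide +kernel]; simp
  have h1 : zv 38 t v (0, 0, 1) = v (0, 0, 1) := by
    rw [zv_def, show sg 38 (0, 0, 1) = 0 from by decide +kernel]; simp
  have h2 : zv 38 t v (0, 0, 2) = v (0, 0, 2) - t * v (0, 0, 0) := by
    rw [zv_def, show sg 38 (0, 0, 2) = -1 from by decide +kernel, show sr 38 (0, 0, 2) = (0, 0, 0) from by decide +kernel]; push_cast; ring
  have h3 : zv 38 t v (0, 1, 0) = v (0, 1, 0) := by
    rw [zv_def, show sg 38 (0, 1, 0) = 0 from by decide +kernel]; simp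
  have h4 : zv 38 t v (0, 1, 1) = v (0, 1, 1) := by
    rw [zv_def, show sg 38 (0, 1, 1) = 0 from by decide +kernel]; simp
  have h5 : zv 38 t v (0, 1, 2) = v (0, 1, 2) - t * v (0, 1, 0) := by
    rw [zv_def, show sg 38 (0, 1, 2) = -1 from by decide +kernel, show sr 38 (0, 1, 2) = (0, 1, 0) from by decide +kernel]; push_cast; ring
  have h6 : zv 38 t v (0, 2, 0) = v (0, 2, 0) := by
    rw [zv_def, show sg 38 (0, 2, 0) = 0 from by decide +kernel]; simp
  have h7 : zv 38 t v (0, 2, 1) = v (0, 2, 1) := by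
    rw [zv_def, show sg 38 (0, 2, 1) = 0 from by decide +kernel]; simp
  have h8 : zv 38 t v (0, 2, 2) = v (0, 2, 2) - t * v (0, 2, 0) := by
    rw [zv_def, show sg 38 (0, 2, 2) = -1 from by decide +kernel, show sr 38 (0, 2, 2) = (0, 2, 0) from by decide +kernel]; push_cast; ring
  have h9 : zv 38 t v (1, 0, 0) = v (1, 0, 0) + t * v (1, 2, 0) := by
    rw [zv_def, show sg 38 (1, 0, 0) = 1 from by decide +kernel, show sr 38 (1, 0, 0) = (1, 2, 0) from by decide +kernel]; simp
  have h10 : zv 38 t v (1, 0, 1) = v (1, 0, 1) + t * v (1, 2, 1) := by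
    rw [zv_def, show sg 38 (1, 0, 1) = 1 from by decide +kernel, show sr 38 (1, 0, 1) = (1, 2, 1) from by decide +kernel]; simp
  have h11 : zv 38 t v (1, 0, 2) = v (1, 0, 2) + t * v (1, 2, 2) := by
    rw [zv_def, show sg 38 (1, 0, 2) = 1 from by decide +kernel, show sr 38 (1, 0, 2) = (1, 2, 2) from by decide +kernel]; simp
  have h12 : zv 38 t v (1, 1, 0) = v (1, 1, 0) := by
    rw [zv_def, show sg 38 (1, 1, 0) = 0 from by decide +kernel]; simp
  have h13 : zv 38 t v (1, 1, 1) = v (1, 1, 1) := by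
    rw [zv_def, show sg 38 (1, 1, 1) = 0 from by decide +kernel]; simp
  have h14 : zv 38 t v (1, 1, 2) = v (1, 1, 2) := by
    rw [zv_def, show sg 38 (1, 1, 2) = 0 from by decide +kernel]; simp
  have h15 : zv 38 t v (1, 2, 0) = v (1, 2, 0) := by
    rw [zv_def, show sg 38 (1, 2, 0) = 0 from by decide +kernel]; simp
  have h16 : zv 38 t v (1, 2, 1) = v (1, 2, 1) := by
    rw [zv_def, show sg 38 (1, 2, 1) = 0 from by decide +kernel]; simp
  have h17 : zv 38 t v (1, 2, 2) = v (1, 2, 2) := by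
    rw [zv_def, show sg 38 (1, 2, 2) = 0 from by decide +kernel]; simp
  have h18 : zv 38 t v (2, 0, 0) = v (2, 0, 0) := by
    rw [zv_def, show sg 38 (2, 0, 0) = 0 from by decide +kernel]; simp
  have h19 : zv 38 t v (2, 0, 1) = v (2, 0, 1) := by
    rw [zv_def, show sg 38 (2, 0, 1) = 0 from by decide +kernel]; simp
  have h20 : zv 38 t v (2, 0, 2) = v (2, 0, 2) := by
    rw [zv_def, show sg 38 (2, 0, 2) = 0 from by decide +kernel]; simp
  have h21 : zv 38 t v (2, 1, 0) = v (2, 1, 0) := by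
    rw [zv_def, show sg 38 (2, 1, 0) = 0 from by decide +kernel]; simp
  have h22 : zv 38 t v (2, 1, 1) = v (2, 1, 1) := by
    rw [zv_def, show sg 38 (2, 1, 1) = 0 from by decide +kernel]; simp
  have h23 : zv 38 t v (2, 1, 2) = v (2, 1, 2) := by
    rw [zv_def, show sg 38 (2, 1, 2) = 0 from by decide +kernel]; simp
  have h24 : zv 38 t v (2, 2, 0) = v (2, 2, 0) := by
    rw [zv_def, show sg 38 (2, 2, 0) = 0 from by decide +kernel]; simp
  have h25 : zv 38 t v (2, 2, 1) = v (2, 2, 1) := by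
    rw [zv_def, show sg 38 (2, 2, 1) = 0 from by decide +kernel]; simp
  have h26 : zv 38 t v (2, 2, 2) = v (2, 2, 2) := by
    rw [zv_def, show sg 38 (2, 2, 2) = 0 from by decide +kernel]; simp
  rw [cubicT_expand, cubicT_expand]
  simp only [h0, h1, h2, h3, h4, h5, h6, h7, h8, h9, h10, h11, h12, h13, h14, h15, h16, h17, h18, h19, h20, h21, h22, h23, h24, h25, h26]
  ring

theorem inv_39 {F : Type*} [CommRing F] (t : F) (v : I27 → F) : cubicT (zv 39 t v) = cubicT v := by
  have h0 : zv 39 t v (0, 0, 0) = v (0, 0, 0) := by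
    rw [zv_def, show sg 39 (0, 0, 0) = 0 from by decide +kernel]; simp
  have h1 : zv 39 t v (0, 0, 1) = v (0, 0, 1) := by
    rw [zv_def, show sg 39 (0, 0, 1) = 0 from by decide +kernel]; simp
  have h2 : zv 39 t v (0, 0, 2) = v (0, 0, 2) := by
    rw [zv_def, show sg 39 (0, 0, 2) = 0 from by decide +kernel]; simp
  have h3 : zv 39 t v (0, 1, 0) = v (0, 1, 0) := by
    rw [zv_def, show sg 39 (0, 1, 0) = 0 from by decide +kernel]; simp
  have h4 : zv 39 t v (0, 1, 1) = v (0, 1, 1) := by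
    rw [zv_def, show sg 39 (0, 1, 1) = 0 from by decide +kernel]; simp
  have h5 : zv 39 t v (0, 1, 2) = v (0, 1, 2) := by
    rw [zv_def, show sg 39 (0, 1, 2) = 0 from by decide +kernel]; simp
  have h6 : zv 39 t v (0, 2, 0) = v (0, 2, 0) - t * v (1, 1, 2) := by
    rw [zv_def, show sg 39 (0, 2, 0) = -1 from by decide +kernel, show sr 39 (0, 2, 0) = (1, 1, 2) from by decide +kernel]; push_cast; ring
  have h7 : zv 39 t v (0, 2, 1) = v (0, 2, 1) + t * v (1, 0, 2) := by
    rw [zv_def, show sg 39 (0, 2, 1) = 1 from by decide +kernel, show sr 39 (0, 2, 1) = (1, 0, 2) from by decide +kernel]; simp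
  have h8 : zv 39 t v (0, 2, 2) = v (0, 2, 2) := by
    rw [zv_def, show sg 39 (0, 2, 2) = 0 from by decide +kernel]; simp
  have h9 : zv 39 t v (1, 0, 0) = v (1, 0, 0) := by
    rw [zv_def, show sg 39 (1, 0, 0) = 0 from by decide +kernel]; simp
  have h10 : zv 39 t v (1, 0, 1) = v (1, 0, 1) := by
    rw [zv_def, show sg 39 (1, 0, 1) = 0 from by decide +kernel]; simp
  have h11 : zv 39 t v (1, 0, 2) = v (1, 0, 2) := by
    rw [zv_def, show sg 39 (1, 0, 2) = 0 from by decide +kernel]; simp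
  have h12 : zv 39 t v (1, 1, 0) = v (1, 1, 0) := by
    rw [zv_def, show sg 39 (1, 1, 0) = 0 from by decide +kernel]; simp
  have h13 : zv 39 t v (1, 1, 1) = v (1, 1, 1) := by
    rw [zv_def, show sg 39 (1, 1, 1) = 0 from by decide +kernel]; simp
  have h14 : zv 39 t v (1, 1, 2) = v (1, 1, 2) := by
    rw [zv_def, show sg 39 (1, 1, 2) = 0 from by decide +kernel]; simp
  have h15 : zv 39 t v (1, 2, 0) = v (1, 2, 0) - t * v (2, 1, 2) := by
    rw [zv_def, show sg 39 (1, 2, 0) = -1 from by decide +kernel, show sr 39 (1, 2, 0) = (2, 1, 2) from by decide +kernel]; push_cast; ring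
  have h16 : zv 39 t v (1, 2, 1) = v (1, 2, 1) + t * v (2, 0, 2) := by
    rw [zv_def, show sg 39 (1, 2, 1) = 1 from by decide +kernel, show sr 39 (1, 2, 1) = (2, 0, 2) from by decide +kernel]; simp
  have h17 : zv 39 t v (1, 2, 2) = v (1, 2, 2) := by
    rw [zv_def, show sg 39 (1, 2, 2) = 0 from by decide +kernel]; simp
  have h18 : zv 39 t v (2, 0, 0) = v (2, 0, 0) := by
    rw [zv_def, show sg 39 (2, 0, 0) = 0 from by decide +kernel]; simp
  have h19 : zv 39 t v (2, 0, 1) = v (2, 0, 1) := by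
    rw [zv_def, show sg 39 (2, 0, 1) = 0 from by decide +kernel]; simp
  have h20 : zv 39 t v (2, 0, 2) = v (2, 0, 2) := by
    rw [zv_def, show sg 39 (2, 0, 2) = 0 from by decide +kernel]; simp
  have h21 : zv 39 t v (2, 1, 0) = v (2, 1, 0) := by
    rw [zv_def, show sg 39 (2, 1, 0) = 0 from by decide +kernel]; simp
  have h22 : zv 39 t v (2, 1, 1) = v (2, 1, 1) := by
    rw [zv_def, show sg 39 (2, 1, 1) = 0 from by decide +kernel]; simp
  have h23 : zv 39 t v (2, 1, 2) = v (2, 1, 2) := by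
    rw [zv_def, show sg 39 (2, 1, 2) = 0 from by decide +kernel]; simp
  have h24 : zv 39 t v (2, 2, 0) = v (2, 2, 0) - t * v (0, 1, 2) := by
    rw [zv_def, show sg 39 (2, 2, 0) = -1 from by decide +kernel, show sr 39 (2, 2, 0) = (0, 1, 2) from by decide +kernel]; push_cast; ring
  have h25 : zv 39 t v (2, 2, 1) = v (2, 2, 1) + t * v (0, 0, 2) := by
    rw [zv_def, show sg 39 (2, 2, 1) = 1 from by decide +kernel, show sr 39 (2, 2, 1) = (0, 0, 2) from by decide +kernel]; simp
  have h26 : zv 39 t v (2, 2, 2) = v (2, 2, 2) := by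
    rw [zv_def, show sg 39 (2, 2, 2) = 0 from by decide +kernel]; simp
  rw [cubicT_expand, cubicT_expand]
  simp only [h0, h1, h2, h3, h4, h5, h6, h7, h8, h9, h10, h11, h12, h13, h14, h15, h16, h17, h18, h19, h20, h21, h22, h23, h24, h25, h26]
  ring

theorem inv_40 {F : Type*} [CommRing F] (t : F) (v : I27 → F) : cubicT (zv 40 t v) = cubicT v := by
  have h0 : zv 40 t v (0, 0, 0) = v (0, 0, 0) := by
    rw [zv_def, show sg 40 (0, 0, 0) = 0 from by decide +kernel]; simp
  have h1 : zv 40 t v (0, 0, 1) = v (0, 0, 1) := by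
    rw [zv_def, show sg 40 (0, 0, 1) = 0 from by decide +kernel]; simp
  have h2 : zv 40 t v (0, 0, 2) = v (0, 0, 2) := by
    rw [zv_def, show sg 40 (0, 0, 2) = 0 from by decide +kernel]; simp
  have h3 : zv 40 t v (0, 1, 0) = v (0, 1, 0) := by
    rw [zv_def, show sg 40 (0, 1, 0) = 0 from by decide +kernel]; simp
  have h4 : zv 40 t v (0, 1, 1) = v (0, 1, 1) := by
    rw [zv_def, show sg 40 (0, 1, 1) = 0 from by decide +kernel]; simp
  have h5 : zv 40 t v (0, 1, 2) = v (0, 1, 2) := by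
    rw [zv_def, show sg 40 (0, 1, 2) = 0 from by decide +kernel]; simp
  have h6 : zv 40 t v (0, 2, 0) = v (0, 2, 0) - t * v (1, 2, 2) := by
    rw [zv_def, show sg 40 (0, 2, 0) = -1 from by decide +kernel, show sr 40 (0, 2, 0) = (1, 2, 2) from by decide +kernel]; push_cast; ring
  have h7 : zv 40 t v (0, 2, 1) = v (0, 2, 1) := by
    rw [zv_def, show sg 40 (0, 2, 1) = 0 from by decide +kernel]; simp
  have h8 : zv 40 t v (0, 2, 2) = v (0, 2, 2) + t * v (1, 0, 2) := by
    rw [zv_def, show sg 40 (0, 2, 2) = 1 from by decide +kernel, show sr 40 (0, 2, 2) = (1, 0, 2) from by decide +kernel]; simp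
  have h9 : zv 40 t v (1, 0, 0) = v (1, 0, 0) := by
    rw [zv_def, show sg 40 (1, 0, 0) = 0 from by decide +kernel]; simp
  have h10 : zv 40 t v (1, 0, 1) = v (1, 0, 1) := by
    rw [zv_def, show sg 40 (1, 0, 1) = 0 from by decide +kernel]; simp
  have h11 : zv 40 t v (1, 0, 2) = v (1, 0, 2) := by
    rw [zv_def, show sg 40 (1, 0, 2) = 0 from by decide +kernel]; simp
  have h12 : zv 40 t v (1, 1, 0) = v (1, 1, 0) + t * v (2, 1, 2) := by
    rw [zv_def, show sg 40 (1, 1, 0) = 1 from by decide +kernel, show sr 40 (1, 1, 0) = (2, 1, 2) from by decide +kernel]; simp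
  have h13 : zv 40 t v (1, 1, 1) = v (1, 1, 1) - t * v (2, 0, 2) := by
    rw [zv_def, show sg 40 (1, 1, 1) = -1 from by decide +kernel, show sr 40 (1, 1, 1) = (2, 0, 2) from by decide +kernel]; push_cast; ring
  have h14 : zv 40 t v (1, 1, 2) = v (1, 1, 2) := by
    rw [zv_def, show sg 40 (1, 1, 2) = 0 from by decide +kernel]; simp
  have h15 : zv 40 t v (1, 2, 0) = v (1, 2, 0) := by
    rw [zv_def, show sg 40 (1, 2, 0) = 0 from by decide +kernel]; simp
  have h16 : zv 40 t v (1, 2, 1) = v (1, 2, 1) := by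
    rw [zv_def, show sg 40 (1, 2, 1) = 0 from by decide +kernel]; simp
  have h17 : zv 40 t v (1, 2, 2) = v (1, 2, 2) := by
    rw [zv_def, show sg 40 (1, 2, 2) = 0 from by decide +kernel]; simp
  have h18 : zv 40 t v (2, 0, 0) = v (2, 0, 0) := by
    rw [zv_def, show sg 40 (2, 0, 0) = 0 from by decide +kernel]; simp
  have h19 : zv 40 t v (2, 0, 1) = v (2, 0, 1) := by
    rw [zv_def, show sg 40 (2, 0, 1) = 0 from by decide +kernel]; simp
  have h20 : zv 40 t v (2, 0, 2) = v (2, 0, 2) := by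
    rw [zv_def, show sg 40 (2, 0, 2) = 0 from by decide +kernel]; simp
  have h21 : zv 40 t v (2, 1, 0) = v (2, 1, 0) := by
    rw [zv_def, show sg 40 (2, 1, 0) = 0 from by decide +kernel]; simp
  have h22 : zv 40 t v (2, 1, 1) = v (2, 1, 1) := by
    rw [zv_def, show sg 40 (2, 1, 1) = 0 from by decide +kernel]; simp
  have h23 : zv 40 t v (2, 1, 2) = v (2, 1, 2) := by
    rw [zv_def, show sg 40 (2, 1, 2) = 0 from by decide +kernel]; simp
  have h24 : zv 40 t v (2, 2, 0) = v (2, 2, 0) + t * v (0, 1, 1) := by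
    rw [zv_def, show sg 40 (2, 2, 0) = 1 from by decide +kernel, show sr 40 (2, 2, 0) = (0, 1, 1) from by decide +kernel]; simp
  have h25 : zv 40 t v (2, 2, 1) = v (2, 2, 1) - t * v (0, 0, 1) := by
    rw [zv_def, show sg 40 (2, 2, 1) = -1 from by decide +kernel, show sr 40 (2, 2, 1) = (0, 0, 1) from by decide +kernel]; push_cast; ring
  have h26 : zv 40 t v (2, 2, 2) = v (2, 2, 2) := by
    rw [zv_def, show sg 40 (2, 2, 2) = 0 from by decide +kernel]; simp
  rw [cubicT_expand, cubicT_expand]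
  simp only [h0, h1, h2, h3, h4, h5, h6, h7, h8, h9, h10, h11, h12, h13, h14, h15, h16, h17, h18, h19, h20, h21, h22, h23, h24, h25, h26]
  ring

theorem inv_41 {F : Type*} [CommRing F] (t : F) (v : I27 → F) : cubicT (zv 41 t v) = cubicT v := by
  have h0 : zv 41 t v (0, 0, 0) = v (0, 0, 0) := by
    rw [zv_def, show sg 41 (0, 0, 0) = 0 from by decide +kernel]; simp
  have h1 : zv 41 t v (0, 0, 1) = v (0, 0, 1) := by
    rw [zv_def, show sg 41 (0, 0, 1) = 0 from by decide +kernel]; simp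
  have h2 : zv 41 t v (0, 0, 2) = v (0, 0, 2) := by
    rw [zv_def, show sg 41 (0, 0, 2) = 0 from by decide +kernel]; simp
  have h3 : zv 41 t v (0, 1, 0) = v (0, 1, 0) := by
    rw [zv_def, show sg 41 (0, 1, 0) = 0 from by decide +kernel]; simp
  have h4 : zv 41 t v (0, 1, 1) = v (0, 1, 1) := by
    rw [zv_def, show sg 41 (0, 1, 1) = 0 from by decide +kernel]; simp
  have h5 : zv 41 t v (0, 1, 2) = v (0, 1, 2) := by
    rw [zv_def, show sg 41 (0, 1, 2) = 0 from by decide +kernel]; simp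
  have h6 : zv 41 t v (0, 2, 0) = v (0, 2, 0) := by
    rw [zv_def, show sg 41 (0, 2, 0) = 0 from by decide +kernel]; simp
  have h7 : zv 41 t v (0, 2, 1) = v (0, 2, 1) - t * v (1, 2, 2) := by
    rw [zv_def, show sg 41 (0, 2, 1) = -1 from by decide +kernel, show sr 41 (0, 2, 1) = (1, 2, 2) from by decide +kernel]; push_cast; ring
  have h8 : zv 41 t v (0, 2, 2) = v (0, 2, 2) + t * v (1, 1, 2) := by
    rw [zv_def, show sg 41 (0, 2, 2) = 1 from by decide +kernel, show sr 41 (0, 2, 2) = (1, 1, 2) from by decide +kernel]; simp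
  have h9 : zv 41 t v (1, 0, 0) = v (1, 0, 0) - t * v (2, 1, 2) := by
    rw [zv_def, show sg 41 (1, 0, 0) = -1 from by decide +kernel, show sr 41 (1, 0, 0) = (2, 1, 2) from by decide +kernel]; push_cast; ring
  have h10 : zv 41 t v (1, 0, 1) = v (1, 0, 1) + t * v (2, 0, 2) := by
    rw [zv_def, show sg 41 (1, 0, 1) = 1 from by decide +kernel, show sr 41 (1, 0, 1) = (2, 0, 2) from by decide +kernel]; simp
  have h11 : zv 41 t v (1, 0, 2) = v (1, 0, 2) := by
    rw [zv_def, show sg 41 (1, 0, 2) = 0 from by decide +kernel]; simp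
  have h12 : zv 41 t v (1, 1, 0) = v (1, 1, 0) := by
    rw [zv_def, show sg 41 (1, 1, 0) = 0 from by decide +kernel]; simp
  have h13 : zv 41 t v (1, 1, 1) = v (1, 1, 1) := by
    rw [zv_def, show sg 41 (1, 1, 1) = 0 from by decide +kernel]; simp
  have h14 : zv 41 t v (1, 1, 2) = v (1, 1, 2) := by
    rw [zv_def, show sg 41 (1, 1, 2) = 0 from by decide +kernel]; simp
  have h15 : zv 41 t v (1, 2, 0) = v (1, 2, 0) := by
    rw [zv_def, show sg 41 (1, 2, 0) = 0 from by decide +kernel]; simp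
  have h16 : zv 41 t v (1, 2, 1) = v (1, 2, 1) := by
    rw [zv_def, show sg 41 (1, 2, 1) = 0 from by decide +kernel]; simp
  have h17 : zv 41 t v (1, 2, 2) = v (1, 2, 2) := by
    rw [zv_def, show sg 41 (1, 2, 2) = 0 from by decide +kernel]; simp
  have h18 : zv 41 t v (2, 0, 0) = v (2, 0, 0) := by
    rw [zv_def, show sg 41 (2, 0, 0) = 0 from by decide +kernel]; simp
  have h19 : zv 41 t v (2, 0, 1) = v (2, 0, 1) := by
    rw [zv_def, show sg 41 (2, 0, 1) = 0 from by decide +kernel]; simp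
  have h20 : zv 41 t v (2, 0, 2) = v (2, 0, 2) := by
    rw [zv_def, show sg 41 (2, 0, 2) = 0 from by decide +kernel]; simp
  have h21 : zv 41 t v (2, 1, 0) = v (2, 1, 0) := by
    rw [zv_def, show sg 41 (2, 1, 0) = 0 from by decide +kernel]; simp
  have h22 : zv 41 t v (2, 1, 1) = v (2, 1, 1) := by
    rw [zv_def, show sg 41 (2, 1, 1) = 0 from by decide +kernel]; simp
  have h23 : zv 41 t v (2, 1, 2) = v (2, 1, 2) := by
    rw [zv_def, show sg 41 (2, 1, 2) = 0 from by decide +kernel]; simp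
  have h24 : zv 41 t v (2, 2, 0) = v (2, 2, 0) - t * v (0, 1, 0) := by
    rw [zv_def, show sg 41 (2, 2, 0) = -1 from by decide +kernel, show sr 41 (2, 2, 0) = (0, 1, 0) from by decide +kernel]; push_cast; ring
  have h25 : zv 41 t v (2, 2, 1) = v (2, 2, 1) + t * v (0, 0, 0) := by
    rw [zv_def, show sg 41 (2, 2, 1) = 1 from by decide +kernel, show sr 41 (2, 2, 1) = (0, 0, 0) from by decide +kernel]; simp
  have h26 : zv 41 t v (2, 2, 2) = v (2, 2, 2) := by
    rw [zv_def, show sg 41 (2, 2, 2) = 0 from by decide +kernel]; simp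
  rw [cubicT_expand, cubicT_expand]
  simp only [h0, h1, h2, h3, h4, h5, h6, h7, h8, h9, h10, h11, h12, h13, h14, h15, h16, h17, h18, h19, h20, h21, h22, h23, h24, h25, h26]
  ring

theorem inv_42 {F : Type*} [CommRing F] (t : F) (v : I27 → F) : cubicT (zv 42 t v) = cubicT v := by
  have h0 : zv 42 t v (0, 0, 0) = v (0, 0, 0) := by
    rw [zv_def, show sg 42 (0, 0, 0) = 0 from by decide +kernel]; simp
  have h1 : zv 42 t v (0, 0, 1) = v (0, 0, 1) := by
    rw [zv_def, show sg 42 (0, 0, 1) = 0 from by decide +kernel]; simp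
  have h2 : zv 42 t v (0, 0, 2) = v (0, 0, 2) := by
    rw [zv_def, show sg 42 (0, 0, 2) = 0 from by decide +kernel]; simp
  have h3 : zv 42 t v (0, 1, 0) = v (0, 1, 0) + t * v (0, 2, 0) := by
    rw [zv_def, show sg 42 (0, 1, 0) = 1 from by decide +kernel, show sr 42 (0, 1, 0) = (0, 2, 0) from by decide +kernel]; simp
  have h4 : zv 42 t v (0, 1, 1) = v (0, 1, 1) + t * v (0, 2, 1) := by
    rw [zv_def, show sg 42 (0, 1, 1) = 1 from by decide +kernel, show sr 42 (0, 1, 1) = (0, 2, 1) from by decide +kernel]; simp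
  have h5 : zv 42 t v (0, 1, 2) = v (0, 1, 2) + t * v (0, 2, 2) := by
    rw [zv_def, show sg 42 (0, 1, 2) = 1 from by decide +kernel, show sr 42 (0, 1, 2) = (0, 2, 2) from by decide +kernel]; simp
  have h6 : zv 42 t v (0, 2, 0) = v (0, 2, 0) := by
    rw [zv_def, show sg 42 (0, 2, 0) = 0 from by decide +kernel]; simp
  have h7 : zv 42 t v (0, 2, 1) = v (0, 2, 1) := by
    rw [zv_def, show sg 42 (0, 2, 1) = 0 from by decide +kernel]; simp
  have h8 : zv 42 t v (0, 2, 2) = v (0, 2, 2) := by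
    rw [zv_def, show sg 42 (0, 2, 2) = 0 from by decide +kernel]; simp
  have h9 : zv 42 t v (1, 0, 0) = v (1, 0, 0) := by
    rw [zv_def, show sg 42 (1, 0, 0) = 0 from by decide +kernel]; simp
  have h10 : zv 42 t v (1, 0, 1) = v (1, 0, 1) := by
    rw [zv_def, show sg 42 (1, 0, 1) = 0 from by decide +kernel]; simp
  have h11 : zv 42 t v (1, 0, 2) = v (1, 0, 2) := by
    rw [zv_def, show sg 42 (1, 0, 2) = 0 from by decide +kernel]; simp
  have h12 : zv 42 t v (1, 1, 0) = v (1, 1, 0) := by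
    rw [zv_def, show sg 42 (1, 1, 0) = 0 from by decide +kernel]; simp
  have h13 : zv 42 t v (1, 1, 1) = v (1, 1, 1) := by
    rw [zv_def, show sg 42 (1, 1, 1) = 0 from by decide +kernel]; simp
  have h14 : zv 42 t v (1, 1, 2) = v (1, 1, 2) := by
    rw [zv_def, show sg 42 (1, 1, 2) = 0 from by decide +kernel]; simp
  have h15 : zv 42 t v (1, 2, 0) = v (1, 2, 0) := by
    rw [zv_def, show sg 42 (1, 2, 0) = 0 from by decide +kernel]; simp
  have h16 : zv 42 t v (1, 2, 1) = v (1, 2, 1) := by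
    rw [zv_def, show sg 42 (1, 2, 1) = 0 from by decide +kernel]; simp
  have h17 : zv 42 t v (1, 2, 2) = v (1, 2, 2) := by
    rw [zv_def, show sg 42 (1, 2, 2) = 0 from by decide +kernel]; simp
  have h18 : zv 42 t v (2, 0, 0) = v (2, 0, 0) := by
    rw [zv_def, show sg 42 (2, 0, 0) = 0 from by decide +kernel]; simp
  have h19 : zv 42 t v (2, 0, 1) = v (2, 0, 1) := by
    rw [zv_def, show sg 42 (2, 0, 1) = 0 from by decide +kernel]; simp
  have h20 : zv 42 t v (2, 0, 2) = v (2, 0, 2) - t * v (2, 0, 1) := by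
    rw [zv_def, show sg 42 (2, 0, 2) = -1 from by decide +kernel, show sr 42 (2, 0, 2) = (2, 0, 1) from by decide +kernel]; push_cast; ring
  have h21 : zv 42 t v (2, 1, 0) = v (2, 1, 0) := by
    rw [zv_def, show sg 42 (2, 1, 0) = 0 from by decide +kernel]; simp
  have h22 : zv 42 t v (2, 1, 1) = v (2, 1, 1) := by
    rw [zv_def, show sg 42 (2, 1, 1) = 0 from by decide +kernel]; simp
  have h23 : zv 42 t v (2, 1, 2) = v (2, 1, 2) - t * v (2, 1, 1) := by
    rw [zv_def, show sg 42 (2, 1, 2) = -1 from by decide +kernel, show sr 42 (2, 1, 2) = (2, 1, 1) from by decide +kernel]; push_cast; ring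
  have h24 : zv 42 t v (2, 2, 0) = v (2, 2, 0) := by
    rw [zv_def, show sg 42 (2, 2, 0) = 0 from by decide +kernel]; simp
  have h25 : zv 42 t v (2, 2, 1) = v (2, 2, 1) := by
    rw [zv_def, show sg 42 (2, 2, 1) = 0 from by decide +kernel]; simp
  have h26 : zv 42 t v (2, 2, 2) = v (2, 2, 2) - t * v (2, 2, 1) := by
    rw [zv_def, show sg 42 (2, 2, 2) = -1 from by decide +kernel, show sr 42 (2, 2, 2) = (2, 2, 1) from by decide +kernel]; push_cast; ring
  rw [cubicT_expand, cubicT_expand]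
  simp only [h0, h1, h2, h3, h4, h5, h6, h7, h8, h9, h10, h11, h12, h13, h14, h15, h16, h17, h18, h19, h20, h21, h22, h23, h24, h25, h26]
  ring

theorem inv_43 {F : Type*} [CommRing F] (t : F) (v : I27 → F) : cubicT (zv 43 t v) = cubicT v := by
  have h0 : zv 43 t v (0, 0, 0) = v (0, 0, 0) := by
    rw [zv_def, show sg 43 (0, 0, 0) = 0 from by decide +kernel]; simp
  have h1 : zv 43 t v (0, 0, 1) = v (0, 0, 1) := by
    rw [zv_def, show sg 43 (0, 0, 1) = 0 from by decide +kernel]; simp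
  have h2 : zv 43 t v (0, 0, 2) = v (0, 0, 2) := by
    rw [zv_def, show sg 43 (0, 0, 2) = 0 from by decide +kernel]; simp
  have h3 : zv 43 t v (0, 1, 0) = v (0, 1, 0) + t * v (1, 1, 2) := by
    rw [zv_def, show sg 43 (0, 1, 0) = 1 from by decide +kernel, show sr 43 (0, 1, 0) = (1, 1, 2) from by decide +kernel]; simp
  have h4 : zv 43 t v (0, 1, 1) = v (0, 1, 1) - t * v (1, 0, 2) := by
    rw [zv_def, show sg 43 (0, 1, 1) = -1 from by decide +kernel, show sr 43 (0, 1, 1) = (1, 0, 2) from by decide +kernel]; push_cast; ring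
  have h5 : zv 43 t v (0, 1, 2) = v (0, 1, 2) := by
    rw [zv_def, show sg 43 (0, 1, 2) = 0 from by decide +kernel]; simp
  have h6 : zv 43 t v (0, 2, 0) = v (0, 2, 0) := by
    rw [zv_def, show sg 43 (0, 2, 0) = 0 from by decide +kernel]; simp
  have h7 : zv 43 t v (0, 2, 1) = v (0, 2, 1) := by
    rw [zv_def, show sg 43 (0, 2, 1) = 0 from by decide +kernel]; simp
  have h8 : zv 43 t v (0, 2, 2) = v (0, 2, 2) := by
    rw [zv_def, show sg 43 (0, 2, 2) = 0 from by decide +kernel]; simp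
  have h9 : zv 43 t v (1, 0, 0) = v (1, 0, 0) := by
    rw [zv_def, show sg 43 (1, 0, 0) = 0 from by decide +kernel]; simp
  have h10 : zv 43 t v (1, 0, 1) = v (1, 0, 1) := by
    rw [zv_def, show sg 43 (1, 0, 1) = 0 from by decide +kernel]; simp
  have h11 : zv 43 t v (1, 0, 2) = v (1, 0, 2) := by
    rw [zv_def, show sg 43 (1, 0, 2) = 0 from by decide +kernel]; simp
  have h12 : zv 43 t v (1, 1, 0) = v (1, 1, 0) := by
    rw [zv_def, show sg 43 (1, 1, 0) = 0 from by decide +kernel]; simp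
  have h13 : zv 43 t v (1, 1, 1) = v (1, 1, 1) := by
    rw [zv_def, show sg 43 (1, 1, 1) = 0 from by decide +kernel]; simp
  have h14 : zv 43 t v (1, 1, 2) = v (1, 1, 2) := by
    rw [zv_def, show sg 43 (1, 1, 2) = 0 from by decide +kernel]; simp
  have h15 : zv 43 t v (1, 2, 0) = v (1, 2, 0) + t * v (2, 1, 1) := by
    rw [zv_def, show sg 43 (1, 2, 0) = 1 from by decide +kernel, show sr 43 (1, 2, 0) = (2, 1, 1) from by decide +kernel]; simp
  have h16 : zv 43 t v (1, 2, 1) = v (1, 2, 1) - t * v (2, 0, 1) := by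
    rw [zv_def, show sg 43 (1, 2, 1) = -1 from by decide +kernel, show sr 43 (1, 2, 1) = (2, 0, 1) from by decide +kernel]; push_cast; ring
  have h17 : zv 43 t v (1, 2, 2) = v (1, 2, 2) := by
    rw [zv_def, show sg 43 (1, 2, 2) = 0 from by decide +kernel]; simp
  have h18 : zv 43 t v (2, 0, 0) = v (2, 0, 0) := by
    rw [zv_def, show sg 43 (2, 0, 0) = 0 from by decide +kernel]; simp
  have h19 : zv 43 t v (2, 0, 1) = v (2, 0, 1) := by
    rw [zv_def, show sg 43 (2, 0, 1) = 0 from by decide +kernel]; simp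
  have h20 : zv 43 t v (2, 0, 2) = v (2, 0, 2) := by
    rw [zv_def, show sg 43 (2, 0, 2) = 0 from by decide +kernel]; simp
  have h21 : zv 43 t v (2, 1, 0) = v (2, 1, 0) := by
    rw [zv_def, show sg 43 (2, 1, 0) = 0 from by decide +kernel]; simp
  have h22 : zv 43 t v (2, 1, 1) = v (2, 1, 1) := by
    rw [zv_def, show sg 43 (2, 1, 1) = 0 from by decide +kernel]; simp
  have h23 : zv 43 t v (2, 1, 2) = v (2, 1, 2) := by
    rw [zv_def, show sg 43 (2, 1, 2) = 0 from by decide +kernel]; simp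
  have h24 : zv 43 t v (2, 2, 0) = v (2, 2, 0) - t * v (0, 2, 2) := by
    rw [zv_def, show sg 43 (2, 2, 0) = -1 from by decide +kernel, show sr 43 (2, 2, 0) = (0, 2, 2) from by decide +kernel]; push_cast; ring
  have h25 : zv 43 t v (2, 2, 1) = v (2, 2, 1) := by
    rw [zv_def, show sg 43 (2, 2, 1) = 0 from by decide +kernel]; simp
  have h26 : zv 43 t v (2, 2, 2) = v (2, 2, 2) + t * v (0, 0, 2) := by
    rw [zv_def, show sg 43 (2, 2, 2) = 1 from by decide +kernel, show sr 43 (2, 2, 2) = (0, 0, 2) from by decide +kernel]; simp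
  rw [cubicT_expand, cubicT_expand]
  simp only [h0, h1, h2, h3, h4, h5, h6, h7, h8, h9, h10, h11, h12, h13, h14, h15, h16, h17, h18, h19, h20, h21, h22, h23, h24, h25, h26]
  ring

theorem inv_44 {F : Type*} [CommRing F] (t : F) (v : I27 → F) : cubicT (zv 44 t v) = cubicT v := by
  have h0 : zv 44 t v (0, 0, 0) = v (0, 0, 0) := by
    rw [zv_def, show sg 44 (0, 0, 0) = 0 from by decide +kernel]; simp
  have h1 : zv 44 t v (0, 0, 1) = v (0, 0, 1) := by
    rw [zv_def, show sg 44 (0, 0, 1) = 0 from by decide +kernel]; simp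
  have h2 : zv 44 t v (0, 0, 2) = v (0, 0, 2) := by
    rw [zv_def, show sg 44 (0, 0, 2) = 0 from by decide +kernel]; simp
  have h3 : zv 44 t v (0, 1, 0) = v (0, 1, 0) + t * v (1, 2, 2) := by
    rw [zv_def, show sg 44 (0, 1, 0) = 1 from by decide +kernel, show sr 44 (0, 1, 0) = (1, 2, 2) from by decide +kernel]; simp
  have h4 : zv 44 t v (0, 1, 1) = v (0, 1, 1) := by
    rw [zv_def, show sg 44 (0, 1, 1) = 0 from by decide +kernel]; simp
  have h5 : zv 44 t v (0, 1, 2) = v (0, 1, 2) - t * v (1, 0, 2) := by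
    rw [zv_def, show sg 44 (0, 1, 2) = -1 from by decide +kernel, show sr 44 (0, 1, 2) = (1, 0, 2) from by decide +kernel]; push_cast; ring
  have h6 : zv 44 t v (0, 2, 0) = v (0, 2, 0) := by
    rw [zv_def, show sg 44 (0, 2, 0) = 0 from by decide +kernel]; simp
  have h7 : zv 44 t v (0, 2, 1) = v (0, 2, 1) := by
    rw [zv_def, show sg 44 (0, 2, 1) = 0 from by decide +kernel]; simp
  have h8 : zv 44 t v (0, 2, 2) = v (0, 2, 2) := by
    rw [zv_def, show sg 44 (0, 2, 2) = 0 from by decide +kernel]; simp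
  have h9 : zv 44 t v (1, 0, 0) = v (1, 0, 0) := by
    rw [zv_def, show sg 44 (1, 0, 0) = 0 from by decide +kernel]; simp
  have h10 : zv 44 t v (1, 0, 1) = v (1, 0, 1) := by
    rw [zv_def, show sg 44 (1, 0, 1) = 0 from by decide +kernel]; simp
  have h11 : zv 44 t v (1, 0, 2) = v (1, 0, 2) := by
    rw [zv_def, show sg 44 (1, 0, 2) = 0 from by decide +kernel]; simp
  have h12 : zv 44 t v (1, 1, 0) = v (1, 1, 0) - t * v (2, 1, 1) := by
    rw [zv_def, show sg 44 (1, 1, 0) = -1 from by decide +kernel, show sr 44 (1, 1, 0) = (2, 1, 1) from by decide +kernel]; push_cast; ring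
  have h13 : zv 44 t v (1, 1, 1) = v (1, 1, 1) + t * v (2, 0, 1) := by
    rw [zv_def, show sg 44 (1, 1, 1) = 1 from by decide +kernel, show sr 44 (1, 1, 1) = (2, 0, 1) from by decide +kernel]; simp
  have h14 : zv 44 t v (1, 1, 2) = v (1, 1, 2) := by
    rw [zv_def, show sg 44 (1, 1, 2) = 0 from by decide +kernel]; simp
  have h15 : zv 44 t v (1, 2, 0) = v (1, 2, 0) := by
    rw [zv_def, show sg 44 (1, 2, 0) = 0 from by decide +kernel]; simp
  have h16 : zv 44 t v (1, 2, 1) = v (1, 2, 1) := by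
    rw [zv_def, show sg 44 (1, 2, 1) = 0 from by decide +kernel]; simp
  have h17 : zv 44 t v (1, 2, 2) = v (1, 2, 2) := by
    rw [zv_def, show sg 44 (1, 2, 2) = 0 from by decide +kernel]; simp
  have h18 : zv 44 t v (2, 0, 0) = v (2, 0, 0) := by
    rw [zv_def, show sg 44 (2, 0, 0) = 0 from by decide +kernel]; simp
  have h19 : zv 44 t v (2, 0, 1) = v (2, 0, 1) := by
    rw [zv_def, show sg 44 (2, 0, 1) = 0 from by decide +kernel]; simp
  have h20 : zv 44 t v (2, 0, 2) = v (2, 0, 2) := by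
    rw [zv_def, show sg 44 (2, 0, 2) = 0 from by decide +kernel]; simp
  have h21 : zv 44 t v (2, 1, 0) = v (2, 1, 0) := by
    rw [zv_def, show sg 44 (2, 1, 0) = 0 from by decide +kernel]; simp
  have h22 : zv 44 t v (2, 1, 1) = v (2, 1, 1) := by
    rw [zv_def, show sg 44 (2, 1, 1) = 0 from by decide +kernel]; simp
  have h23 : zv 44 t v (2, 1, 2) = v (2, 1, 2) := by
    rw [zv_def, show sg 44 (2, 1, 2) = 0 from by decide +kernel]; simp
  have h24 : zv 44 t v (2, 2, 0) = v (2, 2, 0) + t * v (0, 2, 1) := by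
    rw [zv_def, show sg 44 (2, 2, 0) = 1 from by decide +kernel, show sr 44 (2, 2, 0) = (0, 2, 1) from by decide +kernel]; simp
  have h25 : zv 44 t v (2, 2, 1) = v (2, 2, 1) := by
    rw [zv_def, show sg 44 (2, 2, 1) = 0 from by decide +kernel]; simp
  have h26 : zv 44 t v (2, 2, 2) = v (2, 2, 2) - t * v (0, 0, 1) := by
    rw [zv_def, show sg 44 (2, 2, 2) = -1 from by decide +kernel, show sr 44 (2, 2, 2) = (0, 0, 1) from by decide +kernel]; push_cast; ring
  rw [cubicT_expand, cubicT_expand]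
  simp only [h0, h1, h2, h3, h4, h5, h6, h7, h8, h9, h10, h11, h12, h13, h14, h15, h16, h17, h18, h19, h20, h21, h22, h23, h24, h25, h26]
  ring

theorem inv_45 {F : Type*} [CommRing F] (t : F) (v : I27 → F) : cubicT (zv 45 t v) = cubicT v := by
  have h0 : zv 45 t v (0, 0, 0) = v (0, 0, 0) := by
    rw [zv_def, show sg 45 (0, 0, 0) = 0 from by decide +kernel]; simp
  have h1 : zv 45 t v (0, 0, 1) = v (0, 0, 1) := by
    rw [zv_def, show sg 45 (0, 0, 1) = 0 from by decide +kernel]; simp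
  have h2 : zv 45 t v (0, 0, 2) = v (0, 0, 2) := by
    rw [zv_def, show sg 45 (0, 0, 2) = 0 from by decide +kernel]; simp
  have h3 : zv 45 t v (0, 1, 0) = v (0, 1, 0) := by
    rw [zv_def, show sg 45 (0, 1, 0) = 0 from by decide +kernel]; simp
  have h4 : zv 45 t v (0, 1, 1) = v (0, 1, 1) + t * v (1, 2, 2) := by
    rw [zv_def, show sg 45 (0, 1, 1) = 1 from by decide +kernel, show sr 45 (0, 1, 1) = (1, 2, 2) from by decide +kernel]; simp
  have h5 : zv 45 t v (0, 1, 2) = v (0, 1, 2) - t * v (1, 1, 2) := by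
    rw [zv_def, show sg 45 (0, 1, 2) = -1 from by decide +kernel, show sr 45 (0, 1, 2) = (1, 1, 2) from by decide +kernel]; push_cast; ring
  have h6 : zv 45 t v (0, 2, 0) = v (0, 2, 0) := by
    rw [zv_def, show sg 45 (0, 2, 0) = 0 from by decide +kernel]; simp
  have h7 : zv 45 t v (0, 2, 1) = v (0, 2, 1) := by
    rw [zv_def, show sg 45 (0, 2, 1) = 0 from by decide +kernel]; simp
  have h8 : zv 45 t v (0, 2, 2) = v (0, 2, 2) := by
    rw [zv_def, show sg 45 (0, 2, 2) = 0 from by decide +kernel]; simp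
  have h9 : zv 45 t v (1, 0, 0) = v (1, 0, 0) + t * v (2, 1, 1) := by
    rw [zv_def, show sg 45 (1, 0, 0) = 1 from by decide +kernel, show sr 45 (1, 0, 0) = (2, 1, 1) from by decide +kernel]; simp
  have h10 : zv 45 t v (1, 0, 1) = v (1, 0, 1) - t * v (2, 0, 1) := by
    rw [zv_def, show sg 45 (1, 0, 1) = -1 from by decide +kernel, show sr 45 (1, 0, 1) = (2, 0, 1) from by decide +kernel]; push_cast; ring
  have h11 : zv 45 t v (1, 0, 2) = v (1, 0, 2) := by
    rw [zv_def, show sg 45 (1, 0, 2) = 0 from by decide +kernel]; simp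
  have h12 : zv 45 t v (1, 1, 0) = v (1, 1, 0) := by
    rw [zv_def, show sg 45 (1, 1, 0) = 0 from by decide +kernel]; simp
  have h13 : zv 45 t v (1, 1, 1) = v (1, 1, 1) := by
    rw [zv_def, show sg 45 (1, 1, 1) = 0 from by decide +kernel]; simp
  have h14 : zv 45 t v (1, 1, 2) = v (1, 1, 2) := by
    rw [zv_def, show sg 45 (1, 1, 2) = 0 from by decide +kernel]; simp
  have h15 : zv 45 t v (1, 2, 0) = v (1, 2, 0) := by
    rw [zv_def, show sg 45 (1, 2, 0) = 0 from by decide +kernel]; simp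
  have h16 : zv 45 t v (1, 2, 1) = v (1, 2, 1) := by
    rw [zv_def, show sg 45 (1, 2, 1) = 0 from by decide +kernel]; simp
  have h17 : zv 45 t v (1, 2, 2) = v (1, 2, 2) := by
    rw [zv_def, show sg 45 (1, 2, 2) = 0 from by decide +kernel]; simp
  have h18 : zv 45 t v (2, 0, 0) = v (2, 0, 0) := by
    rw [zv_def, show sg 45 (2, 0, 0) = 0 from by decide +kernel]; simp
  have h19 : zv 45 t v (2, 0, 1) = v (2, 0, 1) := by
    rw [zv_def, show sg 45 (2, 0, 1) = 0 from by decide +kernel]; simp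
  have h20 : zv 45 t v (2, 0, 2) = v (2, 0, 2) := by
    rw [zv_def, show sg 45 (2, 0, 2) = 0 from by decide +kernel]; simp
  have h21 : zv 45 t v (2, 1, 0) = v (2, 1, 0) := by
    rw [zv_def, show sg 45 (2, 1, 0) = 0 from by decide +kernel]; simp
  have h22 : zv 45 t v (2, 1, 1) = v (2, 1, 1) := by
    rw [zv_def, show sg 45 (2, 1, 1) = 0 from by decide +kernel]; simp
  have h23 : zv 45 t v (2, 1, 2) = v (2, 1, 2) := by
    rw [zv_def, show sg 45 (2, 1, 2) = 0 from by decide +kernel]; simp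
  have h24 : zv 45 t v (2, 2, 0) = v (2, 2, 0) - t * v (0, 2, 0) := by
    rw [zv_def, show sg 45 (2, 2, 0) = -1 from by decide +kernel, show sr 45 (2, 2, 0) = (0, 2, 0) from by decide +kernel]; push_cast; ring
  have h25 : zv 45 t v (2, 2, 1) = v (2, 2, 1) := by
    rw [zv_def, show sg 45 (2, 2, 1) = 0 from by decide +kernel]; simp
  have h26 : zv 45 t v (2, 2, 2) = v (2, 2, 2) + t * v (0, 0, 0) := by
    rw [zv_def, show sg 45 (2, 2, 2) = 1 from by decide +kernel, show sr 45 (2, 2, 2) = (0, 0, 0) from by decide +kernel]; simp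
  rw [cubicT_expand, cubicT_expand]
  simp only [h0, h1, h2, h3, h4, h5, h6, h7, h8, h9, h10, h11, h12, h13, h14, h15, h16, h17, h18, h19, h20, h21, h22, h23, h24, h25, h26]
  ring

theorem inv_46 {F : Type*} [CommRing F] (t : F) (v : I27 → F) : cubicT (zv 46 t v) = cubicT v := by
  have h0 : zv 46 t v (0, 0, 0) = v (0, 0, 0) := by
    rw [zv_def, show sg 46 (0, 0, 0) = 0 from by decide +kernel]; simp
  have h1 : zv 46 t v (0, 0, 1) = v (0, 0, 1) := by
    rw [zv_def, show sg 46 (0, 0, 1) = 0 from by decide +kernel]; simp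
  have h2 : zv 46 t v (0, 0, 2) = v (0, 0, 2) := by
    rw [zv_def, show sg 46 (0, 0, 2) = 0 from by decide +kernel]; simp
  have h3 : zv 46 t v (0, 1, 0) = v (0, 1, 0) := by
    rw [zv_def, show sg 46 (0, 1, 0) = 0 from by decide +kernel]; simp
  have h4 : zv 46 t v (0, 1, 1) = v (0, 1, 1) := by
    rw [zv_def, show sg 46 (0, 1, 1) = 0 from by decide +kernel]; simp
  have h5 : zv 46 t v (0, 1, 2) = v (0, 1, 2) := by
    rw [zv_def, show sg 46 (0, 1, 2) = 0 from by decide +kernel]; simp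
  have h6 : zv 46 t v (0, 2, 0) = v (0, 2, 0) := by
    rw [zv_def, show sg 46 (0, 2, 0) = 0 from by decide +kernel]; simp
  have h7 : zv 46 t v (0, 2, 1) = v (0, 2, 1) := by
    rw [zv_def, show sg 46 (0, 2, 1) = 0 from by decide +kernel]; simp
  have h8 : zv 46 t v (0, 2, 2) = v (0, 2, 2) := by
    rw [zv_def, show sg 46 (0, 2, 2) = 0 from by decide +kernel]; simp
  have h9 : zv 46 t v (1, 0, 0) = v (1, 0, 0) := by
    rw [zv_def, show sg 46 (1, 0, 0) = 0 from by decide +kernel]; simp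
  have h10 : zv 46 t v (1, 0, 1) = v (1, 0, 1) := by
    rw [zv_def, show sg 46 (1, 0, 1) = 0 from by decide +kernel]; simp
  have h11 : zv 46 t v (1, 0, 2) = v (1, 0, 2) + t * v (1, 0, 1) := by
    rw [zv_def, show sg 46 (1, 0, 2) = 1 from by decide +kernel, show sr 46 (1, 0, 2) = (1, 0, 1) from by decide +kernel]; simp
  have h12 : zv 46 t v (1, 1, 0) = v (1, 1, 0) := by
    rw [zv_def, show sg 46 (1, 1, 0) = 0 from by decide +kernel]; simp
  have h13 : zv 46 t v (1, 1, 1) = v (1, 1, 1) := by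
    rw [zv_def, show sg 46 (1, 1, 1) = 0 from by decide +kernel]; simp
  have h14 : zv 46 t v (1, 1, 2) = v (1, 1, 2) + t * v (1, 1, 1) := by
    rw [zv_def, show sg 46 (1, 1, 2) = 1 from by decide +kernel, show sr 46 (1, 1, 2) = (1, 1, 1) from by decide +kernel]; simp
  have h15 : zv 46 t v (1, 2, 0) = v (1, 2, 0) := by
    rw [zv_def, show sg 46 (1, 2, 0) = 0 from by decide +kernel]; simp
  have h16 : zv 46 t v (1, 2, 1) = v (1, 2, 1) := by
    rw [zv_def, show sg 46 (1, 2, 1) = 0 from by decide +kernel]; simp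
  have h17 : zv 46 t v (1, 2, 2) = v (1, 2, 2) + t * v (1, 2, 1) := by
    rw [zv_def, show sg 46 (1, 2, 2) = 1 from by decide +kernel, show sr 46 (1, 2, 2) = (1, 2, 1) from by decide +kernel]; simp
  have h18 : zv 46 t v (2, 0, 0) = v (2, 0, 0) := by
    rw [zv_def, show sg 46 (2, 0, 0) = 0 from by decide +kernel]; simp
  have h19 : zv 46 t v (2, 0, 1) = v (2, 0, 1) := by
    rw [zv_def, show sg 46 (2, 0, 1) = 0 from by decide +kernel]; simp
  have h20 : zv 46 t v (2, 0, 2) = v (2, 0, 2) := by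
    rw [zv_def, show sg 46 (2, 0, 2) = 0 from by decide +kernel]; simp
  have h21 : zv 46 t v (2, 1, 0) = v (2, 1, 0) - t * v (2, 2, 0) := by
    rw [zv_def, show sg 46 (2, 1, 0) = -1 from by decide +kernel, show sr 46 (2, 1, 0) = (2, 2, 0) from by decide +kernel]; push_cast; ring
  have h22 : zv 46 t v (2, 1, 1) = v (2, 1, 1) - t * v (2, 2, 1) := by
    rw [zv_def, show sg 46 (2, 1, 1) = -1 from by decide +kernel, show sr 46 (2, 1, 1) = (2, 2, 1) from by decide +kernel]; push_cast; ring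
  have h23 : zv 46 t v (2, 1, 2) = v (2, 1, 2) - t * v (2, 2, 2) := by
    rw [zv_def, show sg 46 (2, 1, 2) = -1 from by decide +kernel, show sr 46 (2, 1, 2) = (2, 2, 2) from by decide +kernel]; push_cast; ring
  have h24 : zv 46 t v (2, 2, 0) = v (2, 2, 0) := by
    rw [zv_def, show sg 46 (2, 2, 0) = 0 from by decide +kernel]; simp
  have h25 : zv 46 t v (2, 2, 1) = v (2, 2, 1) := by
    rw [zv_def, show sg 46 (2, 2, 1) = 0 from by decide +kernel]; simp
  have h26 : zv 46 t v (2, 2, 2) = v (2, 2, 2) := by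
    rw [zv_def, show sg 46 (2, 2, 2) = 0 from by decide +kernel]; simp
  rw [cubicT_expand, cubicT_expand]
  simp only [h0, h1, h2, h3, h4, h5, h6, h7, h8, h9, h10, h11, h12, h13, h14, h15, h16, h17, h18, h19, h20, h21, h22, h23, h24, h25, h26]
  ring

theorem inv_47 {F : Type*} [CommRing F] (t : F) (v : I27 → F) : cubicT (zv 47 t v) = cubicT v := by
  have h0 : zv 47 t v (0, 0, 0) = v (0, 0, 0) := by
    rw [zv_def, show sg 47 (0, 0, 0) = 0 from by decide +kernel]; simp
  have h1 : zv 47 t v (0, 0, 1) = v (0, 0, 1) := by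
    rw [zv_def, show sg 47 (0, 0, 1) = 0 from by decide +kernel]; simp
  have h2 : zv 47 t v (0, 0, 2) = v (0, 0, 2) := by
    rw [zv_def, show sg 47 (0, 0, 2) = 0 from by decide +kernel]; simp
  have h3 : zv 47 t v (0, 1, 0) = v (0, 1, 0) := by
    rw [zv_def, show sg 47 (0, 1, 0) = 0 from by decide +kernel]; simp
  have h4 : zv 47 t v (0, 1, 1) = v (0, 1, 1) := by
    rw [zv_def, show sg 47 (0, 1, 1) = 0 from by decide +kernel]; simp
  have h5 : zv 47 t v (0, 1, 2) = v (0, 1, 2) := by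
    rw [zv_def, show sg 47 (0, 1, 2) = 0 from by decide +kernel]; simp
  have h6 : zv 47 t v (0, 2, 0) = v (0, 2, 0) - t * v (1, 1, 1) := by
    rw [zv_def, show sg 47 (0, 2, 0) = -1 from by decide +kernel, show sr 47 (0, 2, 0) = (1, 1, 1) from by decide +kernel]; push_cast; ring
  have h7 : zv 47 t v (0, 2, 1) = v (0, 2, 1) + t * v (1, 0, 1) := by
    rw [zv_def, show sg 47 (0, 2, 1) = 1 from by decide +kernel, show sr 47 (0, 2, 1) = (1, 0, 1) from by decide +kernel]; simp
  have h8 : zv 47 t v (0, 2, 2) = v (0, 2, 2) := by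
    rw [zv_def, show sg 47 (0, 2, 2) = 0 from by decide +kernel]; simp
  have h9 : zv 47 t v (1, 0, 0) = v (1, 0, 0) := by
    rw [zv_def, show sg 47 (1, 0, 0) = 0 from by decide +kernel]; simp
  have h10 : zv 47 t v (1, 0, 1) = v (1, 0, 1) := by
    rw [zv_def, show sg 47 (1, 0, 1) = 0 from by decide +kernel]; simp
  have h11 : zv 47 t v (1, 0, 2) = v (1, 0, 2) := by
    rw [zv_def, show sg 47 (1, 0, 2) = 0 from by decide +kernel]; simp
  have h12 : zv 47 t v (1, 1, 0) = v (1, 1, 0) := by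
    rw [zv_def, show sg 47 (1, 1, 0) = 0 from by decide +kernel]; simp
  have h13 : zv 47 t v (1, 1, 1) = v (1, 1, 1) := by
    rw [zv_def, show sg 47 (1, 1, 1) = 0 from by decide +kernel]; simp
  have h14 : zv 47 t v (1, 1, 2) = v (1, 1, 2) := by
    rw [zv_def, show sg 47 (1, 1, 2) = 0 from by decide +kernel]; simp
  have h15 : zv 47 t v (1, 2, 0) = v (1, 2, 0) + t * v (2, 2, 2) := by
    rw [zv_def, show sg 47 (1, 2, 0) = 1 from by decide +kernel, show sr 47 (1, 2, 0) = (2, 2, 2) from by decide +kernel]; simp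
  have h16 : zv 47 t v (1, 2, 1) = v (1, 2, 1) := by
    rw [zv_def, show sg 47 (1, 2, 1) = 0 from by decide +kernel]; simp
  have h17 : zv 47 t v (1, 2, 2) = v (1, 2, 2) - t * v (2, 0, 2) := by
    rw [zv_def, show sg 47 (1, 2, 2) = -1 from by decide +kernel, show sr 47 (1, 2, 2) = (2, 0, 2) from by decide +kernel]; push_cast; ring
  have h18 : zv 47 t v (2, 0, 0) = v (2, 0, 0) := by
    rw [zv_def, show sg 47 (2, 0, 0) = 0 from by decide +kernel]; simp
  have h19 : zv 47 t v (2, 0, 1) = v (2, 0, 1) := by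
    rw [zv_def, show sg 47 (2, 0, 1) = 0 from by decide +kernel]; simp
  have h20 : zv 47 t v (2, 0, 2) = v (2, 0, 2) := by
    rw [zv_def, show sg 47 (2, 0, 2) = 0 from by decide +kernel]; simp
  have h21 : zv 47 t v (2, 1, 0) = v (2, 1, 0) - t * v (0, 1, 2) := by
    rw [zv_def, show sg 47 (2, 1, 0) = -1 from by decide +kernel, show sr 47 (2, 1, 0) = (0, 1, 2) from by decide +kernel]; push_cast; ring
  have h22 : zv 47 t v (2, 1, 1) = v (2, 1, 1) + t * v (0, 0, 2) := by
    rw [zv_def, show sg 47 (2, 1, 1) = 1 from by decide +kernel, show sr 47 (2, 1, 1) = (0, 0, 2) from by decide +kernel]; simp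
  have h23 : zv 47 t v (2, 1, 2) = v (2, 1, 2) := by
    rw [zv_def, show sg 47 (2, 1, 2) = 0 from by decide +kernel]; simp
  have h24 : zv 47 t v (2, 2, 0) = v (2, 2, 0) := by
    rw [zv_def, show sg 47 (2, 2, 0) = 0 from by decide +kernel]; simp
  have h25 : zv 47 t v (2, 2, 1) = v (2, 2, 1) := by
    rw [zv_def, show sg 47 (2, 2, 1) = 0 from by decide +kernel]; simp
  have h26 : zv 47 t v (2, 2, 2) = v (2, 2, 2) := by
    rw [zv_def, show sg 47 (2, 2, 2) = 0 from by decide +kernel]; simp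
  rw [cubicT_expand, cubicT_expand]
  simp only [h0, h1, h2, h3, h4, h5, h6, h7, h8, h9, h10, h11, h12, h13, h14, h15, h16, h17, h18, h19, h20, h21, h22, h23, h24, h25, h26]
  ring

theorem inv_48 {F : Type*} [CommRing F] (t : F) (v : I27 → F) : cubicT (zv 48 t v) = cubicT v := by
  have h0 : zv 48 t v (0, 0, 0) = v (0, 0, 0) := by
    rw [zv_def, show sg 48 (0, 0, 0) = 0 from by decide +kernel]; simp
  have h1 : zv 48 t v (0, 0, 1) = v (0, 0, 1) := by
    rw [zv_def, show sg 48 (0, 0, 1) = 0 from by decide +kernel]; simp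
  have h2 : zv 48 t v (0, 0, 2) = v (0, 0, 2) := by
    rw [zv_def, show sg 48 (0, 0, 2) = 0 from by decide +kernel]; simp
  have h3 : zv 48 t v (0, 1, 0) = v (0, 1, 0) := by
    rw [zv_def, show sg 48 (0, 1, 0) = 0 from by decide +kernel]; simp
  have h4 : zv 48 t v (0, 1, 1) = v (0, 1, 1) := by
    rw [zv_def, show sg 48 (0, 1, 1) = 0 from by decide +kernel]; simp
  have h5 : zv 48 t v (0, 1, 2) = v (0, 1, 2) := by
    rw [zv_def, show sg 48 (0, 1, 2) = 0 from by decide +kernel]; simp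
  have h6 : zv 48 t v (0, 2, 0) = v (0, 2, 0) - t * v (1, 2, 1) := by
    rw [zv_def, show sg 48 (0, 2, 0) = -1 from by decide +kernel, show sr 48 (0, 2, 0) = (1, 2, 1) from by decide +kernel]; push_cast; ring
  have h7 : zv 48 t v (0, 2, 1) = v (0, 2, 1) := by
    rw [zv_def, show sg 48 (0, 2, 1) = 0 from by decide +kernel]; simp
  have h8 : zv 48 t v (0, 2, 2) = v (0, 2, 2) + t * v (1, 0, 1) := by
    rw [zv_def, show sg 48 (0, 2, 2) = 1 from by decide +kernel, show sr 48 (0, 2, 2) = (1, 0, 1) from by decide +kernel]; simp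
  have h9 : zv 48 t v (1, 0, 0) = v (1, 0, 0) := by
    rw [zv_def, show sg 48 (1, 0, 0) = 0 from by decide +kernel]; simp
  have h10 : zv 48 t v (1, 0, 1) = v (1, 0, 1) := by
    rw [zv_def, show sg 48 (1, 0, 1) = 0 from by decide +kernel]; simp
  have h11 : zv 48 t v (1, 0, 2) = v (1, 0, 2) := by
    rw [zv_def, show sg 48 (1, 0, 2) = 0 from by decide +kernel]; simp
  have h12 : zv 48 t v (1, 1, 0) = v (1, 1, 0) - t * v (2, 2, 2) := by
    rw [zv_def, show sg 48 (1, 1, 0) = -1 from by decide +kernel, show sr 48 (1, 1, 0) = (2, 2, 2) from by decide +kernel]; push_cast; ring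
  have h13 : zv 48 t v (1, 1, 1) = v (1, 1, 1) := by
    rw [zv_def, show sg 48 (1, 1, 1) = 0 from by decide +kernel]; simp
  have h14 : zv 48 t v (1, 1, 2) = v (1, 1, 2) + t * v (2, 0, 2) := by
    rw [zv_def, show sg 48 (1, 1, 2) = 1 from by decide +kernel, show sr 48 (1, 1, 2) = (2, 0, 2) from by decide +kernel]; simp
  have h15 : zv 48 t v (1, 2, 0) = v (1, 2, 0) := by
    rw [zv_def, show sg 48 (1, 2, 0) = 0 from by decide +kernel]; simp
  have h16 : zv 48 t v (1, 2, 1) = v (1, 2, 1) := by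
    rw [zv_def, show sg 48 (1, 2, 1) = 0 from by decide +kernel]; simp
  have h17 : zv 48 t v (1, 2, 2) = v (1, 2, 2) := by
    rw [zv_def, show sg 48 (1, 2, 2) = 0 from by decide +kernel]; simp
  have h18 : zv 48 t v (2, 0, 0) = v (2, 0, 0) := by
    rw [zv_def, show sg 48 (2, 0, 0) = 0 from by decide +kernel]; simp
  have h19 : zv 48 t v (2, 0, 1) = v (2, 0, 1) := by
    rw [zv_def, show sg 48 (2, 0, 1) = 0 from by decide +kernel]; simp
  have h20 : zv 48 t v (2, 0, 2) = v (2, 0, 2) := by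
    rw [zv_def, show sg 48 (2, 0, 2) = 0 from by decide +kernel]; simp
  have h21 : zv 48 t v (2, 1, 0) = v (2, 1, 0) + t * v (0, 1, 1) := by
    rw [zv_def, show sg 48 (2, 1, 0) = 1 from by decide +kernel, show sr 48 (2, 1, 0) = (0, 1, 1) from by decide +kernel]; simp
  have h22 : zv 48 t v (2, 1, 1) = v (2, 1, 1) - t * v (0, 0, 1) := by
    rw [zv_def, show sg 48 (2, 1, 1) = -1 from by decide +kernel, show sr 48 (2, 1, 1) = (0, 0, 1) from by decide +kernel]; push_cast; ring
  have h23 : zv 48 t v (2, 1, 2) = v (2, 1, 2) := by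
    rw [zv_def, show sg 48 (2, 1, 2) = 0 from by decide +kernel]; simp
  have h24 : zv 48 t v (2, 2, 0) = v (2, 2, 0) := by
    rw [zv_def, show sg 48 (2, 2, 0) = 0 from by decide +kernel]; simp
  have h25 : zv 48 t v (2, 2, 1) = v (2, 2, 1) := by
    rw [zv_def, show sg 48 (2, 2, 1) = 0 from by decide +kernel]; simp
  have h26 : zv 48 t v (2, 2, 2) = v (2, 2, 2) := by
    rw [zv_def, show sg 48 (2, 2, 2) = 0 from by decide +kernel]; simp
  rw [cubicT_expand, cubicT_expand]
  simp only [h0, h1, h2, h3, h4, h5, h6, h7, h8, h9, h10, h11, h12, h13, h14, h15, h16, h17, h18, h19, h20, h21, h22, h23, h24, h25, h26]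
  ring

theorem inv_49 {F : Type*} [CommRing F] (t : F) (v : I27 → F) : cubicT (zv 49 t v) = cubicT v := by
  have h0 : zv 49 t v (0, 0, 0) = v (0, 0, 0) := by
    rw [zv_def, show sg 49 (0, 0, 0) = 0 from by decide +kernel]; simp
  have h1 : zv 49 t v (0, 0, 1) = v (0, 0, 1) := by
    rw [zv_def, show sg 49 (0, 0, 1) = 0 from by decide +kernel]; simp
  have h2 : zv 49 t v (0, 0, 2) = v (0, 0, 2) := by
    rw [zv_def, show sg 49 (0, 0, 2) = 0 from by decide +kernel]; simp
  have h3 : zv 49 t v (0, 1, 0) = v (0, 1, 0) := by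
    rw [zv_def, show sg 49 (0, 1, 0) = 0 from by decide +kernel]; simp
  have h4 : zv 49 t v (0, 1, 1) = v (0, 1, 1) := by
    rw [zv_def, show sg 49 (0, 1, 1) = 0 from by decide +kernel]; simp
  have h5 : zv 49 t v (0, 1, 2) = v (0, 1, 2) := by
    rw [zv_def, show sg 49 (0, 1, 2) = 0 from by decide +kernel]; simp
  have h6 : zv 49 t v (0, 2, 0) = v (0, 2, 0) := by
    rw [zv_def, show sg 49 (0, 2, 0) = 0 from by decide +kernel]; simp
  have h7 : zv 49 t v (0, 2, 1) = v (0, 2, 1) - t * v (1, 2, 1) := by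
    rw [zv_def, show sg 49 (0, 2, 1) = -1 from by decide +kernel, show sr 49 (0, 2, 1) = (1, 2, 1) from by decide +kernel]; push_cast; ring
  have h8 : zv 49 t v (0, 2, 2) = v (0, 2, 2) + t * v (1, 1, 1) := by
    rw [zv_def, show sg 49 (0, 2, 2) = 1 from by decide +kernel, show sr 49 (0, 2, 2) = (1, 1, 1) from by decide +kernel]; simp
  have h9 : zv 49 t v (1, 0, 0) = v (1, 0, 0) + t * v (2, 2, 2) := by
    rw [zv_def, show sg 49 (1, 0, 0) = 1 from by decide +kernel, show sr 49 (1, 0, 0) = (2, 2, 2) from by decide +kernel]; simp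
  have h10 : zv 49 t v (1, 0, 1) = v (1, 0, 1) := by
    rw [zv_def, show sg 49 (1, 0, 1) = 0 from by decide +kernel]; simp
  have h11 : zv 49 t v (1, 0, 2) = v (1, 0, 2) - t * v (2, 0, 2) := by
    rw [zv_def, show sg 49 (1, 0, 2) = -1 from by decide +kernel, show sr 49 (1, 0, 2) = (2, 0, 2) from by decide +kernel]; push_cast; ring
  have h12 : zv 49 t v (1, 1, 0) = v (1, 1, 0) := by
    rw [zv_def, show sg 49 (1, 1, 0) = 0 from by decide +kernel]; simp
  have h13 : zv 49 t v (1, 1, 1) = v (1, 1, 1) := by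
    rw [zv_def, show sg 49 (1, 1, 1) = 0 from by decide +kernel]; simp
  have h14 : zv 49 t v (1, 1, 2) = v (1, 1, 2) := by
    rw [zv_def, show sg 49 (1, 1, 2) = 0 from by decide +kernel]; simp
  have h15 : zv 49 t v (1, 2, 0) = v (1, 2, 0) := by
    rw [zv_def, show sg 49 (1, 2, 0) = 0 from by decide +kernel]; simp
  have h16 : zv 49 t v (1, 2, 1) = v (1, 2, 1) := by
    rw [zv_def, show sg 49 (1, 2, 1) = 0 from by decide +kernel]; simp
  have h17 : zv 49 t v (1, 2, 2) = v (1, 2, 2) := by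
    rw [zv_def, show sg 49 (1, 2, 2) = 0 from by decide +kernel]; simp
  have h18 : zv 49 t v (2, 0, 0) = v (2, 0, 0) := by
    rw [zv_def, show sg 49 (2, 0, 0) = 0 from by decide +kernel]; simp
  have h19 : zv 49 t v (2, 0, 1) = v (2, 0, 1) := by
    rw [zv_def, show sg 49 (2, 0, 1) = 0 from by decide +kernel]; simp
  have h20 : zv 49 t v (2, 0, 2) = v (2, 0, 2) := by
    rw [zv_def, show sg 49 (2, 0, 2) = 0 from by decide +kernel]; simp
  have h21 : zv 49 t v (2, 1, 0) = v (2, 1, 0) - t * v (0, 1, 0) := by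
    rw [zv_def, show sg 49 (2, 1, 0) = -1 from by decide +kernel, show sr 49 (2, 1, 0) = (0, 1, 0) from by decide +kernel]; push_cast; ring
  have h22 : zv 49 t v (2, 1, 1) = v (2, 1, 1) + t * v (0, 0, 0) := by
    rw [zv_def, show sg 49 (2, 1, 1) = 1 from by decide +kernel, show sr 49 (2, 1, 1) = (0, 0, 0) from by decide +kernel]; simp
  have h23 : zv 49 t v (2, 1, 2) = v (2, 1, 2) := by
    rw [zv_def, show sg 49 (2, 1, 2) = 0 from by decide +kernel]; simp
  have h24 : zv 49 t v (2, 2, 0) = v (2, 2, 0) := by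
    rw [zv_def, show sg 49 (2, 2, 0) = 0 from by decide +kernel]; simp
  have h25 : zv 49 t v (2, 2, 1) = v (2, 2, 1) := by
    rw [zv_def, show sg 49 (2, 2, 1) = 0 from by decide +kernel]; simp
  have h26 : zv 49 t v (2, 2, 2) = v (2, 2, 2) := by
    rw [zv_def, show sg 49 (2, 2, 2) = 0 from by decide +kernel]; simp
  rw [cubicT_expand, cubicT_expand]
  simp only [h0, h1, h2, h3, h4, h5, h6, h7, h8, h9, h10, h11, h12, h13, h14, h15, h16, h17, h18, h19, h20, h21, h22, h23, h24, h25, h26]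
  ring

theorem inv_50 {F : Type*} [CommRing F] (t : F) (v : I27 → F) : cubicT (zv 50 t v) = cubicT v := by
  have h0 : zv 50 t v (0, 0, 0) = v (0, 0, 0) := by
    rw [zv_def, show sg 50 (0, 0, 0) = 0 from by decide +kernel]; simp
  have h1 : zv 50 t v (0, 0, 1) = v (0, 0, 1) := by
    rw [zv_def, show sg 50 (0, 0, 1) = 0 from by decide +kernel]; simp
  have h2 : zv 50 t v (0, 0, 2) = v (0, 0, 2) := by
    rw [zv_def, show sg 50 (0, 0, 2) = 0 from by decide +kernel]; simp
  have h3 : zv 50 t v (0, 1, 0) = v (0, 1, 0) - t * v (1, 1, 1) := by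
    rw [zv_def, show sg 50 (0, 1, 0) = -1 from by decide +kernel, show sr 50 (0, 1, 0) = (1, 1, 1) from by decide +kernel]; push_cast; ring
  have h4 : zv 50 t v (0, 1, 1) = v (0, 1, 1) + t * v (1, 0, 1) := by
    rw [zv_def, show sg 50 (0, 1, 1) = 1 from by decide +kernel, show sr 50 (0, 1, 1) = (1, 0, 1) from by decide +kernel]; simp
  have h5 : zv 50 t v (0, 1, 2) = v (0, 1, 2) := by
    rw [zv_def, show sg 50 (0, 1, 2) = 0 from by decide +kernel]; simp
  have h6 : zv 50 t v (0, 2, 0) = v (0, 2, 0) := by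
    rw [zv_def, show sg 50 (0, 2, 0) = 0 from by decide +kernel]; simp
  have h7 : zv 50 t v (0, 2, 1) = v (0, 2, 1) := by
    rw [zv_def, show sg 50 (0, 2, 1) = 0 from by decide +kernel]; simp
  have h8 : zv 50 t v (0, 2, 2) = v (0, 2, 2) := by
    rw [zv_def, show sg 50 (0, 2, 2) = 0 from by decide +kernel]; simp
  have h9 : zv 50 t v (1, 0, 0) = v (1, 0, 0) := by
    rw [zv_def, show sg 50 (1, 0, 0) = 0 from by decide +kernel]; simp
  have h10 : zv 50 t v (1, 0, 1) = v (1, 0, 1) := by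
    rw [zv_def, show sg 50 (1, 0, 1) = 0 from by decide +kernel]; simp
  have h11 : zv 50 t v (1, 0, 2) = v (1, 0, 2) := by
    rw [zv_def, show sg 50 (1, 0, 2) = 0 from by decide +kernel]; simp
  have h12 : zv 50 t v (1, 1, 0) = v (1, 1, 0) := by
    rw [zv_def, show sg 50 (1, 1, 0) = 0 from by decide +kernel]; simp
  have h13 : zv 50 t v (1, 1, 1) = v (1, 1, 1) := by
    rw [zv_def, show sg 50 (1, 1, 1) = 0 from by decide +kernel]; simp
  have h14 : zv 50 t v (1, 1, 2) = v (1, 1, 2) := by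
    rw [zv_def, show sg 50 (1, 1, 2) = 0 from by decide +kernel]; simp
  have h15 : zv 50 t v (1, 2, 0) = v (1, 2, 0) + t * v (2, 2, 1) := by
    rw [zv_def, show sg 50 (1, 2, 0) = 1 from by decide +kernel, show sr 50 (1, 2, 0) = (2, 2, 1) from by decide +kernel]; simp
  have h16 : zv 50 t v (1, 2, 1) = v (1, 2, 1) := by
    rw [zv_def, show sg 50 (1, 2, 1) = 0 from by decide +kernel]; simp
  have h17 : zv 50 t v (1, 2, 2) = v (1, 2, 2) - t * v (2, 0, 1) := by
    rw [zv_def, show sg 50 (1, 2, 2) = -1 from by decide +kernel, show sr 50 (1, 2, 2) = (2, 0, 1) from by decide +kernel]; push_cast; ring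
  have h18 : zv 50 t v (2, 0, 0) = v (2, 0, 0) := by
    rw [zv_def, show sg 50 (2, 0, 0) = 0 from by decide +kernel]; simp
  have h19 : zv 50 t v (2, 0, 1) = v (2, 0, 1) := by
    rw [zv_def, show sg 50 (2, 0, 1) = 0 from by decide +kernel]; simp
  have h20 : zv 50 t v (2, 0, 2) = v (2, 0, 2) := by
    rw [zv_def, show sg 50 (2, 0, 2) = 0 from by decide +kernel]; simp
  have h21 : zv 50 t v (2, 1, 0) = v (2, 1, 0) + t * v (0, 2, 2) := by
    rw [zv_def, show sg 50 (2, 1, 0) = 1 from by decide +kernel, show sr 50 (2, 1, 0) = (0, 2, 2) from by decide +kernel]; simp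
  have h22 : zv 50 t v (2, 1, 1) = v (2, 1, 1) := by
    rw [zv_def, show sg 50 (2, 1, 1) = 0 from by decide +kernel]; simp
  have h23 : zv 50 t v (2, 1, 2) = v (2, 1, 2) - t * v (0, 0, 2) := by
    rw [zv_def, show sg 50 (2, 1, 2) = -1 from by decide +kernel, show sr 50 (2, 1, 2) = (0, 0, 2) from by decide +kernel]; push_cast; ring
  have h24 : zv 50 t v (2, 2, 0) = v (2, 2, 0) := by
    rw [zv_def, show sg 50 (2, 2, 0) = 0 from by decide +kernel]; simp
  have h25 : zv 50 t v (2, 2, 1) = v (2, 2, 1) := by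
    rw [zv_def, show sg 50 (2, 2, 1) = 0 from by decide +kernel]; simp
  have h26 : zv 50 t v (2, 2, 2) = v (2, 2, 2) := by
    rw [zv_def, show sg 50 (2, 2, 2) = 0 from by decide +kernel]; simp
  rw [cubicT_expand, cubicT_expand]
  simp only [h0, h1, h2, h3, h4, h5, h6, h7, h8, h9, h10, h11, h12, h13, h14, h15, h16, h17, h18, h19, h20, h21, h22, h23, h24, h25, h26]
  ring

theorem inv_51 {F : Type*} [CommRing F] (t : F) (v : I27 → F) : cubicT (zv 51 t v) = cubicT v := by
  have h0 : zv 51 t v (0, 0, 0) = v (0, 0, 0) := by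
    rw [zv_def, show sg 51 (0, 0, 0) = 0 from by decide +kernel]; simp
  have h1 : zv 51 t v (0, 0, 1) = v (0, 0, 1) := by
    rw [zv_def, show sg 51 (0, 0, 1) = 0 from by decide +kernel]; simp
  have h2 : zv 51 t v (0, 0, 2) = v (0, 0, 2) := by
    rw [zv_def, show sg 51 (0, 0, 2) = 0 from by decide +kernel]; simp
  have h3 : zv 51 t v (0, 1, 0) = v (0, 1, 0) - t * v (1, 2, 1) := by
    rw [zv_def, show sg 51 (0, 1, 0) = -1 from by decide +kernel, show sr 51 (0, 1, 0) = (1, 2, 1) from by decide +kernel]; push_cast; ring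
  have h4 : zv 51 t v (0, 1, 1) = v (0, 1, 1) := by
    rw [zv_def, show sg 51 (0, 1, 1) = 0 from by decide +kernel]; simp
  have h5 : zv 51 t v (0, 1, 2) = v (0, 1, 2) + t * v (1, 0, 1) := by
    rw [zv_def, show sg 51 (0, 1, 2) = 1 from by decide +kernel, show sr 51 (0, 1, 2) = (1, 0, 1) from by decide +kernel]; simp
  have h6 : zv 51 t v (0, 2, 0) = v (0, 2, 0) := by
    rw [zv_def, show sg 51 (0, 2, 0) = 0 from by decide +kernel]; simp
  have h7 : zv 51 t v (0, 2, 1) = v (0, 2, 1) := by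
    rw [zv_def, show sg 51 (0, 2, 1) = 0 from by decide +kernel]; simp
  have h8 : zv 51 t v (0, 2, 2) = v (0, 2, 2) := by
    rw [zv_def, show sg 51 (0, 2, 2) = 0 from by decide +kernel]; simp
  have h9 : zv 51 t v (1, 0, 0) = v (1, 0, 0) := by
    rw [zv_def, show sg 51 (1, 0, 0) = 0 from by decide +kernel]; simp
  have h10 : zv 51 t v (1, 0, 1) = v (1, 0, 1) := by
    rw [zv_def, show sg 51 (1, 0, 1) = 0 from by decide +kernel]; simp
  have h11 : zv 51 t v (1, 0, 2) = v (1, 0, 2) := by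
    rw [zv_def, show sg 51 (1, 0, 2) = 0 from by decide +kernel]; simp
  have h12 : zv 51 t v (1, 1, 0) = v (1, 1, 0) - t * v (2, 2, 1) := by
    rw [zv_def, show sg 51 (1, 1, 0) = -1 from by decide +kernel, show sr 51 (1, 1, 0) = (2, 2, 1) from by decide +kernel]; push_cast; ring
  have h13 : zv 51 t v (1, 1, 1) = v (1, 1, 1) := by
    rw [zv_def, show sg 51 (1, 1, 1) = 0 from by decide +kernel]; simp
  have h14 : zv 51 t v (1, 1, 2) = v (1, 1, 2) + t * v (2, 0, 1) := by
    rw [zv_def, show sg 51 (1, 1, 2) = 1 from by decide +kernel, show sr 51 (1, 1, 2) = (2, 0, 1) from by decide +kernel]; simp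
  have h15 : zv 51 t v (1, 2, 0) = v (1, 2, 0) := by
    rw [zv_def, show sg 51 (1, 2, 0) = 0 from by decide +kernel]; simp
  have h16 : zv 51 t v (1, 2, 1) = v (1, 2, 1) := by
    rw [zv_def, show sg 51 (1, 2, 1) = 0 from by decide +kernel]; simp
  have h17 : zv 51 t v (1, 2, 2) = v (1, 2, 2) := by
    rw [zv_def, show sg 51 (1, 2, 2) = 0 from by decide +kernel]; simp
  have h18 : zv 51 t v (2, 0, 0) = v (2, 0, 0) := by
    rw [zv_def, show sg 51 (2, 0, 0) = 0 from by decide +kernel]; simp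
  have h19 : zv 51 t v (2, 0, 1) = v (2, 0, 1) := by
    rw [zv_def, show sg 51 (2, 0, 1) = 0 from by decide +kernel]; simp
  have h20 : zv 51 t v (2, 0, 2) = v (2, 0, 2) := by
    rw [zv_def, show sg 51 (2, 0, 2) = 0 from by decide +kernel]; simp
  have h21 : zv 51 t v (2, 1, 0) = v (2, 1, 0) - t * v (0, 2, 1) := by
    rw [zv_def, show sg 51 (2, 1, 0) = -1 from by decide +kernel, show sr 51 (2, 1, 0) = (0, 2, 1) from by decide +kernel]; push_cast; ring
  have h22 : zv 51 t v (2, 1, 1) = v (2, 1, 1) := by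
    rw [zv_def, show sg 51 (2, 1, 1) = 0 from by decide +kernel]; simp
  have h23 : zv 51 t v (2, 1, 2) = v (2, 1, 2) + t * v (0, 0, 1) := by
    rw [zv_def, show sg 51 (2, 1, 2) = 1 from by decide +kernel, show sr 51 (2, 1, 2) = (0, 0, 1) from by decide +kernel]; simp
  have h24 : zv 51 t v (2, 2, 0) = v (2, 2, 0) := by
    rw [zv_def, show sg 51 (2, 2, 0) = 0 from by decide +kernel]; simp
  have h25 : zv 51 t v (2, 2, 1) = v (2, 2, 1) := by
    rw [zv_def, show sg 51 (2, 2, 1) = 0 from by decide +kernel]; simp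
  have h26 : zv 51 t v (2, 2, 2) = v (2, 2, 2) := by
    rw [zv_def, show sg 51 (2, 2, 2) = 0 from by decide +kernel]; simp
  rw [cubicT_expand, cubicT_expand]
  simp only [h0, h1, h2, h3, h4, h5, h6, h7, h8, h9, h10, h11, h12, h13, h14, h15, h16, h17, h18, h19, h20, h21, h22, h23, h24, h25, h26]
  ring

theorem inv_52 {F : Type*} [CommRing F] (t : F) (v : I27 → F) : cubicT (zv 52 t v) = cubicT v := by
  have h0 : zv 52 t v (0, 0, 0) = v (0, 0, 0) := by
    rw [zv_def, show sg 52 (0, 0, 0) = 0 from by decide +kernel]; simp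
  have h1 : zv 52 t v (0, 0, 1) = v (0, 0, 1) := by
    rw [zv_def, show sg 52 (0, 0, 1) = 0 from by decide +kernel]; simp
  have h2 : zv 52 t v (0, 0, 2) = v (0, 0, 2) := by
    rw [zv_def, show sg 52 (0, 0, 2) = 0 from by decide +kernel]; simp
  have h3 : zv 52 t v (0, 1, 0) = v (0, 1, 0) := by
    rw [zv_def, show sg 52 (0, 1, 0) = 0 from by decide +kernel]; simp
  have h4 : zv 52 t v (0, 1, 1) = v (0, 1, 1) - t * v (1, 2, 1) := by
    rw [zv_def, show sg 52 (0, 1, 1) = -1 from by decide +kernel, show sr 52 (0, 1, 1) = (1, 2, 1) from by decide +kernel]; push_cast; ring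
  have h5 : zv 52 t v (0, 1, 2) = v (0, 1, 2) + t * v (1, 1, 1) := by
    rw [zv_def, show sg 52 (0, 1, 2) = 1 from by decide +kernel, show sr 52 (0, 1, 2) = (1, 1, 1) from by decide +kernel]; simp
  have h6 : zv 52 t v (0, 2, 0) = v (0, 2, 0) := by
    rw [zv_def, show sg 52 (0, 2, 0) = 0 from by decide +kernel]; simp
  have h7 : zv 52 t v (0, 2, 1) = v (0, 2, 1) := by
    rw [zv_def, show sg 52 (0, 2, 1) = 0 from by decide +kernel]; simp
  have h8 : zv 52 t v (0, 2, 2) = v (0, 2, 2) := by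
    rw [zv_def, show sg 52 (0, 2, 2) = 0 from by decide +kernel]; simp
  have h9 : zv 52 t v (1, 0, 0) = v (1, 0, 0) + t * v (2, 2, 1) := by
    rw [zv_def, show sg 52 (1, 0, 0) = 1 from by decide +kernel, show sr 52 (1, 0, 0) = (2, 2, 1) from by decide +kernel]; simp
  have h10 : zv 52 t v (1, 0, 1) = v (1, 0, 1) := by
    rw [zv_def, show sg 52 (1, 0, 1) = 0 from by decide +kernel]; simp
  have h11 : zv 52 t v (1, 0, 2) = v (1, 0, 2) - t * v (2, 0, 1) := by
    rw [zv_def, show sg 52 (1, 0, 2) = -1 from by decide +kernel, show sr 52 (1, 0, 2) = (2, 0, 1) from by decide +kernel]; push_cast; ring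
  have h12 : zv 52 t v (1, 1, 0) = v (1, 1, 0) := by
    rw [zv_def, show sg 52 (1, 1, 0) = 0 from by decide +kernel]; simp
  have h13 : zv 52 t v (1, 1, 1) = v (1, 1, 1) := by
    rw [zv_def, show sg 52 (1, 1, 1) = 0 from by decide +kernel]; simp
  have h14 : zv 52 t v (1, 1, 2) = v (1, 1, 2) := by
    rw [zv_def, show sg 52 (1, 1, 2) = 0 from by decide +kernel]; simp
  have h15 : zv 52 t v (1, 2, 0) = v (1, 2, 0) := by
    rw [zv_def, show sg 52 (1, 2, 0) = 0 from by decide +kernel]; simp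
  have h16 : zv 52 t v (1, 2, 1) = v (1, 2, 1) := by
    rw [zv_def, show sg 52 (1, 2, 1) = 0 from by decide +kernel]; simp
  have h17 : zv 52 t v (1, 2, 2) = v (1, 2, 2) := by
    rw [zv_def, show sg 52 (1, 2, 2) = 0 from by decide +kernel]; simp
  have h18 : zv 52 t v (2, 0, 0) = v (2, 0, 0) := by
    rw [zv_def, show sg 52 (2, 0, 0) = 0 from by decide +kernel]; simp
  have h19 : zv 52 t v (2, 0, 1) = v (2, 0, 1) := by
    rw [zv_def, show sg 52 (2, 0, 1) = 0 from by decide +kernel]; simp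
  have h20 : zv 52 t v (2, 0, 2) = v (2, 0, 2) := by
    rw [zv_def, show sg 52 (2, 0, 2) = 0 from by decide +kernel]; simp
  have h21 : zv 52 t v (2, 1, 0) = v (2, 1, 0) + t * v (0, 2, 0) := by
    rw [zv_def, show sg 52 (2, 1, 0) = 1 from by decide +kernel, show sr 52 (2, 1, 0) = (0, 2, 0) from by decide +kernel]; simp
  have h22 : zv 52 t v (2, 1, 1) = v (2, 1, 1) := by
    rw [zv_def, show sg 52 (2, 1, 1) = 0 from by decide +kernel]; simp
  have h23 : zv 52 t v (2, 1, 2) = v (2, 1, 2) - t * v (0, 0, 0) := by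
    rw [zv_def, show sg 52 (2, 1, 2) = -1 from by decide +kernel, show sr 52 (2, 1, 2) = (0, 0, 0) from by decide +kernel]; push_cast; ring
  have h24 : zv 52 t v (2, 2, 0) = v (2, 2, 0) := by
    rw [zv_def, show sg 52 (2, 2, 0) = 0 from by decide +kernel]; simp
  have h25 : zv 52 t v (2, 2, 1) = v (2, 2, 1) := by
    rw [zv_def, show sg 52 (2, 2, 1) = 0 from by decide +kernel]; simp
  have h26 : zv 52 t v (2, 2, 2) = v (2, 2, 2) := by
    rw [zv_def, show sg 52 (2, 2, 2) = 0 from by decide +kernel]; simp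
  rw [cubicT_expand, cubicT_expand]
  simp only [h0, h1, h2, h3, h4, h5, h6, h7, h8, h9, h10, h11, h12, h13, h14, h15, h16, h17, h18, h19, h20, h21, h22, h23, h24, h25, h26]
  ring

theorem inv_53 {F : Type*} [CommRing F] (t : F) (v : I27 → F) : cubicT (zv 53 t v) = cubicT v := by
  have h0 : zv 53 t v (0, 0, 0) = v (0, 0, 0) := by
    rw [zv_def, show sg 53 (0, 0, 0) = 0 from by decide +kernel]; simp
  have h1 : zv 53 t v (0, 0, 1) = v (0, 0, 1) := by
    rw [zv_def, show sg 53 (0, 0, 1) = 0 from by decide +kernel]; simp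
  have h2 : zv 53 t v (0, 0, 2) = v (0, 0, 2) := by
    rw [zv_def, show sg 53 (0, 0, 2) = 0 from by decide +kernel]; simp
  have h3 : zv 53 t v (0, 1, 0) = v (0, 1, 0) + t * v (2, 0, 2) := by
    rw [zv_def, show sg 53 (0, 1, 0) = 1 from by decide +kernel, show sr 53 (0, 1, 0) = (2, 0, 2) from by decide +kernel]; simp
  have h4 : zv 53 t v (0, 1, 1) = v (0, 1, 1) := by
    rw [zv_def, show sg 53 (0, 1, 1) = 0 from by decide +kernel]; simp
  have h5 : zv 53 t v (0, 1, 2) = v (0, 1, 2) := by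
    rw [zv_def, show sg 53 (0, 1, 2) = 0 from by decide +kernel]; simp
  have h6 : zv 53 t v (0, 2, 0) = v (0, 2, 0) - t * v (2, 0, 1) := by
    rw [zv_def, show sg 53 (0, 2, 0) = -1 from by decide +kernel, show sr 53 (0, 2, 0) = (2, 0, 1) from by decide +kernel]; push_cast; ring
  have h7 : zv 53 t v (0, 2, 1) = v (0, 2, 1) := by
    rw [zv_def, show sg 53 (0, 2, 1) = 0 from by decide +kernel]; simp
  have h8 : zv 53 t v (0, 2, 2) = v (0, 2, 2) := by
    rw [zv_def, show sg 53 (0, 2, 2) = 0 from by decide +kernel]; simp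
  have h9 : zv 53 t v (1, 0, 0) = v (1, 0, 0) := by
    rw [zv_def, show sg 53 (1, 0, 0) = 0 from by decide +kernel]; simp
  have h10 : zv 53 t v (1, 0, 1) = v (1, 0, 1) := by
    rw [zv_def, show sg 53 (1, 0, 1) = 0 from by decide +kernel]; simp
  have h11 : zv 53 t v (1, 0, 2) = v (1, 0, 2) := by
    rw [zv_def, show sg 53 (1, 0, 2) = 0 from by decide +kernel]; simp
  have h12 : zv 53 t v (1, 1, 0) = v (1, 1, 0) + t * v (0, 0, 2) := by
    rw [zv_def, show sg 53 (1, 1, 0) = 1 from by decide +kernel, show sr 53 (1, 1, 0) = (0, 0, 2) from by decide +kernel]; simp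
  have h13 : zv 53 t v (1, 1, 1) = v (1, 1, 1) := by
    rw [zv_def, show sg 53 (1, 1, 1) = 0 from by decide +kernel]; simp
  have h14 : zv 53 t v (1, 1, 2) = v (1, 1, 2) := by
    rw [zv_def, show sg 53 (1, 1, 2) = 0 from by decide +kernel]; simp
  have h15 : zv 53 t v (1, 2, 0) = v (1, 2, 0) - t * v (0, 0, 1) := by
    rw [zv_def, show sg 53 (1, 2, 0) = -1 from by decide +kernel, show sr 53 (1, 2, 0) = (0, 0, 1) from by decide +kernel]; push_cast; ring
  have h16 : zv 53 t v (1, 2, 1) = v (1, 2, 1) := by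
    rw [zv_def, show sg 53 (1, 2, 1) = 0 from by decide +kernel]; simp
  have h17 : zv 53 t v (1, 2, 2) = v (1, 2, 2) := by
    rw [zv_def, show sg 53 (1, 2, 2) = 0 from by decide +kernel]; simp
  have h18 : zv 53 t v (2, 0, 0) = v (2, 0, 0) := by
    rw [zv_def, show sg 53 (2, 0, 0) = 0 from by decide +kernel]; simp
  have h19 : zv 53 t v (2, 0, 1) = v (2, 0, 1) := by
    rw [zv_def, show sg 53 (2, 0, 1) = 0 from by decide +kernel]; simp
  have h20 : zv 53 t v (2, 0, 2) = v (2, 0, 2) := by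
    rw [zv_def, show sg 53 (2, 0, 2) = 0 from by decide +kernel]; simp
  have h21 : zv 53 t v (2, 1, 0) = v (2, 1, 0) + t * v (1, 0, 2) := by
    rw [zv_def, show sg 53 (2, 1, 0) = 1 from by decide +kernel, show sr 53 (2, 1, 0) = (1, 0, 2) from by decide +kernel]; simp
  have h22 : zv 53 t v (2, 1, 1) = v (2, 1, 1) := by
    rw [zv_def, show sg 53 (2, 1, 1) = 0 from by decide +kernel]; simp
  have h23 : zv 53 t v (2, 1, 2) = v (2, 1, 2) := by
    rw [zv_def, show sg 53 (2, 1, 2) = 0 from by decide +kernel]; simp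
  have h24 : zv 53 t v (2, 2, 0) = v (2, 2, 0) - t * v (1, 0, 1) := by
    rw [zv_def, show sg 53 (2, 2, 0) = -1 from by decide +kernel, show sr 53 (2, 2, 0) = (1, 0, 1) from by decide +kernel]; push_cast; ring
  have h25 : zv 53 t v (2, 2, 1) = v (2, 2, 1) := by
    rw [zv_def, show sg 53 (2, 2, 1) = 0 from by decide +kernel]; simp
  have h26 : zv 53 t v (2, 2, 2) = v (2, 2, 2) := by
    rw [zv_def, show sg 53 (2, 2, 2) = 0 from by decide +kernel]; simp
  rw [cubicT_expand, cubicT_expand]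
  simp only [h0, h1, h2, h3, h4, h5, h6, h7, h8, h9, h10, h11, h12, h13, h14, h15, h16, h17, h18, h19, h20, h21, h22, h23, h24, h25, h26]
  ring

end Cfsg.Agent.ChevalleyStructure.E6Min.Inv3
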