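import Cfsg.Agent.ChevalleyStructure.E6Min.Expand

/-!
# The root elements `1 + t N_r` preserve the cubic form (roots 54 to 71)
-/

set_option autoImplicit false

namespace Cfsg.Agent.ChevalleyStructure.E6Min.Inv4

open Cfsg.Lie Cfsg.Agent.ChevalleyStructure.E6Min.Tables Cfsg.Agent.ChevalleyStructure.E6Min.Basic
  Cfsg.Agent.ChevalleyStructure.E6Min.Expand

theorem inv_54 {F : Type*} [CommRing F] (t : F) (v : I27 → F) : cubicT (zv 54 t v) = cubicT v := by
  have h0 : zv 54 t v (0, 0, 0) = v (0, 0, 0) := by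
    rw [zv_def, show sg 54 (0, 0, 0) = 0 from by decide +kernel]; simp
  have h1 : zv 54 t v (0, 0, 1) = v (0, 0, 1) := by
    rw [zv_def, show sg 54 (0, 0, 1) = 0 from by decide +kernel]; simp
  have h2 : zv 54 t v (0, 0, 2) = v (0, 0, 2) := by
    rw [zv_def, show sg 54 (0, 0, 2) = 0 from by decide +kernel]; simp
  have h3 : zv 54 t v (0, 1, 0) = v (0, 1, 0) := by
    rw [zv_def, show sg 54 (0, 1, 0) = 0 from by decide +kernel]; simp
  have h4 : zv 54 t v (0, 1, 1) = v (0, 1, 1) + t * v (2, 0, 2) := by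
    rw [zv_def, show sg 54 (0, 1, 1) = 1 from by decide +kernel, show sr 54 (0, 1, 1) = (2, 0, 2) from by decide +kernel]; simp
  have h5 : zv 54 t v (0, 1, 2) = v (0, 1, 2) := by
    rw [zv_def, show sg 54 (0, 1, 2) = 0 from by decide +kernel]; simp
  have h6 : zv 54 t v (0, 2, 0) = v (0, 2, 0) := by
    rw [zv_def, show sg 54 (0, 2, 0) = 0 from by decide +kernel]; simp
  have h7 : zv 54 t v (0, 2, 1) = v (0, 2, 1) - t * v (2, 0, 1) := by
    rw [zv_def, show sg 54 (0, 2, 1) = -1 from by decide +kernel, show sr 54 (0, 2, 1) = (2, 0, 1) from by decide +kernel]; push_cast; ring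
  have h8 : zv 54 t v (0, 2, 2) = v (0, 2, 2) := by
    rw [zv_def, show sg 54 (0, 2, 2) = 0 from by decide +kernel]; simp
  have h9 : zv 54 t v (1, 0, 0) = v (1, 0, 0) - t * v (0, 0, 2) := by
    rw [zv_def, show sg 54 (1, 0, 0) = -1 from by decide +kernel, show sr 54 (1, 0, 0) = (0, 0, 2) from by decide +kernel]; push_cast; ring
  have h10 : zv 54 t v (1, 0, 1) = v (1, 0, 1) := by
    rw [zv_def, show sg 54 (1, 0, 1) = 0 from by decide +kernel]; simp
  have h11 : zv 54 t v (1, 0, 2) = v (1, 0, 2) := by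
    rw [zv_def, show sg 54 (1, 0, 2) = 0 from by decide +kernel]; simp
  have h12 : zv 54 t v (1, 1, 0) = v (1, 1, 0) := by
    rw [zv_def, show sg 54 (1, 1, 0) = 0 from by decide +kernel]; simp
  have h13 : zv 54 t v (1, 1, 1) = v (1, 1, 1) := by
    rw [zv_def, show sg 54 (1, 1, 1) = 0 from by decide +kernel]; simp
  have h14 : zv 54 t v (1, 1, 2) = v (1, 1, 2) := by
    rw [zv_def, show sg 54 (1, 1, 2) = 0 from by decide +kernel]; simp
  have h15 : zv 54 t v (1, 2, 0) = v (1, 2, 0) + t * v (0, 0, 0) := by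
    rw [zv_def, show sg 54 (1, 2, 0) = 1 from by decide +kernel, show sr 54 (1, 2, 0) = (0, 0, 0) from by decide +kernel]; simp
  have h16 : zv 54 t v (1, 2, 1) = v (1, 2, 1) := by
    rw [zv_def, show sg 54 (1, 2, 1) = 0 from by decide +kernel]; simp
  have h17 : zv 54 t v (1, 2, 2) = v (1, 2, 2) := by
    rw [zv_def, show sg 54 (1, 2, 2) = 0 from by decide +kernel]; simp
  have h18 : zv 54 t v (2, 0, 0) = v (2, 0, 0) := by
    rw [zv_def, show sg 54 (2, 0, 0) = 0 from by decide +kernel]; simp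
  have h19 : zv 54 t v (2, 0, 1) = v (2, 0, 1) := by
    rw [zv_def, show sg 54 (2, 0, 1) = 0 from by decide +kernel]; simp
  have h20 : zv 54 t v (2, 0, 2) = v (2, 0, 2) := by
    rw [zv_def, show sg 54 (2, 0, 2) = 0 from by decide +kernel]; simp
  have h21 : zv 54 t v (2, 1, 0) = v (2, 1, 0) + t * v (1, 1, 2) := by
    rw [zv_def, show sg 54 (2, 1, 0) = 1 from by decide +kernel, show sr 54 (2, 1, 0) = (1, 1, 2) from by decide +kernel]; simp
  have h22 : zv 54 t v (2, 1, 1) = v (2, 1, 1) := by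
    rw [zv_def, show sg 54 (2, 1, 1) = 0 from by decide +kernel]; simp
  have h23 : zv 54 t v (2, 1, 2) = v (2, 1, 2) := by
    rw [zv_def, show sg 54 (2, 1, 2) = 0 from by decide +kernel]; simp
  have h24 : zv 54 t v (2, 2, 0) = v (2, 2, 0) - t * v (1, 1, 1) := by
    rw [zv_def, show sg 54 (2, 2, 0) = -1 from by decide +kernel, show sr 54 (2, 2, 0) = (1, 1, 1) from by decide +kernel]; push_cast; ring
  have h25 : zv 54 t v (2, 2, 1) = v (2, 2, 1) := by
    rw [zv_def, show sg 54 (2, 2, 1) = 0 from by decide +kernel]; simp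
  have h26 : zv 54 t v (2, 2, 2) = v (2, 2, 2) := by
    rw [zv_def, show sg 54 (2, 2, 2) = 0 from by decide +kernel]; simp
  rw [cubicT_expand, cubicT_expand]
  simp only [h0, h1, h2, h3, h4, h5, h6, h7, h8, h9, h10, h11, h12, h13, h14, h15, h16, h17, h18, h19, h20, h21, h22, h23, h24, h25, h26]
  ring

theorem inv_55 {F : Type*} [CommRing F] (t : F) (v : I27 → F) : cubicT (zv 55 t v) = cubicT v := by
  have h0 : zv 55 t v (0, 0, 0) = v (0, 0, 0) := by
    rw [zv_def, show sg 55 (0, 0, 0) = 0 from by decide +kernel]; simp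
  have h1 : zv 55 t v (0, 0, 1) = v (0, 0, 1) := by
    rw [zv_def, show sg 55 (0, 0, 1) = 0 from by decide +kernel]; simp
  have h2 : zv 55 t v (0, 0, 2) = v (0, 0, 2) := by
    rw [zv_def, show sg 55 (0, 0, 2) = 0 from by decide +kernel]; simp
  have h3 : zv 55 t v (0, 1, 0) = v (0, 1, 0) := by
    rw [zv_def, show sg 55 (0, 1, 0) = 0 from by decide +kernel]; simp
  have h4 : zv 55 t v (0, 1, 1) = v (0, 1, 1) := by
    rw [zv_def, show sg 55 (0, 1, 1) = 0 from by decide +kernel]; simp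
  have h5 : zv 55 t v (0, 1, 2) = v (0, 1, 2) + t * v (2, 0, 2) := by
    rw [zv_def, show sg 55 (0, 1, 2) = 1 from by decide +kernel, show sr 55 (0, 1, 2) = (2, 0, 2) from by decide +kernel]; simp
  have h6 : zv 55 t v (0, 2, 0) = v (0, 2, 0) := by
    rw [zv_def, show sg 55 (0, 2, 0) = 0 from by decide +kernel]; simp
  have h7 : zv 55 t v (0, 2, 1) = v (0, 2, 1) := by
    rw [zv_def, show sg 55 (0, 2, 1) = 0 from by decide +kernel]; simp
  have h8 : zv 55 t v (0, 2, 2) = v (0, 2, 2) - t * v (2, 0, 1) := by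
    rw [zv_def, show sg 55 (0, 2, 2) = -1 from by decide +kernel, show sr 55 (0, 2, 2) = (2, 0, 1) from by decide +kernel]; push_cast; ring
  have h9 : zv 55 t v (1, 0, 0) = v (1, 0, 0) + t * v (0, 0, 1) := by
    rw [zv_def, show sg 55 (1, 0, 0) = 1 from by decide +kernel, show sr 55 (1, 0, 0) = (0, 0, 1) from by decide +kernel]; simp
  have h10 : zv 55 t v (1, 0, 1) = v (1, 0, 1) := by
    rw [zv_def, show sg 55 (1, 0, 1) = 0 from by decide +kernel]; simp
  have h11 : zv 55 t v (1, 0, 2) = v (1, 0, 2) := by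
    rw [zv_def, show sg 55 (1, 0, 2) = 0 from by decide +kernel]; simp
  have h12 : zv 55 t v (1, 1, 0) = v (1, 1, 0) - t * v (0, 0, 0) := by
    rw [zv_def, show sg 55 (1, 1, 0) = -1 from by decide +kernel, show sr 55 (1, 1, 0) = (0, 0, 0) from by decide +kernel]; push_cast; ring
  have h13 : zv 55 t v (1, 1, 1) = v (1, 1, 1) := by
    rw [zv_def, show sg 55 (1, 1, 1) = 0 from by decide +kernel]; simp
  have h14 : zv 55 t v (1, 1, 2) = v (1, 1, 2) := by
    rw [zv_def, show sg 55 (1, 1, 2) = 0 from by decide +kernel]; simp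
  have h15 : zv 55 t v (1, 2, 0) = v (1, 2, 0) := by
    rw [zv_def, show sg 55 (1, 2, 0) = 0 from by decide +kernel]; simp
  have h16 : zv 55 t v (1, 2, 1) = v (1, 2, 1) := by
    rw [zv_def, show sg 55 (1, 2, 1) = 0 from by decide +kernel]; simp
  have h17 : zv 55 t v (1, 2, 2) = v (1, 2, 2) := by
    rw [zv_def, show sg 55 (1, 2, 2) = 0 from by decide +kernel]; simp
  have h18 : zv 55 t v (2, 0, 0) = v (2, 0, 0) := by
    rw [zv_def, show sg 55 (2, 0, 0) = 0 from by decide +kernel]; simp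
  have h19 : zv 55 t v (2, 0, 1) = v (2, 0, 1) := by
    rw [zv_def, show sg 55 (2, 0, 1) = 0 from by decide +kernel]; simp
  have h20 : zv 55 t v (2, 0, 2) = v (2, 0, 2) := by
    rw [zv_def, show sg 55 (2, 0, 2) = 0 from by decide +kernel]; simp
  have h21 : zv 55 t v (2, 1, 0) = v (2, 1, 0) + t * v (1, 2, 2) := by
    rw [zv_def, show sg 55 (2, 1, 0) = 1 from by decide +kernel, show sr 55 (2, 1, 0) = (1, 2, 2) from by decide +kernel]; simp
  have h22 : zv 55 t v (2, 1, 1) = v (2, 1, 1) := by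
    rw [zv_def, show sg 55 (2, 1, 1) = 0 from by decide +kernel]; simp
  have h23 : zv 55 t v (2, 1, 2) = v (2, 1, 2) := by
    rw [zv_def, show sg 55 (2, 1, 2) = 0 from by decide +kernel]; simp
  have h24 : zv 55 t v (2, 2, 0) = v (2, 2, 0) - t * v (1, 2, 1) := by
    rw [zv_def, show sg 55 (2, 2, 0) = -1 from by decide +kernel, show sr 55 (2, 2, 0) = (1, 2, 1) from by decide +kernel]; push_cast; ring
  have h25 : zv 55 t v (2, 2, 1) = v (2, 2, 1) := by
    rw [zv_def, show sg 55 (2, 2, 1) = 0 from by decide +kernel]; simp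
  have h26 : zv 55 t v (2, 2, 2) = v (2, 2, 2) := by
    rw [zv_def, show sg 55 (2, 2, 2) = 0 from by decide +kernel]; simp
  rw [cubicT_expand, cubicT_expand]
  simp only [h0, h1, h2, h3, h4, h5, h6, h7, h8, h9, h10, h11, h12, h13, h14, h15, h16, h17, h18, h19, h20, h21, h22, h23, h24, h25, h26]
  ring

theorem inv_56 {F : Type*} [CommRing F] (t : F) (v : I27 → F) : cubicT (zv 56 t v) = cubicT v := by
  have h0 : zv 56 t v (0, 0, 0) = v (0, 0, 0) + t * v (0, 1, 0) := by
    rw [zv_def, show sg 56 (0, 0, 0) = 1 from by decide +kernel, show sr 56 (0, 0, 0) = (0, 1, 0) from by decide +kernel]; simp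
  have h1 : zv 56 t v (0, 0, 1) = v (0, 0, 1) + t * v (0, 1, 1) := by
    rw [zv_def, show sg 56 (0, 0, 1) = 1 from by decide +kernel, show sr 56 (0, 0, 1) = (0, 1, 1) from by decide +kernel]; simp
  have h2 : zv 56 t v (0, 0, 2) = v (0, 0, 2) + t * v (0, 1, 2) := by
    rw [zv_def, show sg 56 (0, 0, 2) = 1 from by decide +kernel, show sr 56 (0, 0, 2) = (0, 1, 2) from by decide +kernel]; simp
  have h3 : zv 56 t v (0, 1, 0) = v (0, 1, 0) := by
    rw [zv_def, show sg 56 (0, 1, 0) = 0 from by decide +kernel]; simp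
  have h4 : zv 56 t v (0, 1, 1) = v (0, 1, 1) := by
    rw [zv_def, show sg 56 (0, 1, 1) = 0 from by decide +kernel]; simp
  have h5 : zv 56 t v (0, 1, 2) = v (0, 1, 2) := by
    rw [zv_def, show sg 56 (0, 1, 2) = 0 from by decide +kernel]; simp
  have h6 : zv 56 t v (0, 2, 0) = v (0, 2, 0) := by
    rw [zv_def, show sg 56 (0, 2, 0) = 0 from by decide +kernel]; simp
  have h7 : zv 56 t v (0, 2, 1) = v (0, 2, 1) := by
    rw [zv_def, show sg 56 (0, 2, 1) = 0 from by decide +kernel]; simp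
  have h8 : zv 56 t v (0, 2, 2) = v (0, 2, 2) := by
    rw [zv_def, show sg 56 (0, 2, 2) = 0 from by decide +kernel]; simp
  have h9 : zv 56 t v (1, 0, 0) = v (1, 0, 0) := by
    rw [zv_def, show sg 56 (1, 0, 0) = 0 from by decide +kernel]; simp
  have h10 : zv 56 t v (1, 0, 1) = v (1, 0, 1) := by
    rw [zv_def, show sg 56 (1, 0, 1) = 0 from by decide +kernel]; simp
  have h11 : zv 56 t v (1, 0, 2) = v (1, 0, 2) := by
    rw [zv_def, show sg 56 (1, 0, 2) = 0 from by decide +kernel]; simp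
  have h12 : zv 56 t v (1, 1, 0) = v (1, 1, 0) := by
    rw [zv_def, show sg 56 (1, 1, 0) = 0 from by decide +kernel]; simp
  have h13 : zv 56 t v (1, 1, 1) = v (1, 1, 1) := by
    rw [zv_def, show sg 56 (1, 1, 1) = 0 from by decide +kernel]; simp
  have h14 : zv 56 t v (1, 1, 2) = v (1, 1, 2) := by
    rw [zv_def, show sg 56 (1, 1, 2) = 0 from by decide +kernel]; simp
  have h15 : zv 56 t v (1, 2, 0) = v (1, 2, 0) := by
    rw [zv_def, show sg 56 (1, 2, 0) = 0 from by decide +kernel]; simp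
  have h16 : zv 56 t v (1, 2, 1) = v (1, 2, 1) := by
    rw [zv_def, show sg 56 (1, 2, 1) = 0 from by decide +kernel]; simp
  have h17 : zv 56 t v (1, 2, 2) = v (1, 2, 2) := by
    rw [zv_def, show sg 56 (1, 2, 2) = 0 from by decide +kernel]; simp
  have h18 : zv 56 t v (2, 0, 0) = v (2, 0, 0) := by
    rw [zv_def, show sg 56 (2, 0, 0) = 0 from by decide +kernel]; simp
  have h19 : zv 56 t v (2, 0, 1) = v (2, 0, 1) - t * v (2, 0, 0) := by
    rw [zv_def, show sg 56 (2, 0, 1) = -1 from by decide +kernel, show sr 56 (2, 0, 1) = (2, 0, 0) from by decide +kernel]; push_cast; ring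
  have h20 : zv 56 t v (2, 0, 2) = v (2, 0, 2) := by
    rw [zv_def, show sg 56 (2, 0, 2) = 0 from by decide +kernel]; simp
  have h21 : zv 56 t v (2, 1, 0) = v (2, 1, 0) := by
    rw [zv_def, show sg 56 (2, 1, 0) = 0 from by decide +kernel]; simp
  have h22 : zv 56 t v (2, 1, 1) = v (2, 1, 1) - t * v (2, 1, 0) := by
    rw [zv_def, show sg 56 (2, 1, 1) = -1 from by decide +kernel, show sr 56 (2, 1, 1) = (2, 1, 0) from by decide +kernel]; push_cast; ring
  have h23 : zv 56 t v (2, 1, 2) = v (2, 1, 2) := by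
    rw [zv_def, show sg 56 (2, 1, 2) = 0 from by decide +kernel]; simp
  have h24 : zv 56 t v (2, 2, 0) = v (2, 2, 0) := by
    rw [zv_def, show sg 56 (2, 2, 0) = 0 from by decide +kernel]; simp
  have h25 : zv 56 t v (2, 2, 1) = v (2, 2, 1) - t * v (2, 2, 0) := by
    rw [zv_def, show sg 56 (2, 2, 1) = -1 from by decide +kernel, show sr 56 (2, 2, 1) = (2, 2, 0) from by decide +kernel]; push_cast; ring
  have h26 : zv 56 t v (2, 2, 2) = v (2, 2, 2) := by
    rw [zv_def, show sg 56 (2, 2, 2) = 0 from by decide +kernel]; simp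
  rw [cubicT_expand, cubicT_expand]
  simp only [h0, h1, h2, h3, h4, h5, h6, h7, h8, h9, h10, h11, h12, h13, h14, h15, h16, h17, h18, h19, h20, h21, h22, h23, h24, h25, h26]
  ring

theorem inv_57 {F : Type*} [CommRing F] (t : F) (v : I27 → F) : cubicT (zv 57 t v) = cubicT v := by
  have h0 : zv 57 t v (0, 0, 0) = v (0, 0, 0) - t * v (0, 2, 0) := by
    rw [zv_def, show sg 57 (0, 0, 0) = -1 from by decide +kernel, show sr 57 (0, 0, 0) = (0, 2, 0) from by decide +kernel]; push_cast; ring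
  have h1 : zv 57 t v (0, 0, 1) = v (0, 0, 1) - t * v (0, 2, 1) := by
    rw [zv_def, show sg 57 (0, 0, 1) = -1 from by decide +kernel, show sr 57 (0, 0, 1) = (0, 2, 1) from by decide +kernel]; push_cast; ring
  have h2 : zv 57 t v (0, 0, 2) = v (0, 0, 2) - t * v (0, 2, 2) := by
    rw [zv_def, show sg 57 (0, 0, 2) = -1 from by decide +kernel, show sr 57 (0, 0, 2) = (0, 2, 2) from by decide +kernel]; push_cast; ring
  have h3 : zv 57 t v (0, 1, 0) = v (0, 1, 0) := by
    rw [zv_def, show sg 57 (0, 1, 0) = 0 from by decide +kernel]; simp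
  have h4 : zv 57 t v (0, 1, 1) = v (0, 1, 1) := by
    rw [zv_def, show sg 57 (0, 1, 1) = 0 from by decide +kernel]; simp
  have h5 : zv 57 t v (0, 1, 2) = v (0, 1, 2) := by
    rw [zv_def, show sg 57 (0, 1, 2) = 0 from by decide +kernel]; simp
  have h6 : zv 57 t v (0, 2, 0) = v (0, 2, 0) := by
    rw [zv_def, show sg 57 (0, 2, 0) = 0 from by decide +kernel]; simp
  have h7 : zv 57 t v (0, 2, 1) = v (0, 2, 1) := by
    rw [zv_def, show sg 57 (0, 2, 1) = 0 from by decide +kernel]; simp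
  have h8 : zv 57 t v (0, 2, 2) = v (0, 2, 2) := by
    rw [zv_def, show sg 57 (0, 2, 2) = 0 from by decide +kernel]; simp
  have h9 : zv 57 t v (1, 0, 0) = v (1, 0, 0) := by
    rw [zv_def, show sg 57 (1, 0, 0) = 0 from by decide +kernel]; simp
  have h10 : zv 57 t v (1, 0, 1) = v (1, 0, 1) := by
    rw [zv_def, show sg 57 (1, 0, 1) = 0 from by decide +kernel]; simp
  have h11 : zv 57 t v (1, 0, 2) = v (1, 0, 2) := by
    rw [zv_def, show sg 57 (1, 0, 2) = 0 from by decide +kernel]; simp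
  have h12 : zv 57 t v (1, 1, 0) = v (1, 1, 0) := by
    rw [zv_def, show sg 57 (1, 1, 0) = 0 from by decide +kernel]; simp
  have h13 : zv 57 t v (1, 1, 1) = v (1, 1, 1) := by
    rw [zv_def, show sg 57 (1, 1, 1) = 0 from by decide +kernel]; simp
  have h14 : zv 57 t v (1, 1, 2) = v (1, 1, 2) := by
    rw [zv_def, show sg 57 (1, 1, 2) = 0 from by decide +kernel]; simp
  have h15 : zv 57 t v (1, 2, 0) = v (1, 2, 0) := by
    rw [zv_def, show sg 57 (1, 2, 0) = 0 from by decide +kernel]; simp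
  have h16 : zv 57 t v (1, 2, 1) = v (1, 2, 1) := by
    rw [zv_def, show sg 57 (1, 2, 1) = 0 from by decide +kernel]; simp
  have h17 : zv 57 t v (1, 2, 2) = v (1, 2, 2) := by
    rw [zv_def, show sg 57 (1, 2, 2) = 0 from by decide +kernel]; simp
  have h18 : zv 57 t v (2, 0, 0) = v (2, 0, 0) := by
    rw [zv_def, show sg 57 (2, 0, 0) = 0 from by decide +kernel]; simp
  have h19 : zv 57 t v (2, 0, 1) = v (2, 0, 1) := by
    rw [zv_def, show sg 57 (2, 0, 1) = 0 from by decide +kernel]; simp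
  have h20 : zv 57 t v (2, 0, 2) = v (2, 0, 2) + t * v (2, 0, 0) := by
    rw [zv_def, show sg 57 (2, 0, 2) = 1 from by decide +kernel, show sr 57 (2, 0, 2) = (2, 0, 0) from by decide +kernel]; simp
  have h21 : zv 57 t v (2, 1, 0) = v (2, 1, 0) := by
    rw [zv_def, show sg 57 (2, 1, 0) = 0 from by decide +kernel]; simp
  have h22 : zv 57 t v (2, 1, 1) = v (2, 1, 1) := by
    rw [zv_def, show sg 57 (2, 1, 1) = 0 from by decide +kernel]; simp
  have h23 : zv 57 t v (2, 1, 2) = v (2, 1, 2) + t * v (2, 1, 0) := by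
    rw [zv_def, show sg 57 (2, 1, 2) = 1 from by decide +kernel, show sr 57 (2, 1, 2) = (2, 1, 0) from by decide +kernel]; simp
  have h24 : zv 57 t v (2, 2, 0) = v (2, 2, 0) := by
    rw [zv_def, show sg 57 (2, 2, 0) = 0 from by decide +kernel]; simp
  have h25 : zv 57 t v (2, 2, 1) = v (2, 2, 1) := by
    rw [zv_def, show sg 57 (2, 2, 1) = 0 from by decide +kernel]; simp
  have h26 : zv 57 t v (2, 2, 2) = v (2, 2, 2) + t * v (2, 2, 0) := by
    rw [zv_def, show sg 57 (2, 2, 2) = 1 from by decide +kernel, show sr 57 (2, 2, 2) = (2, 2, 0) from by decide +kernel]; simp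
  rw [cubicT_expand, cubicT_expand]
  simp only [h0, h1, h2, h3, h4, h5, h6, h7, h8, h9, h10, h11, h12, h13, h14, h15, h16, h17, h18, h19, h20, h21, h22, h23, h24, h25, h26]
  ring

theorem inv_58 {F : Type*} [CommRing F] (t : F) (v : I27 → F) : cubicT (zv 58 t v) = cubicT v := by
  have h0 : zv 58 t v (0, 0, 0) = v (0, 0, 0) - t * v (1, 1, 2) := by
    rw [zv_def, show sg 58 (0, 0, 0) = -1 from by decide +kernel, show sr 58 (0, 0, 0) = (1, 1, 2) from by decide +kernel]; push_cast; ring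
  have h1 : zv 58 t v (0, 0, 1) = v (0, 0, 1) + t * v (1, 0, 2) := by
    rw [zv_def, show sg 58 (0, 0, 1) = 1 from by decide +kernel, show sr 58 (0, 0, 1) = (1, 0, 2) from by decide +kernel]; simp
  have h2 : zv 58 t v (0, 0, 2) = v (0, 0, 2) := by
    rw [zv_def, show sg 58 (0, 0, 2) = 0 from by decide +kernel]; simp
  have h3 : zv 58 t v (0, 1, 0) = v (0, 1, 0) := by
    rw [zv_def, show sg 58 (0, 1, 0) = 0 from by decide +kernel]; simp
  have h4 : zv 58 t v (0, 1, 1) = v (0, 1, 1) := by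
    rw [zv_def, show sg 58 (0, 1, 1) = 0 from by decide +kernel]; simp
  have h5 : zv 58 t v (0, 1, 2) = v (0, 1, 2) := by
    rw [zv_def, show sg 58 (0, 1, 2) = 0 from by decide +kernel]; simp
  have h6 : zv 58 t v (0, 2, 0) = v (0, 2, 0) := by
    rw [zv_def, show sg 58 (0, 2, 0) = 0 from by decide +kernel]; simp
  have h7 : zv 58 t v (0, 2, 1) = v (0, 2, 1) := by
    rw [zv_def, show sg 58 (0, 2, 1) = 0 from by decide +kernel]; simp
  have h8 : zv 58 t v (0, 2, 2) = v (0, 2, 2) := by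
    rw [zv_def, show sg 58 (0, 2, 2) = 0 from by decide +kernel]; simp
  have h9 : zv 58 t v (1, 0, 0) = v (1, 0, 0) := by
    rw [zv_def, show sg 58 (1, 0, 0) = 0 from by decide +kernel]; simp
  have h10 : zv 58 t v (1, 0, 1) = v (1, 0, 1) := by
    rw [zv_def, show sg 58 (1, 0, 1) = 0 from by decide +kernel]; simp
  have h11 : zv 58 t v (1, 0, 2) = v (1, 0, 2) := by
    rw [zv_def, show sg 58 (1, 0, 2) = 0 from by decide +kernel]; simp
  have h12 : zv 58 t v (1, 1, 0) = v (1, 1, 0) := by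
    rw [zv_def, show sg 58 (1, 1, 0) = 0 from by decide +kernel]; simp
  have h13 : zv 58 t v (1, 1, 1) = v (1, 1, 1) := by
    rw [zv_def, show sg 58 (1, 1, 1) = 0 from by decide +kernel]; simp
  have h14 : zv 58 t v (1, 1, 2) = v (1, 1, 2) := by
    rw [zv_def, show sg 58 (1, 1, 2) = 0 from by decide +kernel]; simp
  have h15 : zv 58 t v (1, 2, 0) = v (1, 2, 0) - t * v (2, 1, 0) := by
    rw [zv_def, show sg 58 (1, 2, 0) = -1 from by decide +kernel, show sr 58 (1, 2, 0) = (2, 1, 0) from by decide +kernel]; push_cast; ring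
  have h16 : zv 58 t v (1, 2, 1) = v (1, 2, 1) + t * v (2, 0, 0) := by
    rw [zv_def, show sg 58 (1, 2, 1) = 1 from by decide +kernel, show sr 58 (1, 2, 1) = (2, 0, 0) from by decide +kernel]; simp
  have h17 : zv 58 t v (1, 2, 2) = v (1, 2, 2) := by
    rw [zv_def, show sg 58 (1, 2, 2) = 0 from by decide +kernel]; simp
  have h18 : zv 58 t v (2, 0, 0) = v (2, 0, 0) := by
    rw [zv_def, show sg 58 (2, 0, 0) = 0 from by decide +kernel]; simp
  have h19 : zv 58 t v (2, 0, 1) = v (2, 0, 1) := by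
    rw [zv_def, show sg 58 (2, 0, 1) = 0 from by decide +kernel]; simp
  have h20 : zv 58 t v (2, 0, 2) = v (2, 0, 2) := by
    rw [zv_def, show sg 58 (2, 0, 2) = 0 from by decide +kernel]; simp
  have h21 : zv 58 t v (2, 1, 0) = v (2, 1, 0) := by
    rw [zv_def, show sg 58 (2, 1, 0) = 0 from by decide +kernel]; simp
  have h22 : zv 58 t v (2, 1, 1) = v (2, 1, 1) := by
    rw [zv_def, show sg 58 (2, 1, 1) = 0 from by decide +kernel]; simp
  have h23 : zv 58 t v (2, 1, 2) = v (2, 1, 2) := by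
    rw [zv_def, show sg 58 (2, 1, 2) = 0 from by decide +kernel]; simp
  have h24 : zv 58 t v (2, 2, 0) = v (2, 2, 0) := by
    rw [zv_def, show sg 58 (2, 2, 0) = 0 from by decide +kernel]; simp
  have h25 : zv 58 t v (2, 2, 1) = v (2, 2, 1) - t * v (0, 2, 2) := by
    rw [zv_def, show sg 58 (2, 2, 1) = -1 from by decide +kernel, show sr 58 (2, 2, 1) = (0, 2, 2) from by decide +kernel]; push_cast; ring
  have h26 : zv 58 t v (2, 2, 2) = v (2, 2, 2) + t * v (0, 1, 2) := by
    rw [zv_def, show sg 58 (2, 2, 2) = 1 from by decide +kernel, show sr 58 (2, 2, 2) = (0, 1, 2) from by decide +kernel]; simp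
  rw [cubicT_expand, cubicT_expand]
  simp only [h0, h1, h2, h3, h4, h5, h6, h7, h8, h9, h10, h11, h12, h13, h14, h15, h16, h17, h18, h19, h20, h21, h22, h23, h24, h25, h26]
  ring

theorem inv_59 {F : Type*} [CommRing F] (t : F) (v : I27 → F) : cubicT (zv 59 t v) = cubicT v := by
  have h0 : zv 59 t v (0, 0, 0) = v (0, 0, 0) - t * v (1, 2, 2) := by
    rw [zv_def, show sg 59 (0, 0, 0) = -1 from by decide +kernel, show sr 59 (0, 0, 0) = (1, 2, 2) from by decide +kernel]; push_cast; ring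
  have h1 : zv 59 t v (0, 0, 1) = v (0, 0, 1) := by
    rw [zv_def, show sg 59 (0, 0, 1) = 0 from by decide +kernel]; simp
  have h2 : zv 59 t v (0, 0, 2) = v (0, 0, 2) + t * v (1, 0, 2) := by
    rw [zv_def, show sg 59 (0, 0, 2) = 1 from by decide +kernel, show sr 59 (0, 0, 2) = (1, 0, 2) from by decide +kernel]; simp
  have h3 : zv 59 t v (0, 1, 0) = v (0, 1, 0) := by
    rw [zv_def, show sg 59 (0, 1, 0) = 0 from by decide +kernel]; simp
  have h4 : zv 59 t v (0, 1, 1) = v (0, 1, 1) := by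
    rw [zv_def, show sg 59 (0, 1, 1) = 0 from by decide +kernel]; simp
  have h5 : zv 59 t v (0, 1, 2) = v (0, 1, 2) := by
    rw [zv_def, show sg 59 (0, 1, 2) = 0 from by decide +kernel]; simp
  have h6 : zv 59 t v (0, 2, 0) = v (0, 2, 0) := by
    rw [zv_def, show sg 59 (0, 2, 0) = 0 from by decide +kernel]; simp
  have h7 : zv 59 t v (0, 2, 1) = v (0, 2, 1) := by
    rw [zv_def, show sg 59 (0, 2, 1) = 0 from by decide +kernel]; simp
  have h8 : zv 59 t v (0, 2, 2) = v (0, 2, 2) := by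
    rw [zv_def, show sg 59 (0, 2, 2) = 0 from by decide +kernel]; simp
  have h9 : zv 59 t v (1, 0, 0) = v (1, 0, 0) := by
    rw [zv_def, show sg 59 (1, 0, 0) = 0 from by decide +kernel]; simp
  have h10 : zv 59 t v (1, 0, 1) = v (1, 0, 1) := by
    rw [zv_def, show sg 59 (1, 0, 1) = 0 from by decide +kernel]; simp
  have h11 : zv 59 t v (1, 0, 2) = v (1, 0, 2) := by
    rw [zv_def, show sg 59 (1, 0, 2) = 0 from by decide +kernel]; simp
  have h12 : zv 59 t v (1, 1, 0) = v (1, 1, 0) + t * v (2, 1, 0) := by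
    rw [zv_def, show sg 59 (1, 1, 0) = 1 from by decide +kernel, show sr 59 (1, 1, 0) = (2, 1, 0) from by decide +kernel]; simp
  have h13 : zv 59 t v (1, 1, 1) = v (1, 1, 1) - t * v (2, 0, 0) := by
    rw [zv_def, show sg 59 (1, 1, 1) = -1 from by decide +kernel, show sr 59 (1, 1, 1) = (2, 0, 0) from by decide +kernel]; push_cast; ring
  have h14 : zv 59 t v (1, 1, 2) = v (1, 1, 2) := by
    rw [zv_def, show sg 59 (1, 1, 2) = 0 from by decide +kernel]; simp
  have h15 : zv 59 t v (1, 2, 0) = v (1, 2, 0) := by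
    rw [zv_def, show sg 59 (1, 2, 0) = 0 from by decide +kernel]; simp
  have h16 : zv 59 t v (1, 2, 1) = v (1, 2, 1) := by
    rw [zv_def, show sg 59 (1, 2, 1) = 0 from by decide +kernel]; simp
  have h17 : zv 59 t v (1, 2, 2) = v (1, 2, 2) := by
    rw [zv_def, show sg 59 (1, 2, 2) = 0 from by decide +kernel]; simp
  have h18 : zv 59 t v (2, 0, 0) = v (2, 0, 0) := by
    rw [zv_def, show sg 59 (2, 0, 0) = 0 from by decide +kernel]; simp
  have h19 : zv 59 t v (2, 0, 1) = v (2, 0, 1) := by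
    rw [zv_def, show sg 59 (2, 0, 1) = 0 from by decide +kernel]; simp
  have h20 : zv 59 t v (2, 0, 2) = v (2, 0, 2) := by
    rw [zv_def, show sg 59 (2, 0, 2) = 0 from by decide +kernel]; simp
  have h21 : zv 59 t v (2, 1, 0) = v (2, 1, 0) := by
    rw [zv_def, show sg 59 (2, 1, 0) = 0 from by decide +kernel]; simp
  have h22 : zv 59 t v (2, 1, 1) = v (2, 1, 1) := by
    rw [zv_def, show sg 59 (2, 1, 1) = 0 from by decide +kernel]; simp
  have h23 : zv 59 t v (2, 1, 2) = v (2, 1, 2) := by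
    rw [zv_def, show sg 59 (2, 1, 2) = 0 from by decide +kernel]; simp
  have h24 : zv 59 t v (2, 2, 0) = v (2, 2, 0) := by
    rw [zv_def, show sg 59 (2, 2, 0) = 0 from by decide +kernel]; simp
  have h25 : zv 59 t v (2, 2, 1) = v (2, 2, 1) + t * v (0, 2, 1) := by
    rw [zv_def, show sg 59 (2, 2, 1) = 1 from by decide +kernel, show sr 59 (2, 2, 1) = (0, 2, 1) from by decide +kernel]; simp
  have h26 : zv 59 t v (2, 2, 2) = v (2, 2, 2) - t * v (0, 1, 1) := by
    rw [zv_def, show sg 59 (2, 2, 2) = -1 from by decide +kernel, show sr 59 (2, 2, 2) = (0, 1, 1) from by decide +kernel]; push_cast; ring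
  rw [cubicT_expand, cubicT_expand]
  simp only [h0, h1, h2, h3, h4, h5, h6, h7, h8, h9, h10, h11, h12, h13, h14, h15, h16, h17, h18, h19, h20, h21, h22, h23, h24, h25, h26]
  ring

theorem inv_60 {F : Type*} [CommRing F] (t : F) (v : I27 → F) : cubicT (zv 60 t v) = cubicT v := by
  have h0 : zv 60 t v (0, 0, 0) = v (0, 0, 0) := by
    rw [zv_def, show sg 60 (0, 0, 0) = 0 from by decide +kernel]; simp
  have h1 : zv 60 t v (0, 0, 1) = v (0, 0, 1) - t * v (1, 2, 2) := by
    rw [zv_def, show sg 60 (0, 0, 1) = -1 from by decide +kernel, show sr 60 (0, 0, 1) = (1, 2, 2) from by decide +kernel]; push_cast; ring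
  have h2 : zv 60 t v (0, 0, 2) = v (0, 0, 2) + t * v (1, 1, 2) := by
    rw [zv_def, show sg 60 (0, 0, 2) = 1 from by decide +kernel, show sr 60 (0, 0, 2) = (1, 1, 2) from by decide +kernel]; simp
  have h3 : zv 60 t v (0, 1, 0) = v (0, 1, 0) := by
    rw [zv_def, show sg 60 (0, 1, 0) = 0 from by decide +kernel]; simp
  have h4 : zv 60 t v (0, 1, 1) = v (0, 1, 1) := by
    rw [zv_def, show sg 60 (0, 1, 1) = 0 from by decide +kernel]; simp
  have h5 : zv 60 t v (0, 1, 2) = v (0, 1, 2) := by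
    rw [zv_def, show sg 60 (0, 1, 2) = 0 from by decide +kernel]; simp
  have h6 : zv 60 t v (0, 2, 0) = v (0, 2, 0) := by
    rw [zv_def, show sg 60 (0, 2, 0) = 0 from by decide +kernel]; simp
  have h7 : zv 60 t v (0, 2, 1) = v (0, 2, 1) := by
    rw [zv_def, show sg 60 (0, 2, 1) = 0 from by decide +kernel]; simp
  have h8 : zv 60 t v (0, 2, 2) = v (0, 2, 2) := by
    rw [zv_def, show sg 60 (0, 2, 2) = 0 from by decide +kernel]; simp
  have h9 : zv 60 t v (1, 0, 0) = v (1, 0, 0) - t * v (2, 1, 0) := by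
    rw [zv_def, show sg 60 (1, 0, 0) = -1 from by decide +kernel, show sr 60 (1, 0, 0) = (2, 1, 0) from by decide +kernel]; push_cast; ring
  have h10 : zv 60 t v (1, 0, 1) = v (1, 0, 1) + t * v (2, 0, 0) := by
    rw [zv_def, show sg 60 (1, 0, 1) = 1 from by decide +kernel, show sr 60 (1, 0, 1) = (2, 0, 0) from by decide +kernel]; simp
  have h11 : zv 60 t v (1, 0, 2) = v (1, 0, 2) := by
    rw [zv_def, show sg 60 (1, 0, 2) = 0 from by decide +kernel]; simp
  have h12 : zv 60 t v (1, 1, 0) = v (1, 1, 0) := by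
    rw [zv_def, show sg 60 (1, 1, 0) = 0 from by decide +kernel]; simp
  have h13 : zv 60 t v (1, 1, 1) = v (1, 1, 1) := by
    rw [zv_def, show sg 60 (1, 1, 1) = 0 from by decide +kernel]; simp
  have h14 : zv 60 t v (1, 1, 2) = v (1, 1, 2) := by
    rw [zv_def, show sg 60 (1, 1, 2) = 0 from by decide +kernel]; simp
  have h15 : zv 60 t v (1, 2, 0) = v (1, 2, 0) := by
    rw [zv_def, show sg 60 (1, 2, 0) = 0 from by decide +kernel]; simp
  have h16 : zv 60 t v (1, 2, 1) = v (1, 2, 1) := by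
    rw [zv_def, show sg 60 (1, 2, 1) = 0 from by decide +kernel]; simp
  have h17 : zv 60 t v (1, 2, 2) = v (1, 2, 2) := by
    rw [zv_def, show sg 60 (1, 2, 2) = 0 from by decide +kernel]; simp
  have h18 : zv 60 t v (2, 0, 0) = v (2, 0, 0) := by
    rw [zv_def, show sg 60 (2, 0, 0) = 0 from by decide +kernel]; simp
  have h19 : zv 60 t v (2, 0, 1) = v (2, 0, 1) := by
    rw [zv_def, show sg 60 (2, 0, 1) = 0 from by decide +kernel]; simp
  have h20 : zv 60 t v (2, 0, 2) = v (2, 0, 2) := by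
    rw [zv_def, show sg 60 (2, 0, 2) = 0 from by decide +kernel]; simp
  have h21 : zv 60 t v (2, 1, 0) = v (2, 1, 0) := by
    rw [zv_def, show sg 60 (2, 1, 0) = 0 from by decide +kernel]; simp
  have h22 : zv 60 t v (2, 1, 1) = v (2, 1, 1) := by
    rw [zv_def, show sg 60 (2, 1, 1) = 0 from by decide +kernel]; simp
  have h23 : zv 60 t v (2, 1, 2) = v (2, 1, 2) := by
    rw [zv_def, show sg 60 (2, 1, 2) = 0 from by decide +kernel]; simp
  have h24 : zv 60 t v (2, 2, 0) = v (2, 2, 0) := by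
    rw [zv_def, show sg 60 (2, 2, 0) = 0 from by decide +kernel]; simp
  have h25 : zv 60 t v (2, 2, 1) = v (2, 2, 1) - t * v (0, 2, 0) := by
    rw [zv_def, show sg 60 (2, 2, 1) = -1 from by decide +kernel, show sr 60 (2, 2, 1) = (0, 2, 0) from by decide +kernel]; push_cast; ring
  have h26 : zv 60 t v (2, 2, 2) = v (2, 2, 2) + t * v (0, 1, 0) := by
    rw [zv_def, show sg 60 (2, 2, 2) = 1 from by decide +kernel, show sr 60 (2, 2, 2) = (0, 1, 0) from by decide +kernel]; simp
  rw [cubicT_expand, cubicT_expand]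
  simp only [h0, h1, h2, h3, h4, h5, h6, h7, h8, h9, h10, h11, h12, h13, h14, h15, h16, h17, h18, h19, h20, h21, h22, h23, h24, h25, h26]
  ring

theorem inv_61 {F : Type*} [CommRing F] (t : F) (v : I27 → F) : cubicT (zv 61 t v) = cubicT v := by
  have h0 : zv 61 t v (0, 0, 0) = v (0, 0, 0) + t * v (1, 1, 1) := by
    rw [zv_def, show sg 61 (0, 0, 0) = 1 from by decide +kernel, show sr 61 (0, 0, 0) = (1, 1, 1) from by decide +kernel]; simp
  have h1 : zv 61 t v (0, 0, 1) = v (0, 0, 1) - t * v (1, 0, 1) := by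
    rw [zv_def, show sg 61 (0, 0, 1) = -1 from by decide +kernel, show sr 61 (0, 0, 1) = (1, 0, 1) from by decide +kernel]; push_cast; ring
  have h2 : zv 61 t v (0, 0, 2) = v (0, 0, 2) := by
    rw [zv_def, show sg 61 (0, 0, 2) = 0 from by decide +kernel]; simp
  have h3 : zv 61 t v (0, 1, 0) = v (0, 1, 0) := by
    rw [zv_def, show sg 61 (0, 1, 0) = 0 from by decide +kernel]; simp
  have h4 : zv 61 t v (0, 1, 1) = v (0, 1, 1) := by
    rw [zv_def, show sg 61 (0, 1, 1) = 0 from by decide +kernel]; simp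
  have h5 : zv 61 t v (0, 1, 2) = v (0, 1, 2) := by
    rw [zv_def, show sg 61 (0, 1, 2) = 0 from by decide +kernel]; simp
  have h6 : zv 61 t v (0, 2, 0) = v (0, 2, 0) := by
    rw [zv_def, show sg 61 (0, 2, 0) = 0 from by decide +kernel]; simp
  have h7 : zv 61 t v (0, 2, 1) = v (0, 2, 1) := by
    rw [zv_def, show sg 61 (0, 2, 1) = 0 from by decide +kernel]; simp
  have h8 : zv 61 t v (0, 2, 2) = v (0, 2, 2) := by
    rw [zv_def, show sg 61 (0, 2, 2) = 0 from by decide +kernel]; simp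
  have h9 : zv 61 t v (1, 0, 0) = v (1, 0, 0) := by
    rw [zv_def, show sg 61 (1, 0, 0) = 0 from by decide +kernel]; simp
  have h10 : zv 61 t v (1, 0, 1) = v (1, 0, 1) := by
    rw [zv_def, show sg 61 (1, 0, 1) = 0 from by decide +kernel]; simp
  have h11 : zv 61 t v (1, 0, 2) = v (1, 0, 2) := by
    rw [zv_def, show sg 61 (1, 0, 2) = 0 from by decide +kernel]; simp
  have h12 : zv 61 t v (1, 1, 0) = v (1, 1, 0) := by
    rw [zv_def, show sg 61 (1, 1, 0) = 0 from by decide +kernel]; simp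
  have h13 : zv 61 t v (1, 1, 1) = v (1, 1, 1) := by
    rw [zv_def, show sg 61 (1, 1, 1) = 0 from by decide +kernel]; simp
  have h14 : zv 61 t v (1, 1, 2) = v (1, 1, 2) := by
    rw [zv_def, show sg 61 (1, 1, 2) = 0 from by decide +kernel]; simp
  have h15 : zv 61 t v (1, 2, 0) = v (1, 2, 0) - t * v (2, 2, 0) := by
    rw [zv_def, show sg 61 (1, 2, 0) = -1 from by decide +kernel, show sr 61 (1, 2, 0) = (2, 2, 0) from by decide +kernel]; push_cast; ring
  have h16 : zv 61 t v (1, 2, 1) = v (1, 2, 1) := by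
    rw [zv_def, show sg 61 (1, 2, 1) = 0 from by decide +kernel]; simp
  have h17 : zv 61 t v (1, 2, 2) = v (1, 2, 2) + t * v (2, 0, 0) := by
    rw [zv_def, show sg 61 (1, 2, 2) = 1 from by decide +kernel, show sr 61 (1, 2, 2) = (2, 0, 0) from by decide +kernel]; simp
  have h18 : zv 61 t v (2, 0, 0) = v (2, 0, 0) := by
    rw [zv_def, show sg 61 (2, 0, 0) = 0 from by decide +kernel]; simp
  have h19 : zv 61 t v (2, 0, 1) = v (2, 0, 1) := by
    rw [zv_def, show sg 61 (2, 0, 1) = 0 from by decide +kernel]; simp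
  have h20 : zv 61 t v (2, 0, 2) = v (2, 0, 2) := by
    rw [zv_def, show sg 61 (2, 0, 2) = 0 from by decide +kernel]; simp
  have h21 : zv 61 t v (2, 1, 0) = v (2, 1, 0) := by
    rw [zv_def, show sg 61 (2, 1, 0) = 0 from by decide +kernel]; simp
  have h22 : zv 61 t v (2, 1, 1) = v (2, 1, 1) + t * v (0, 2, 2) := by
    rw [zv_def, show sg 61 (2, 1, 1) = 1 from by decide +kernel, show sr 61 (2, 1, 1) = (0, 2, 2) from by decide +kernel]; simp
  have h23 : zv 61 t v (2, 1, 2) = v (2, 1, 2) - t * v (0, 1, 2) := by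
    rw [zv_def, show sg 61 (2, 1, 2) = -1 from by decide +kernel, show sr 61 (2, 1, 2) = (0, 1, 2) from by decide +kernel]; push_cast; ring
  have h24 : zv 61 t v (2, 2, 0) = v (2, 2, 0) := by
    rw [zv_def, show sg 61 (2, 2, 0) = 0 from by decide +kernel]; simp
  have h25 : zv 61 t v (2, 2, 1) = v (2, 2, 1) := by
    rw [zv_def, show sg 61 (2, 2, 1) = 0 from by decide +kernel]; simp
  have h26 : zv 61 t v (2, 2, 2) = v (2, 2, 2) := by
    rw [zv_def, show sg 61 (2, 2, 2) = 0 from by decide +kernel]; simp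
  rw [cubicT_expand, cubicT_expand]
  simp only [h0, h1, h2, h3, h4, h5, h6, h7, h8, h9, h10, h11, h12, h13, h14, h15, h16, h17, h18, h19, h20, h21, h22, h23, h24, h25, h26]
  ring

theorem inv_62 {F : Type*} [CommRing F] (t : F) (v : I27 → F) : cubicT (zv 62 t v) = cubicT v := by
  have h0 : zv 62 t v (0, 0, 0) = v (0, 0, 0) + t * v (1, 2, 1) := by
    rw [zv_def, show sg 62 (0, 0, 0) = 1 from by decide +kernel, show sr 62 (0, 0, 0) = (1, 2, 1) from by decide +kernel]; simp
  have h1 : zv 62 t v (0, 0, 1) = v (0, 0, 1) := by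
    rw [zv_def, show sg 62 (0, 0, 1) = 0 from by decide +kernel]; simp
  have h2 : zv 62 t v (0, 0, 2) = v (0, 0, 2) - t * v (1, 0, 1) := by
    rw [zv_def, show sg 62 (0, 0, 2) = -1 from by decide +kernel, show sr 62 (0, 0, 2) = (1, 0, 1) from by decide +kernel]; push_cast; ring
  have h3 : zv 62 t v (0, 1, 0) = v (0, 1, 0) := by
    rw [zv_def, show sg 62 (0, 1, 0) = 0 from by decide +kernel]; simp
  have h4 : zv 62 t v (0, 1, 1) = v (0, 1, 1) := by
    rw [zv_def, show sg 62 (0, 1, 1) = 0 from by decide +kernel]; simp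
  have h5 : zv 62 t v (0, 1, 2) = v (0, 1, 2) := by
    rw [zv_def, show sg 62 (0, 1, 2) = 0 from by decide +kernel]; simp
  have h6 : zv 62 t v (0, 2, 0) = v (0, 2, 0) := by
    rw [zv_def, show sg 62 (0, 2, 0) = 0 from by decide +kernel]; simp
  have h7 : zv 62 t v (0, 2, 1) = v (0, 2, 1) := by
    rw [zv_def, show sg 62 (0, 2, 1) = 0 from by decide +kernel]; simp
  have h8 : zv 62 t v (0, 2, 2) = v (0, 2, 2) := by
    rw [zv_def, show sg 62 (0, 2, 2) = 0 from by decide +kernel]; simp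
  have h9 : zv 62 t v (1, 0, 0) = v (1, 0, 0) := by
    rw [zv_def, show sg 62 (1, 0, 0) = 0 from by decide +kernel]; simp
  have h10 : zv 62 t v (1, 0, 1) = v (1, 0, 1) := by
    rw [zv_def, show sg 62 (1, 0, 1) = 0 from by decide +kernel]; simp
  have h11 : zv 62 t v (1, 0, 2) = v (1, 0, 2) := by
    rw [zv_def, show sg 62 (1, 0, 2) = 0 from by decide +kernel]; simp
  have h12 : zv 62 t v (1, 1, 0) = v (1, 1, 0) + t * v (2, 2, 0) := by
    rw [zv_def, show sg 62 (1, 1, 0) = 1 from by decide +kernel, show sr 62 (1, 1, 0) = (2, 2, 0) from by decide +kernel]; simp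
  have h13 : zv 62 t v (1, 1, 1) = v (1, 1, 1) := by
    rw [zv_def, show sg 62 (1, 1, 1) = 0 from by decide +kernel]; simp
  have h14 : zv 62 t v (1, 1, 2) = v (1, 1, 2) - t * v (2, 0, 0) := by
    rw [zv_def, show sg 62 (1, 1, 2) = -1 from by decide +kernel, show sr 62 (1, 1, 2) = (2, 0, 0) from by decide +kernel]; push_cast; ring
  have h15 : zv 62 t v (1, 2, 0) = v (1, 2, 0) := by
    rw [zv_def, show sg 62 (1, 2, 0) = 0 from by decide +kernel]; simp
  have h16 : zv 62 t v (1, 2, 1) = v (1, 2, 1) := by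
    rw [zv_def, show sg 62 (1, 2, 1) = 0 from by decide +kernel]; simp
  have h17 : zv 62 t v (1, 2, 2) = v (1, 2, 2) := by
    rw [zv_def, show sg 62 (1, 2, 2) = 0 from by decide +kernel]; simp
  have h18 : zv 62 t v (2, 0, 0) = v (2, 0, 0) := by
    rw [zv_def, show sg 62 (2, 0, 0) = 0 from by decide +kernel]; simp
  have h19 : zv 62 t v (2, 0, 1) = v (2, 0, 1) := by
    rw [zv_def, show sg 62 (2, 0, 1) = 0 from by decide +kernel]; simp
  have h20 : zv 62 t v (2, 0, 2) = v (2, 0, 2) := by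
    rw [zv_def, show sg 62 (2, 0, 2) = 0 from by decide +kernel]; simp
  have h21 : zv 62 t v (2, 1, 0) = v (2, 1, 0) := by
    rw [zv_def, show sg 62 (2, 1, 0) = 0 from by decide +kernel]; simp
  have h22 : zv 62 t v (2, 1, 1) = v (2, 1, 1) - t * v (0, 2, 1) := by
    rw [zv_def, show sg 62 (2, 1, 1) = -1 from by decide +kernel, show sr 62 (2, 1, 1) = (0, 2, 1) from by decide +kernel]; push_cast; ring
  have h23 : zv 62 t v (2, 1, 2) = v (2, 1, 2) + t * v (0, 1, 1) := by
    rw [zv_def, show sg 62 (2, 1, 2) = 1 from by decide +kernel, show sr 62 (2, 1, 2) = (0, 1, 1) from by decide +kernel]; simp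
  have h24 : zv 62 t v (2, 2, 0) = v (2, 2, 0) := by
    rw [zv_def, show sg 62 (2, 2, 0) = 0 from by decide +kernel]; simp
  have h25 : zv 62 t v (2, 2, 1) = v (2, 2, 1) := by
    rw [zv_def, show sg 62 (2, 2, 1) = 0 from by decide +kernel]; simp
  have h26 : zv 62 t v (2, 2, 2) = v (2, 2, 2) := by
    rw [zv_def, show sg 62 (2, 2, 2) = 0 from by decide +kernel]; simp
  rw [cubicT_expand, cubicT_expand]
  simp only [h0, h1, h2, h3, h4, h5, h6, h7, h8, h9, h10, h11, h12, h13, h14, h15, h16, h17, h18, h19, h20, h21, h22, h23, h24, h25, h26]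
  ring

theorem inv_63 {F : Type*} [CommRing F] (t : F) (v : I27 → F) : cubicT (zv 63 t v) = cubicT v := by
  have h0 : zv 63 t v (0, 0, 0) = v (0, 0, 0) := by
    rw [zv_def, show sg 63 (0, 0, 0) = 0 from by decide +kernel]; simp
  have h1 : zv 63 t v (0, 0, 1) = v (0, 0, 1) + t * v (1, 2, 1) := by
    rw [zv_def, show sg 63 (0, 0, 1) = 1 from by decide +kernel, show sr 63 (0, 0, 1) = (1, 2, 1) from by decide +kernel]; simp
  have h2 : zv 63 t v (0, 0, 2) = v (0, 0, 2) - t * v (1, 1, 1) := by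
    rw [zv_def, show sg 63 (0, 0, 2) = -1 from by decide +kernel, show sr 63 (0, 0, 2) = (1, 1, 1) from by decide +kernel]; push_cast; ring
  have h3 : zv 63 t v (0, 1, 0) = v (0, 1, 0) := by
    rw [zv_def, show sg 63 (0, 1, 0) = 0 from by decide +kernel]; simp
  have h4 : zv 63 t v (0, 1, 1) = v (0, 1, 1) := by
    rw [zv_def, show sg 63 (0, 1, 1) = 0 from by decide +kernel]; simp
  have h5 : zv 63 t v (0, 1, 2) = v (0, 1, 2) := by
    rw [zv_def, show sg 63 (0, 1, 2) = 0 from by decide +kernel]; simp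
  have h6 : zv 63 t v (0, 2, 0) = v (0, 2, 0) := by
    rw [zv_def, show sg 63 (0, 2, 0) = 0 from by decide +kernel]; simp
  have h7 : zv 63 t v (0, 2, 1) = v (0, 2, 1) := by
    rw [zv_def, show sg 63 (0, 2, 1) = 0 from by decide +kernel]; simp
  have h8 : zv 63 t v (0, 2, 2) = v (0, 2, 2) := by
    rw [zv_def, show sg 63 (0, 2, 2) = 0 from by decide +kernel]; simp
  have h9 : zv 63 t v (1, 0, 0) = v (1, 0, 0) - t * v (2, 2, 0) := by
    rw [zv_def, show sg 63 (1, 0, 0) = -1 from by decide +kernel, show sr 63 (1, 0, 0) = (2, 2, 0) from by decide +kernel]; push_cast; ring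
  have h10 : zv 63 t v (1, 0, 1) = v (1, 0, 1) := by
    rw [zv_def, show sg 63 (1, 0, 1) = 0 from by decide +kernel]; simp
  have h11 : zv 63 t v (1, 0, 2) = v (1, 0, 2) + t * v (2, 0, 0) := by
    rw [zv_def, show sg 63 (1, 0, 2) = 1 from by decide +kernel, show sr 63 (1, 0, 2) = (2, 0, 0) from by decide +kernel]; simp
  have h12 : zv 63 t v (1, 1, 0) = v (1, 1, 0) := by
    rw [zv_def, show sg 63 (1, 1, 0) = 0 from by decide +kernel]; simp
  have h13 : zv 63 t v (1, 1, 1) = v (1, 1, 1) := by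
    rw [zv_def, show sg 63 (1, 1, 1) = 0 from by decide +kernel]; simp
  have h14 : zv 63 t v (1, 1, 2) = v (1, 1, 2) := by
    rw [zv_def, show sg 63 (1, 1, 2) = 0 from by decide +kernel]; simp
  have h15 : zv 63 t v (1, 2, 0) = v (1, 2, 0) := by
    rw [zv_def, show sg 63 (1, 2, 0) = 0 from by decide +kernel]; simp
  have h16 : zv 63 t v (1, 2, 1) = v (1, 2, 1) := by
    rw [zv_def, show sg 63 (1, 2, 1) = 0 from by decide +kernel]; simp
  have h17 : zv 63 t v (1, 2, 2) = v (1, 2, 2) := by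
    rw [zv_def, show sg 63 (1, 2, 2) = 0 from by decide +kernel]; simp
  have h18 : zv 63 t v (2, 0, 0) = v (2, 0, 0) := by
    rw [zv_def, show sg 63 (2, 0, 0) = 0 from by decide +kernel]; simp
  have h19 : zv 63 t v (2, 0, 1) = v (2, 0, 1) := by
    rw [zv_def, show sg 63 (2, 0, 1) = 0 from by decide +kernel]; simp
  have h20 : zv 63 t v (2, 0, 2) = v (2, 0, 2) := by
    rw [zv_def, show sg 63 (2, 0, 2) = 0 from by decide +kernel]; simp
  have h21 : zv 63 t v (2, 1, 0) = v (2, 1, 0) := by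
    rw [zv_def, show sg 63 (2, 1, 0) = 0 from by decide +kernel]; simp
  have h22 : zv 63 t v (2, 1, 1) = v (2, 1, 1) + t * v (0, 2, 0) := by
    rw [zv_def, show sg 63 (2, 1, 1) = 1 from by decide +kernel, show sr 63 (2, 1, 1) = (0, 2, 0) from by decide +kernel]; simp
  have h23 : zv 63 t v (2, 1, 2) = v (2, 1, 2) - t * v (0, 1, 0) := by
    rw [zv_def, show sg 63 (2, 1, 2) = -1 from by decide +kernel, show sr 63 (2, 1, 2) = (0, 1, 0) from by decide +kernel]; push_cast; ring
  have h24 : zv 63 t v (2, 2, 0) = v (2, 2, 0) := by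
    rw [zv_def, show sg 63 (2, 2, 0) = 0 from by decide +kernel]; simp
  have h25 : zv 63 t v (2, 2, 1) = v (2, 2, 1) := by
    rw [zv_def, show sg 63 (2, 2, 1) = 0 from by decide +kernel]; simp
  have h26 : zv 63 t v (2, 2, 2) = v (2, 2, 2) := by
    rw [zv_def, show sg 63 (2, 2, 2) = 0 from by decide +kernel]; simp
  rw [cubicT_expand, cubicT_expand]
  simp only [h0, h1, h2, h3, h4, h5, h6, h7, h8, h9, h10, h11, h12, h13, h14, h15, h16, h17, h18, h19, h20, h21, h22, h23, h24, h25, h26]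
  ring

theorem inv_64 {F : Type*} [CommRing F] (t : F) (v : I27 → F) : cubicT (zv 64 t v) = cubicT v := by
  have h0 : zv 64 t v (0, 0, 0) = v (0, 0, 0) - t * v (2, 0, 2) := by
    rw [zv_def, show sg 64 (0, 0, 0) = -1 from by decide +kernel, show sr 64 (0, 0, 0) = (2, 0, 2) from by decide +kernel]; push_cast; ring
  have h1 : zv 64 t v (0, 0, 1) = v (0, 0, 1) := by
    rw [zv_def, show sg 64 (0, 0, 1) = 0 from by decide +kernel]; simp
  have h2 : zv 64 t v (0, 0, 2) = v (0, 0, 2) := by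
    rw [zv_def, show sg 64 (0, 0, 2) = 0 from by decide +kernel]; simp
  have h3 : zv 64 t v (0, 1, 0) = v (0, 1, 0) := by
    rw [zv_def, show sg 64 (0, 1, 0) = 0 from by decide +kernel]; simp
  have h4 : zv 64 t v (0, 1, 1) = v (0, 1, 1) := by
    rw [zv_def, show sg 64 (0, 1, 1) = 0 from by decide +kernel]; simp
  have h5 : zv 64 t v (0, 1, 2) = v (0, 1, 2) := by
    rw [zv_def, show sg 64 (0, 1, 2) = 0 from by decide +kernel]; simp
  have h6 : zv 64 t v (0, 2, 0) = v (0, 2, 0) + t * v (2, 0, 0) := by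
    rw [zv_def, show sg 64 (0, 2, 0) = 1 from by decide +kernel, show sr 64 (0, 2, 0) = (2, 0, 0) from by decide +kernel]; simp
  have h7 : zv 64 t v (0, 2, 1) = v (0, 2, 1) := by
    rw [zv_def, show sg 64 (0, 2, 1) = 0 from by decide +kernel]; simp
  have h8 : zv 64 t v (0, 2, 2) = v (0, 2, 2) := by
    rw [zv_def, show sg 64 (0, 2, 2) = 0 from by decide +kernel]; simp
  have h9 : zv 64 t v (1, 0, 0) = v (1, 0, 0) := by
    rw [zv_def, show sg 64 (1, 0, 0) = 0 from by decide +kernel]; simp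
  have h10 : zv 64 t v (1, 0, 1) = v (1, 0, 1) := by
    rw [zv_def, show sg 64 (1, 0, 1) = 0 from by decide +kernel]; simp
  have h11 : zv 64 t v (1, 0, 2) = v (1, 0, 2) := by
    rw [zv_def, show sg 64 (1, 0, 2) = 0 from by decide +kernel]; simp
  have h12 : zv 64 t v (1, 1, 0) = v (1, 1, 0) + t * v (0, 1, 2) := by
    rw [zv_def, show sg 64 (1, 1, 0) = 1 from by decide +kernel, show sr 64 (1, 1, 0) = (0, 1, 2) from by decide +kernel]; simp
  have h13 : zv 64 t v (1, 1, 1) = v (1, 1, 1) := by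
    rw [zv_def, show sg 64 (1, 1, 1) = 0 from by decide +kernel]; simp
  have h14 : zv 64 t v (1, 1, 2) = v (1, 1, 2) := by
    rw [zv_def, show sg 64 (1, 1, 2) = 0 from by decide +kernel]; simp
  have h15 : zv 64 t v (1, 2, 0) = v (1, 2, 0) - t * v (0, 1, 1) := by
    rw [zv_def, show sg 64 (1, 2, 0) = -1 from by decide +kernel, show sr 64 (1, 2, 0) = (0, 1, 1) from by decide +kernel]; push_cast; ring
  have h16 : zv 64 t v (1, 2, 1) = v (1, 2, 1) := by
    rw [zv_def, show sg 64 (1, 2, 1) = 0 from by decide +kernel]; simp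
  have h17 : zv 64 t v (1, 2, 2) = v (1, 2, 2) := by
    rw [zv_def, show sg 64 (1, 2, 2) = 0 from by decide +kernel]; simp
  have h18 : zv 64 t v (2, 0, 0) = v (2, 0, 0) := by
    rw [zv_def, show sg 64 (2, 0, 0) = 0 from by decide +kernel]; simp
  have h19 : zv 64 t v (2, 0, 1) = v (2, 0, 1) := by
    rw [zv_def, show sg 64 (2, 0, 1) = 0 from by decide +kernel]; simp
  have h20 : zv 64 t v (2, 0, 2) = v (2, 0, 2) := by
    rw [zv_def, show sg 64 (2, 0, 2) = 0 from by decide +kernel]; simp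
  have h21 : zv 64 t v (2, 1, 0) = v (2, 1, 0) := by
    rw [zv_def, show sg 64 (2, 1, 0) = 0 from by decide +kernel]; simp
  have h22 : zv 64 t v (2, 1, 1) = v (2, 1, 1) + t * v (1, 0, 2) := by
    rw [zv_def, show sg 64 (2, 1, 1) = 1 from by decide +kernel, show sr 64 (2, 1, 1) = (1, 0, 2) from by decide +kernel]; simp
  have h23 : zv 64 t v (2, 1, 2) = v (2, 1, 2) := by
    rw [zv_def, show sg 64 (2, 1, 2) = 0 from by decide +kernel]; simp
  have h24 : zv 64 t v (2, 2, 0) = v (2, 2, 0) := by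
    rw [zv_def, show sg 64 (2, 2, 0) = 0 from by decide +kernel]; simp
  have h25 : zv 64 t v (2, 2, 1) = v (2, 2, 1) - t * v (1, 0, 1) := by
    rw [zv_def, show sg 64 (2, 2, 1) = -1 from by decide +kernel, show sr 64 (2, 2, 1) = (1, 0, 1) from by decide +kernel]; push_cast; ring
  have h26 : zv 64 t v (2, 2, 2) = v (2, 2, 2) := by
    rw [zv_def, show sg 64 (2, 2, 2) = 0 from by decide +kernel]; simp
  rw [cubicT_expand, cubicT_expand]
  simp only [h0, h1, h2, h3, h4, h5, h6, h7, h8, h9, h10, h11, h12, h13, h14, h15, h16, h17, h18, h19, h20, h21, h22, h23, h24, h25, h26]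
  ring

theorem inv_65 {F : Type*} [CommRing F] (t : F) (v : I27 → F) : cubicT (zv 65 t v) = cubicT v := by
  have h0 : zv 65 t v (0, 0, 0) = v (0, 0, 0) := by
    rw [zv_def, show sg 65 (0, 0, 0) = 0 from by decide +kernel]; simp
  have h1 : zv 65 t v (0, 0, 1) = v (0, 0, 1) - t * v (2, 0, 2) := by
    rw [zv_def, show sg 65 (0, 0, 1) = -1 from by decide +kernel, show sr 65 (0, 0, 1) = (2, 0, 2) from by decide +kernel]; push_cast; ring
  have h2 : zv 65 t v (0, 0, 2) = v (0, 0, 2) := by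
    rw [zv_def, show sg 65 (0, 0, 2) = 0 from by decide +kernel]; simp
  have h3 : zv 65 t v (0, 1, 0) = v (0, 1, 0) := by
    rw [zv_def, show sg 65 (0, 1, 0) = 0 from by decide +kernel]; simp
  have h4 : zv 65 t v (0, 1, 1) = v (0, 1, 1) := by
    rw [zv_def, show sg 65 (0, 1, 1) = 0 from by decide +kernel]; simp
  have h5 : zv 65 t v (0, 1, 2) = v (0, 1, 2) := by
    rw [zv_def, show sg 65 (0, 1, 2) = 0 from by decide +kernel]; simp
  have h6 : zv 65 t v (0, 2, 0) = v (0, 2, 0) := by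
    rw [zv_def, show sg 65 (0, 2, 0) = 0 from by decide +kernel]; simp
  have h7 : zv 65 t v (0, 2, 1) = v (0, 2, 1) + t * v (2, 0, 0) := by
    rw [zv_def, show sg 65 (0, 2, 1) = 1 from by decide +kernel, show sr 65 (0, 2, 1) = (2, 0, 0) from by decide +kernel]; simp
  have h8 : zv 65 t v (0, 2, 2) = v (0, 2, 2) := by
    rw [zv_def, show sg 65 (0, 2, 2) = 0 from by decide +kernel]; simp
  have h9 : zv 65 t v (1, 0, 0) = v (1, 0, 0) - t * v (0, 1, 2) := by
    rw [zv_def, show sg 65 (1, 0, 0) = -1 from by decide +kernel, show sr 65 (1, 0, 0) = (0, 1, 2) from by decide +kernel]; push_cast; ring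
  have h10 : zv 65 t v (1, 0, 1) = v (1, 0, 1) := by
    rw [zv_def, show sg 65 (1, 0, 1) = 0 from by decide +kernel]; simp
  have h11 : zv 65 t v (1, 0, 2) = v (1, 0, 2) := by
    rw [zv_def, show sg 65 (1, 0, 2) = 0 from by decide +kernel]; simp
  have h12 : zv 65 t v (1, 1, 0) = v (1, 1, 0) := by
    rw [zv_def, show sg 65 (1, 1, 0) = 0 from by decide +kernel]; simp
  have h13 : zv 65 t v (1, 1, 1) = v (1, 1, 1) := by
    rw [zv_def, show sg 65 (1, 1, 1) = 0 from by decide +kernel]; simp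
  have h14 : zv 65 t v (1, 1, 2) = v (1, 1, 2) := by
    rw [zv_def, show sg 65 (1, 1, 2) = 0 from by decide +kernel]; simp
  have h15 : zv 65 t v (1, 2, 0) = v (1, 2, 0) + t * v (0, 1, 0) := by
    rw [zv_def, show sg 65 (1, 2, 0) = 1 from by decide +kernel, show sr 65 (1, 2, 0) = (0, 1, 0) from by decide +kernel]; simp
  have h16 : zv 65 t v (1, 2, 1) = v (1, 2, 1) := by
    rw [zv_def, show sg 65 (1, 2, 1) = 0 from by decide +kernel]; simp
  have h17 : zv 65 t v (1, 2, 2) = v (1, 2, 2) := by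
    rw [zv_def, show sg 65 (1, 2, 2) = 0 from by decide +kernel]; simp
  have h18 : zv 65 t v (2, 0, 0) = v (2, 0, 0) := by
    rw [zv_def, show sg 65 (2, 0, 0) = 0 from by decide +kernel]; simp
  have h19 : zv 65 t v (2, 0, 1) = v (2, 0, 1) := by
    rw [zv_def, show sg 65 (2, 0, 1) = 0 from by decide +kernel]; simp
  have h20 : zv 65 t v (2, 0, 2) = v (2, 0, 2) := by
    rw [zv_def, show sg 65 (2, 0, 2) = 0 from by decide +kernel]; simp
  have h21 : zv 65 t v (2, 1, 0) = v (2, 1, 0) := by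
    rw [zv_def, show sg 65 (2, 1, 0) = 0 from by decide +kernel]; simp
  have h22 : zv 65 t v (2, 1, 1) = v (2, 1, 1) + t * v (1, 1, 2) := by
    rw [zv_def, show sg 65 (2, 1, 1) = 1 from by decide +kernel, show sr 65 (2, 1, 1) = (1, 1, 2) from by decide +kernel]; simp
  have h23 : zv 65 t v (2, 1, 2) = v (2, 1, 2) := by
    rw [zv_def, show sg 65 (2, 1, 2) = 0 from by decide +kernel]; simp
  have h24 : zv 65 t v (2, 2, 0) = v (2, 2, 0) := by
    rw [zv_def, show sg 65 (2, 2, 0) = 0 from by decide +kernel]; simp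
  have h25 : zv 65 t v (2, 2, 1) = v (2, 2, 1) - t * v (1, 1, 1) := by
    rw [zv_def, show sg 65 (2, 2, 1) = -1 from by decide +kernel, show sr 65 (2, 2, 1) = (1, 1, 1) from by decide +kernel]; push_cast; ring
  have h26 : zv 65 t v (2, 2, 2) = v (2, 2, 2) := by
    rw [zv_def, show sg 65 (2, 2, 2) = 0 from by decide +kernel]; simp
  rw [cubicT_expand, cubicT_expand]
  simp only [h0, h1, h2, h3, h4, h5, h6, h7, h8, h9, h10, h11, h12, h13, h14, h15, h16, h17, h18, h19, h20, h21, h22, h23, h24, h25, h26]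
  ring

theorem inv_66 {F : Type*} [CommRing F] (t : F) (v : I27 → F) : cubicT (zv 66 t v) = cubicT v := by
  have h0 : zv 66 t v (0, 0, 0) = v (0, 0, 0) := by
    rw [zv_def, show sg 66 (0, 0, 0) = 0 from by decide +kernel]; simp
  have h1 : zv 66 t v (0, 0, 1) = v (0, 0, 1) := by
    rw [zv_def, show sg 66 (0, 0, 1) = 0 from by decide +kernel]; simp
  have h2 : zv 66 t v (0, 0, 2) = v (0, 0, 2) - t * v (2, 0, 2) := by
    rw [zv_def, show sg 66 (0, 0, 2) = -1 from by decide +kernel, show sr 66 (0, 0, 2) = (2, 0, 2) from by decide +kernel]; push_cast; ring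
  have h3 : zv 66 t v (0, 1, 0) = v (0, 1, 0) := by
    rw [zv_def, show sg 66 (0, 1, 0) = 0 from by decide +kernel]; simp
  have h4 : zv 66 t v (0, 1, 1) = v (0, 1, 1) := by
    rw [zv_def, show sg 66 (0, 1, 1) = 0 from by decide +kernel]; simp
  have h5 : zv 66 t v (0, 1, 2) = v (0, 1, 2) := by
    rw [zv_def, show sg 66 (0, 1, 2) = 0 from by decide +kernel]; simp
  have h6 : zv 66 t v (0, 2, 0) = v (0, 2, 0) := by
    rw [zv_def, show sg 66 (0, 2, 0) = 0 from by decide +kernel]; simp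
  have h7 : zv 66 t v (0, 2, 1) = v (0, 2, 1) := by
    rw [zv_def, show sg 66 (0, 2, 1) = 0 from by decide +kernel]; simp
  have h8 : zv 66 t v (0, 2, 2) = v (0, 2, 2) + t * v (2, 0, 0) := by
    rw [zv_def, show sg 66 (0, 2, 2) = 1 from by decide +kernel, show sr 66 (0, 2, 2) = (2, 0, 0) from by decide +kernel]; simp
  have h9 : zv 66 t v (1, 0, 0) = v (1, 0, 0) + t * v (0, 1, 1) := by
    rw [zv_def, show sg 66 (1, 0, 0) = 1 from by decide +kernel, show sr 66 (1, 0, 0) = (0, 1, 1) from by decide +kernel]; simp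
  have h10 : zv 66 t v (1, 0, 1) = v (1, 0, 1) := by
    rw [zv_def, show sg 66 (1, 0, 1) = 0 from by decide +kernel]; simp
  have h11 : zv 66 t v (1, 0, 2) = v (1, 0, 2) := by
    rw [zv_def, show sg 66 (1, 0, 2) = 0 from by decide +kernel]; simp
  have h12 : zv 66 t v (1, 1, 0) = v (1, 1, 0) - t * v (0, 1, 0) := by
    rw [zv_def, show sg 66 (1, 1, 0) = -1 from by decide +kernel, show sr 66 (1, 1, 0) = (0, 1, 0) from by decide +kernel]; push_cast; ring
  have h13 : zv 66 t v (1, 1, 1) = v (1, 1, 1) := by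
    rw [zv_def, show sg 66 (1, 1, 1) = 0 from by decide +kernel]; simp
  have h14 : zv 66 t v (1, 1, 2) = v (1, 1, 2) := by
    rw [zv_def, show sg 66 (1, 1, 2) = 0 from by decide +kernel]; simp
  have h15 : zv 66 t v (1, 2, 0) = v (1, 2, 0) := by
    rw [zv_def, show sg 66 (1, 2, 0) = 0 from by decide +kernel]; simp
  have h16 : zv 66 t v (1, 2, 1) = v (1, 2, 1) := by
    rw [zv_def, show sg 66 (1, 2, 1) = 0 from by decide +kernel]; simp
  have h17 : zv 66 t v (1, 2, 2) = v (1, 2, 2) := by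
    rw [zv_def, show sg 66 (1, 2, 2) = 0 from by decide +kernel]; simp
  have h18 : zv 66 t v (2, 0, 0) = v (2, 0, 0) := by
    rw [zv_def, show sg 66 (2, 0, 0) = 0 from by decide +kernel]; simp
  have h19 : zv 66 t v (2, 0, 1) = v (2, 0, 1) := by
    rw [zv_def, show sg 66 (2, 0, 1) = 0 from by decide +kernel]; simp
  have h20 : zv 66 t v (2, 0, 2) = v (2, 0, 2) := by
    rw [zv_def, show sg 66 (2, 0, 2) = 0 from by decide +kernel]; simp
  have h21 : zv 66 t v (2, 1, 0) = v (2, 1, 0) := by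
    rw [zv_def, show sg 66 (2, 1, 0) = 0 from by decide +kernel]; simp
  have h22 : zv 66 t v (2, 1, 1) = v (2, 1, 1) + t * v (1, 2, 2) := by
    rw [zv_def, show sg 66 (2, 1, 1) = 1 from by decide +kernel, show sr 66 (2, 1, 1) = (1, 2, 2) from by decide +kernel]; simp
  have h23 : zv 66 t v (2, 1, 2) = v (2, 1, 2) := by
    rw [zv_def, show sg 66 (2, 1, 2) = 0 from by decide +kernel]; simp
  have h24 : zv 66 t v (2, 2, 0) = v (2, 2, 0) := by
    rw [zv_def, show sg 66 (2, 2, 0) = 0 from by decide +kernel]; simp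
  have h25 : zv 66 t v (2, 2, 1) = v (2, 2, 1) - t * v (1, 2, 1) := by
    rw [zv_def, show sg 66 (2, 2, 1) = -1 from by decide +kernel, show sr 66 (2, 2, 1) = (1, 2, 1) from by decide +kernel]; push_cast; ring
  have h26 : zv 66 t v (2, 2, 2) = v (2, 2, 2) := by
    rw [zv_def, show sg 66 (2, 2, 2) = 0 from by decide +kernel]; simp
  rw [cubicT_expand, cubicT_expand]
  simp only [h0, h1, h2, h3, h4, h5, h6, h7, h8, h9, h10, h11, h12, h13, h14, h15, h16, h17, h18, h19, h20, h21, h22, h23, h24, h25, h26]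
  ring

theorem inv_67 {F : Type*} [CommRing F] (t : F) (v : I27 → F) : cubicT (zv 67 t v) = cubicT v := by
  have h0 : zv 67 t v (0, 0, 0) = v (0, 0, 0) - t * v (2, 0, 1) := by
    rw [zv_def, show sg 67 (0, 0, 0) = -1 from by decide +kernel, show sr 67 (0, 0, 0) = (2, 0, 1) from by decide +kernel]; push_cast; ring
  have h1 : zv 67 t v (0, 0, 1) = v (0, 0, 1) := by
    rw [zv_def, show sg 67 (0, 0, 1) = 0 from by decide +kernel]; simp
  have h2 : zv 67 t v (0, 0, 2) = v (0, 0, 2) := by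
    rw [zv_def, show sg 67 (0, 0, 2) = 0 from by decide +kernel]; simp
  have h3 : zv 67 t v (0, 1, 0) = v (0, 1, 0) + t * v (2, 0, 0) := by
    rw [zv_def, show sg 67 (0, 1, 0) = 1 from by decide +kernel, show sr 67 (0, 1, 0) = (2, 0, 0) from by decide +kernel]; simp
  have h4 : zv 67 t v (0, 1, 1) = v (0, 1, 1) := by
    rw [zv_def, show sg 67 (0, 1, 1) = 0 from by decide +kernel]; simp
  have h5 : zv 67 t v (0, 1, 2) = v (0, 1, 2) := by
    rw [zv_def, show sg 67 (0, 1, 2) = 0 from by decide +kernel]; simp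
  have h6 : zv 67 t v (0, 2, 0) = v (0, 2, 0) := by
    rw [zv_def, show sg 67 (0, 2, 0) = 0 from by decide +kernel]; simp
  have h7 : zv 67 t v (0, 2, 1) = v (0, 2, 1) := by
    rw [zv_def, show sg 67 (0, 2, 1) = 0 from by decide +kernel]; simp
  have h8 : zv 67 t v (0, 2, 2) = v (0, 2, 2) := by
    rw [zv_def, show sg 67 (0, 2, 2) = 0 from by decide +kernel]; simp
  have h9 : zv 67 t v (1, 0, 0) = v (1, 0, 0) := by
    rw [zv_def, show sg 67 (1, 0, 0) = 0 from by decide +kernel]; simp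
  have h10 : zv 67 t v (1, 0, 1) = v (1, 0, 1) := by
    rw [zv_def, show sg 67 (1, 0, 1) = 0 from by decide +kernel]; simp
  have h11 : zv 67 t v (1, 0, 2) = v (1, 0, 2) := by
    rw [zv_def, show sg 67 (1, 0, 2) = 0 from by decide +kernel]; simp
  have h12 : zv 67 t v (1, 1, 0) = v (1, 1, 0) - t * v (0, 2, 2) := by
    rw [zv_def, show sg 67 (1, 1, 0) = -1 from by decide +kernel, show sr 67 (1, 1, 0) = (0, 2, 2) from by decide +kernel]; push_cast; ring
  have h13 : zv 67 t v (1, 1, 1) = v (1, 1, 1) := by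
    rw [zv_def, show sg 67 (1, 1, 1) = 0 from by decide +kernel]; simp
  have h14 : zv 67 t v (1, 1, 2) = v (1, 1, 2) := by
    rw [zv_def, show sg 67 (1, 1, 2) = 0 from by decide +kernel]; simp
  have h15 : zv 67 t v (1, 2, 0) = v (1, 2, 0) + t * v (0, 2, 1) := by
    rw [zv_def, show sg 67 (1, 2, 0) = 1 from by decide +kernel, show sr 67 (1, 2, 0) = (0, 2, 1) from by decide +kernel]; simp
  have h16 : zv 67 t v (1, 2, 1) = v (1, 2, 1) := by
    rw [zv_def, show sg 67 (1, 2, 1) = 0 from by decide +kernel]; simp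
  have h17 : zv 67 t v (1, 2, 2) = v (1, 2, 2) := by
    rw [zv_def, show sg 67 (1, 2, 2) = 0 from by decide +kernel]; simp
  have h18 : zv 67 t v (2, 0, 0) = v (2, 0, 0) := by
    rw [zv_def, show sg 67 (2, 0, 0) = 0 from by decide +kernel]; simp
  have h19 : zv 67 t v (2, 0, 1) = v (2, 0, 1) := by
    rw [zv_def, show sg 67 (2, 0, 1) = 0 from by decide +kernel]; simp
  have h20 : zv 67 t v (2, 0, 2) = v (2, 0, 2) := by
    rw [zv_def, show sg 67 (2, 0, 2) = 0 from by decide +kernel]; simp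
  have h21 : zv 67 t v (2, 1, 0) = v (2, 1, 0) := by
    rw [zv_def, show sg 67 (2, 1, 0) = 0 from by decide +kernel]; simp
  have h22 : zv 67 t v (2, 1, 1) = v (2, 1, 1) := by
    rw [zv_def, show sg 67 (2, 1, 1) = 0 from by decide +kernel]; simp
  have h23 : zv 67 t v (2, 1, 2) = v (2, 1, 2) - t * v (1, 0, 2) := by
    rw [zv_def, show sg 67 (2, 1, 2) = -1 from by decide +kernel, show sr 67 (2, 1, 2) = (1, 0, 2) from by decide +kernel]; push_cast; ring
  have h24 : zv 67 t v (2, 2, 0) = v (2, 2, 0) := by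
    rw [zv_def, show sg 67 (2, 2, 0) = 0 from by decide +kernel]; simp
  have h25 : zv 67 t v (2, 2, 1) = v (2, 2, 1) := by
    rw [zv_def, show sg 67 (2, 2, 1) = 0 from by decide +kernel]; simp
  have h26 : zv 67 t v (2, 2, 2) = v (2, 2, 2) + t * v (1, 0, 1) := by
    rw [zv_def, show sg 67 (2, 2, 2) = 1 from by decide +kernel, show sr 67 (2, 2, 2) = (1, 0, 1) from by decide +kernel]; simp
  rw [cubicT_expand, cubicT_expand]
  simp only [h0, h1, h2, h3, h4, h5, h6, h7, h8, h9, h10, h11, h12, h13, h14, h15, h16, h17, h18, h19, h20, h21, h22, h23, h24, h25, h26]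
  ring

theorem inv_68 {F : Type*} [CommRing F] (t : F) (v : I27 → F) : cubicT (zv 68 t v) = cubicT v := by
  have h0 : zv 68 t v (0, 0, 0) = v (0, 0, 0) := by
    rw [zv_def, show sg 68 (0, 0, 0) = 0 from by decide +kernel]; simp
  have h1 : zv 68 t v (0, 0, 1) = v (0, 0, 1) - t * v (2, 0, 1) := by
    rw [zv_def, show sg 68 (0, 0, 1) = -1 from by decide +kernel, show sr 68 (0, 0, 1) = (2, 0, 1) from by decide +kernel]; push_cast; ring
  have h2 : zv 68 t v (0, 0, 2) = v (0, 0, 2) := by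
    rw [zv_def, show sg 68 (0, 0, 2) = 0 from by decide +kernel]; simp
  have h3 : zv 68 t v (0, 1, 0) = v (0, 1, 0) := by
    rw [zv_def, show sg 68 (0, 1, 0) = 0 from by decide +kernel]; simp
  have h4 : zv 68 t v (0, 1, 1) = v (0, 1, 1) + t * v (2, 0, 0) := by
    rw [zv_def, show sg 68 (0, 1, 1) = 1 from by decide +kernel, show sr 68 (0, 1, 1) = (2, 0, 0) from by decide +kernel]; simp
  have h5 : zv 68 t v (0, 1, 2) = v (0, 1, 2) := by
    rw [zv_def, show sg 68 (0, 1, 2) = 0 from by decide +kernel]; simp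
  have h6 : zv 68 t v (0, 2, 0) = v (0, 2, 0) := by
    rw [zv_def, show sg 68 (0, 2, 0) = 0 from by decide +kernel]; simp
  have h7 : zv 68 t v (0, 2, 1) = v (0, 2, 1) := by
    rw [zv_def, show sg 68 (0, 2, 1) = 0 from by decide +kernel]; simp
  have h8 : zv 68 t v (0, 2, 2) = v (0, 2, 2) := by
    rw [zv_def, show sg 68 (0, 2, 2) = 0 from by decide +kernel]; simp
  have h9 : zv 68 t v (1, 0, 0) = v (1, 0, 0) + t * v (0, 2, 2) := by
    rw [zv_def, show sg 68 (1, 0, 0) = 1 from by decide +kernel, show sr 68 (1, 0, 0) = (0, 2, 2) from by decide +kernel]; simp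
  have h10 : zv 68 t v (1, 0, 1) = v (1, 0, 1) := by
    rw [zv_def, show sg 68 (1, 0, 1) = 0 from by decide +kernel]; simp
  have h11 : zv 68 t v (1, 0, 2) = v (1, 0, 2) := by
    rw [zv_def, show sg 68 (1, 0, 2) = 0 from by decide +kernel]; simp
  have h12 : zv 68 t v (1, 1, 0) = v (1, 1, 0) := by
    rw [zv_def, show sg 68 (1, 1, 0) = 0 from by decide +kernel]; simp
  have h13 : zv 68 t v (1, 1, 1) = v (1, 1, 1) := by
    rw [zv_def, show sg 68 (1, 1, 1) = 0 from by decide +kernel]; simp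
  have h14 : zv 68 t v (1, 1, 2) = v (1, 1, 2) := by
    rw [zv_def, show sg 68 (1, 1, 2) = 0 from by decide +kernel]; simp
  have h15 : zv 68 t v (1, 2, 0) = v (1, 2, 0) - t * v (0, 2, 0) := by
    rw [zv_def, show sg 68 (1, 2, 0) = -1 from by decide +kernel, show sr 68 (1, 2, 0) = (0, 2, 0) from by decide +kernel]; push_cast; ring
  have h16 : zv 68 t v (1, 2, 1) = v (1, 2, 1) := by
    rw [zv_def, show sg 68 (1, 2, 1) = 0 from by decide +kernel]; simp
  have h17 : zv 68 t v (1, 2, 2) = v (1, 2, 2) := by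
    rw [zv_def, show sg 68 (1, 2, 2) = 0 from by decide +kernel]; simp
  have h18 : zv 68 t v (2, 0, 0) = v (2, 0, 0) := by
    rw [zv_def, show sg 68 (2, 0, 0) = 0 from by decide +kernel]; simp
  have h19 : zv 68 t v (2, 0, 1) = v (2, 0, 1) := by
    rw [zv_def, show sg 68 (2, 0, 1) = 0 from by decide +kernel]; simp
  have h20 : zv 68 t v (2, 0, 2) = v (2, 0, 2) := by
    rw [zv_def, show sg 68 (2, 0, 2) = 0 from by decide +kernel]; simp
  have h21 : zv 68 t v (2, 1, 0) = v (2, 1, 0) := by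
    rw [zv_def, show sg 68 (2, 1, 0) = 0 from by decide +kernel]; simp
  have h22 : zv 68 t v (2, 1, 1) = v (2, 1, 1) := by
    rw [zv_def, show sg 68 (2, 1, 1) = 0 from by decide +kernel]; simp
  have h23 : zv 68 t v (2, 1, 2) = v (2, 1, 2) - t * v (1, 1, 2) := by
    rw [zv_def, show sg 68 (2, 1, 2) = -1 from by decide +kernel, show sr 68 (2, 1, 2) = (1, 1, 2) from by decide +kernel]; push_cast; ring
  have h24 : zv 68 t v (2, 2, 0) = v (2, 2, 0) := by
    rw [zv_def, show sg 68 (2, 2, 0) = 0 from by decide +kernel]; simp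
  have h25 : zv 68 t v (2, 2, 1) = v (2, 2, 1) := by
    rw [zv_def, show sg 68 (2, 2, 1) = 0 from by decide +kernel]; simp
  have h26 : zv 68 t v (2, 2, 2) = v (2, 2, 2) + t * v (1, 1, 1) := by
    rw [zv_def, show sg 68 (2, 2, 2) = 1 from by decide +kernel, show sr 68 (2, 2, 2) = (1, 1, 1) from by decide +kernel]; simp
  rw [cubicT_expand, cubicT_expand]
  simp only [h0, h1, h2, h3, h4, h5, h6, h7, h8, h9, h10, h11, h12, h13, h14, h15, h16, h17, h18, h19, h20, h21, h22, h23, h24, h25, h26]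
  ring

theorem inv_69 {F : Type*} [CommRing F] (t : F) (v : I27 → F) : cubicT (zv 69 t v) = cubicT v := by
  have h0 : zv 69 t v (0, 0, 0) = v (0, 0, 0) := by
    rw [zv_def, show sg 69 (0, 0, 0) = 0 from by decide +kernel]; simp
  have h1 : zv 69 t v (0, 0, 1) = v (0, 0, 1) := by
    rw [zv_def, show sg 69 (0, 0, 1) = 0 from by decide +kernel]; simp
  have h2 : zv 69 t v (0, 0, 2) = v (0, 0, 2) - t * v (2, 0, 1) := by
    rw [zv_def, show sg 69 (0, 0, 2) = -1 from by decide +kernel, show sr 69 (0, 0, 2) = (2, 0, 1) from by decide +kernel]; push_cast; ring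
  have h3 : zv 69 t v (0, 1, 0) = v (0, 1, 0) := by
    rw [zv_def, show sg 69 (0, 1, 0) = 0 from by decide +kernel]; simp
  have h4 : zv 69 t v (0, 1, 1) = v (0, 1, 1) := by
    rw [zv_def, show sg 69 (0, 1, 1) = 0 from by decide +kernel]; simp
  have h5 : zv 69 t v (0, 1, 2) = v (0, 1, 2) + t * v (2, 0, 0) := by
    rw [zv_def, show sg 69 (0, 1, 2) = 1 from by decide +kernel, show sr 69 (0, 1, 2) = (2, 0, 0) from by decide +kernel]; simp
  have h6 : zv 69 t v (0, 2, 0) = v (0, 2, 0) := by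
    rw [zv_def, show sg 69 (0, 2, 0) = 0 from by decide +kernel]; simp
  have h7 : zv 69 t v (0, 2, 1) = v (0, 2, 1) := by
    rw [zv_def, show sg 69 (0, 2, 1) = 0 from by decide +kernel]; simp
  have h8 : zv 69 t v (0, 2, 2) = v (0, 2, 2) := by
    rw [zv_def, show sg 69 (0, 2, 2) = 0 from by decide +kernel]; simp
  have h9 : zv 69 t v (1, 0, 0) = v (1, 0, 0) - t * v (0, 2, 1) := by
    rw [zv_def, show sg 69 (1, 0, 0) = -1 from by decide +kernel, show sr 69 (1, 0, 0) = (0, 2, 1) from by decide +kernel]; push_cast; ring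
  have h10 : zv 69 t v (1, 0, 1) = v (1, 0, 1) := by
    rw [zv_def, show sg 69 (1, 0, 1) = 0 from by decide +kernel]; simp
  have h11 : zv 69 t v (1, 0, 2) = v (1, 0, 2) := by
    rw [zv_def, show sg 69 (1, 0, 2) = 0 from by decide +kernel]; simp
  have h12 : zv 69 t v (1, 1, 0) = v (1, 1, 0) + t * v (0, 2, 0) := by
    rw [zv_def, show sg 69 (1, 1, 0) = 1 from by decide +kernel, show sr 69 (1, 1, 0) = (0, 2, 0) from by decide +kernel]; simp
  have h13 : zv 69 t v (1, 1, 1) = v (1, 1, 1) := by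
    rw [zv_def, show sg 69 (1, 1, 1) = 0 from by decide +kernel]; simp
  have h14 : zv 69 t v (1, 1, 2) = v (1, 1, 2) := by
    rw [zv_def, show sg 69 (1, 1, 2) = 0 from by decide +kernel]; simp
  have h15 : zv 69 t v (1, 2, 0) = v (1, 2, 0) := by
    rw [zv_def, show sg 69 (1, 2, 0) = 0 from by decide +kernel]; simp
  have h16 : zv 69 t v (1, 2, 1) = v (1, 2, 1) := by
    rw [zv_def, show sg 69 (1, 2, 1) = 0 from by decide +kernel]; simp
  have h17 : zv 69 t v (1, 2, 2) = v (1, 2, 2) := by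
    rw [zv_def, show sg 69 (1, 2, 2) = 0 from by decide +kernel]; simp
  have h18 : zv 69 t v (2, 0, 0) = v (2, 0, 0) := by
    rw [zv_def, show sg 69 (2, 0, 0) = 0 from by decide +kernel]; simp
  have h19 : zv 69 t v (2, 0, 1) = v (2, 0, 1) := by
    rw [zv_def, show sg 69 (2, 0, 1) = 0 from by decide +kernel]; simp
  have h20 : zv 69 t v (2, 0, 2) = v (2, 0, 2) := by
    rw [zv_def, show sg 69 (2, 0, 2) = 0 from by decide +kernel]; simp
  have h21 : zv 69 t v (2, 1, 0) = v (2, 1, 0) := by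
    rw [zv_def, show sg 69 (2, 1, 0) = 0 from by decide +kernel]; simp
  have h22 : zv 69 t v (2, 1, 1) = v (2, 1, 1) := by
    rw [zv_def, show sg 69 (2, 1, 1) = 0 from by decide +kernel]; simp
  have h23 : zv 69 t v (2, 1, 2) = v (2, 1, 2) - t * v (1, 2, 2) := by
    rw [zv_def, show sg 69 (2, 1, 2) = -1 from by decide +kernel, show sr 69 (2, 1, 2) = (1, 2, 2) from by decide +kernel]; push_cast; ring
  have h24 : zv 69 t v (2, 2, 0) = v (2, 2, 0) := by
    rw [zv_def, show sg 69 (2, 2, 0) = 0 from by decide +kernel]; simp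
  have h25 : zv 69 t v (2, 2, 1) = v (2, 2, 1) := by
    rw [zv_def, show sg 69 (2, 2, 1) = 0 from by decide +kernel]; simp
  have h26 : zv 69 t v (2, 2, 2) = v (2, 2, 2) + t * v (1, 2, 1) := by
    rw [zv_def, show sg 69 (2, 2, 2) = 1 from by decide +kernel, show sr 69 (2, 2, 2) = (1, 2, 1) from by decide +kernel]; simp
  rw [cubicT_expand, cubicT_expand]
  simp only [h0, h1, h2, h3, h4, h5, h6, h7, h8, h9, h10, h11, h12, h13, h14, h15, h16, h17, h18, h19, h20, h21, h22, h23, h24, h25, h26]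
  ring

theorem inv_70 {F : Type*} [CommRing F] (t : F) (v : I27 → F) : cubicT (zv 70 t v) = cubicT v := by
  have h0 : zv 70 t v (0, 0, 0) = v (0, 0, 0) := by
    rw [zv_def, show sg 70 (0, 0, 0) = 0 from by decide +kernel]; simp
  have h1 : zv 70 t v (0, 0, 1) = v (0, 0, 1) := by
    rw [zv_def, show sg 70 (0, 0, 1) = 0 from by decide +kernel]; simp
  have h2 : zv 70 t v (0, 0, 2) = v (0, 0, 2) := by
    rw [zv_def, show sg 70 (0, 0, 2) = 0 from by decide +kernel]; simp
  have h3 : zv 70 t v (0, 1, 0) = v (0, 1, 0) := by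
    rw [zv_def, show sg 70 (0, 1, 0) = 0 from by decide +kernel]; simp
  have h4 : zv 70 t v (0, 1, 1) = v (0, 1, 1) := by
    rw [zv_def, show sg 70 (0, 1, 1) = 0 from by decide +kernel]; simp
  have h5 : zv 70 t v (0, 1, 2) = v (0, 1, 2) := by
    rw [zv_def, show sg 70 (0, 1, 2) = 0 from by decide +kernel]; simp
  have h6 : zv 70 t v (0, 2, 0) = v (0, 2, 0) := by
    rw [zv_def, show sg 70 (0, 2, 0) = 0 from by decide +kernel]; simp
  have h7 : zv 70 t v (0, 2, 1) = v (0, 2, 1) := by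
    rw [zv_def, show sg 70 (0, 2, 1) = 0 from by decide +kernel]; simp
  have h8 : zv 70 t v (0, 2, 2) = v (0, 2, 2) := by
    rw [zv_def, show sg 70 (0, 2, 2) = 0 from by decide +kernel]; simp
  have h9 : zv 70 t v (1, 0, 0) = v (1, 0, 0) + t * v (1, 0, 2) := by
    rw [zv_def, show sg 70 (1, 0, 0) = 1 from by decide +kernel, show sr 70 (1, 0, 0) = (1, 0, 2) from by decide +kernel]; simp
  have h10 : zv 70 t v (1, 0, 1) = v (1, 0, 1) := by
    rw [zv_def, show sg 70 (1, 0, 1) = 0 from by decide +kernel]; simp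
  have h11 : zv 70 t v (1, 0, 2) = v (1, 0, 2) := by
    rw [zv_def, show sg 70 (1, 0, 2) = 0 from by decide +kernel]; simp
  have h12 : zv 70 t v (1, 1, 0) = v (1, 1, 0) + t * v (1, 1, 2) := by
    rw [zv_def, show sg 70 (1, 1, 0) = 1 from by decide +kernel, show sr 70 (1, 1, 0) = (1, 1, 2) from by decide +kernel]; simp
  have h13 : zv 70 t v (1, 1, 1) = v (1, 1, 1) := by
    rw [zv_def, show sg 70 (1, 1, 1) = 0 from by decide +kernel]; simp
  have h14 : zv 70 t v (1, 1, 2) = v (1, 1, 2) := by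
    rw [zv_def, show sg 70 (1, 1, 2) = 0 from by decide +kernel]; simp
  have h15 : zv 70 t v (1, 2, 0) = v (1, 2, 0) + t * v (1, 2, 2) := by
    rw [zv_def, show sg 70 (1, 2, 0) = 1 from by decide +kernel, show sr 70 (1, 2, 0) = (1, 2, 2) from by decide +kernel]; simp
  have h16 : zv 70 t v (1, 2, 1) = v (1, 2, 1) := by
    rw [zv_def, show sg 70 (1, 2, 1) = 0 from by decide +kernel]; simp
  have h17 : zv 70 t v (1, 2, 2) = v (1, 2, 2) := by
    rw [zv_def, show sg 70 (1, 2, 2) = 0 from by decide +kernel]; simp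
  have h18 : zv 70 t v (2, 0, 0) = v (2, 0, 0) := by
    rw [zv_def, show sg 70 (2, 0, 0) = 0 from by decide +kernel]; simp
  have h19 : zv 70 t v (2, 0, 1) = v (2, 0, 1) := by
    rw [zv_def, show sg 70 (2, 0, 1) = 0 from by decide +kernel]; simp
  have h20 : zv 70 t v (2, 0, 2) = v (2, 0, 2) := by
    rw [zv_def, show sg 70 (2, 0, 2) = 0 from by decide +kernel]; simp
  have h21 : zv 70 t v (2, 1, 0) = v (2, 1, 0) := by
    rw [zv_def, show sg 70 (2, 1, 0) = 0 from by decide +kernel]; simp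
  have h22 : zv 70 t v (2, 1, 1) = v (2, 1, 1) := by
    rw [zv_def, show sg 70 (2, 1, 1) = 0 from by decide +kernel]; simp
  have h23 : zv 70 t v (2, 1, 2) = v (2, 1, 2) := by
    rw [zv_def, show sg 70 (2, 1, 2) = 0 from by decide +kernel]; simp
  have h24 : zv 70 t v (2, 2, 0) = v (2, 2, 0) - t * v (2, 0, 0) := by
    rw [zv_def, show sg 70 (2, 2, 0) = -1 from by decide +kernel, show sr 70 (2, 2, 0) = (2, 0, 0) from by decide +kernel]; push_cast; ring
  have h25 : zv 70 t v (2, 2, 1) = v (2, 2, 1) - t * v (2, 0, 1) := by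
    rw [zv_def, show sg 70 (2, 2, 1) = -1 from by decide +kernel, show sr 70 (2, 2, 1) = (2, 0, 1) from by decide +kernel]; push_cast; ring
  have h26 : zv 70 t v (2, 2, 2) = v (2, 2, 2) - t * v (2, 0, 2) := by
    rw [zv_def, show sg 70 (2, 2, 2) = -1 from by decide +kernel, show sr 70 (2, 2, 2) = (2, 0, 2) from by decide +kernel]; push_cast; ring
  rw [cubicT_expand, cubicT_expand]
  simp only [h0, h1, h2, h3, h4, h5, h6, h7, h8, h9, h10, h11, h12, h13, h14, h15, h16, h17, h18, h19, h20, h21, h22, h23, h24, h25, h26]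
  ring

theorem inv_71 {F : Type*} [CommRing F] (t : F) (v : I27 → F) : cubicT (zv 71 t v) = cubicT v := by
  have h0 : zv 71 t v (0, 0, 0) = v (0, 0, 0) := by
    rw [zv_def, show sg 71 (0, 0, 0) = 0 from by decide +kernel]; simp
  have h1 : zv 71 t v (0, 0, 1) = v (0, 0, 1) := by
    rw [zv_def, show sg 71 (0, 0, 1) = 0 from by decide +kernel]; simp
  have h2 : zv 71 t v (0, 0, 2) = v (0, 0, 2) := by
    rw [zv_def, show sg 71 (0, 0, 2) = 0 from by decide +kernel]; simp
  have h3 : zv 71 t v (0, 1, 0) = v (0, 1, 0) := by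
    rw [zv_def, show sg 71 (0, 1, 0) = 0 from by decide +kernel]; simp
  have h4 : zv 71 t v (0, 1, 1) = v (0, 1, 1) := by
    rw [zv_def, show sg 71 (0, 1, 1) = 0 from by decide +kernel]; simp
  have h5 : zv 71 t v (0, 1, 2) = v (0, 1, 2) := by
    rw [zv_def, show sg 71 (0, 1, 2) = 0 from by decide +kernel]; simp
  have h6 : zv 71 t v (0, 2, 0) = v (0, 2, 0) := by
    rw [zv_def, show sg 71 (0, 2, 0) = 0 from by decide +kernel]; simp
  have h7 : zv 71 t v (0, 2, 1) = v (0, 2, 1) := by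
    rw [zv_def, show sg 71 (0, 2, 1) = 0 from by decide +kernel]; simp
  have h8 : zv 71 t v (0, 2, 2) = v (0, 2, 2) := by
    rw [zv_def, show sg 71 (0, 2, 2) = 0 from by decide +kernel]; simp
  have h9 : zv 71 t v (1, 0, 0) = v (1, 0, 0) - t * v (1, 0, 1) := by
    rw [zv_def, show sg 71 (1, 0, 0) = -1 from by decide +kernel, show sr 71 (1, 0, 0) = (1, 0, 1) from by decide +kernel]; push_cast; ring
  have h10 : zv 71 t v (1, 0, 1) = v (1, 0, 1) := by
    rw [zv_def, show sg 71 (1, 0, 1) = 0 from by decide +kernel]; simp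
  have h11 : zv 71 t v (1, 0, 2) = v (1, 0, 2) := by
    rw [zv_def, show sg 71 (1, 0, 2) = 0 from by decide +kernel]; simp
  have h12 : zv 71 t v (1, 1, 0) = v (1, 1, 0) - t * v (1, 1, 1) := by
    rw [zv_def, show sg 71 (1, 1, 0) = -1 from by decide +kernel, show sr 71 (1, 1, 0) = (1, 1, 1) from by decide +kernel]; push_cast; ring
  have h13 : zv 71 t v (1, 1, 1) = v (1, 1, 1) := by
    rw [zv_def, show sg 71 (1, 1, 1) = 0 from by decide +kernel]; simp
  have h14 : zv 71 t v (1, 1, 2) = v (1, 1, 2) := by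
    rw [zv_def, show sg 71 (1, 1, 2) = 0 from by decide +kernel]; simp
  have h15 : zv 71 t v (1, 2, 0) = v (1, 2, 0) - t * v (1, 2, 1) := by
    rw [zv_def, show sg 71 (1, 2, 0) = -1 from by decide +kernel, show sr 71 (1, 2, 0) = (1, 2, 1) from by decide +kernel]; push_cast; ring
  have h16 : zv 71 t v (1, 2, 1) = v (1, 2, 1) := by
    rw [zv_def, show sg 71 (1, 2, 1) = 0 from by decide +kernel]; simp
  have h17 : zv 71 t v (1, 2, 2) = v (1, 2, 2) := by
    rw [zv_def, show sg 71 (1, 2, 2) = 0 from by decide +kernel]; simp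
  have h18 : zv 71 t v (2, 0, 0) = v (2, 0, 0) := by
    rw [zv_def, show sg 71 (2, 0, 0) = 0 from by decide +kernel]; simp
  have h19 : zv 71 t v (2, 0, 1) = v (2, 0, 1) := by
    rw [zv_def, show sg 71 (2, 0, 1) = 0 from by decide +kernel]; simp
  have h20 : zv 71 t v (2, 0, 2) = v (2, 0, 2) := by
    rw [zv_def, show sg 71 (2, 0, 2) = 0 from by decide +kernel]; simp
  have h21 : zv 71 t v (2, 1, 0) = v (2, 1, 0) + t * v (2, 0, 0) := by
    rw [zv_def, show sg 71 (2, 1, 0) = 1 from by decide +kernel, show sr 71 (2, 1, 0) = (2, 0, 0) from by decide +kernel]; simp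
  have h22 : zv 71 t v (2, 1, 1) = v (2, 1, 1) + t * v (2, 0, 1) := by
    rw [zv_def, show sg 71 (2, 1, 1) = 1 from by decide +kernel, show sr 71 (2, 1, 1) = (2, 0, 1) from by decide +kernel]; simp
  have h23 : zv 71 t v (2, 1, 2) = v (2, 1, 2) + t * v (2, 0, 2) := by
    rw [zv_def, show sg 71 (2, 1, 2) = 1 from by decide +kernel, show sr 71 (2, 1, 2) = (2, 0, 2) from by decide +kernel]; simp
  have h24 : zv 71 t v (2, 2, 0) = v (2, 2, 0) := by
    rw [zv_def, show sg 71 (2, 2, 0) = 0 from by decide +kernel]; simp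
  have h25 : zv 71 t v (2, 2, 1) = v (2, 2, 1) := by
    rw [zv_def, show sg 71 (2, 2, 1) = 0 from by decide +kernel]; simp
  have h26 : zv 71 t v (2, 2, 2) = v (2, 2, 2) := by
    rw [zv_def, show sg 71 (2, 2, 2) = 0 from by decide +kernel]; simp
  rw [cubicT_expand, cubicT_expand]
  simp only [h0, h1, h2, h3, h4, h5, h6, h7, h8, h9, h10, h11, h12, h13, h14, h15, h16, h17, h18, h19, h20, h21, h22, h23, h24, h25, h26]
  ring

end Cfsg.Agent.ChevalleyStructure.E6Min.Inv4
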