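import Cfsg.Agent.ChevalleyStructure.E6Min.Inv1
import Cfsg.Agent.ChevalleyStructure.E6Min.Inv2
import Cfsg.Agent.ChevalleyStructure.E6Min.Inv3
import Cfsg.Agent.ChevalleyStructure.E6Min.Inv4

/-!
# The root elements `z_r(t)` lie in the isometry group of the cubic form
-/

set_option autoImplicit false

namespace Cfsg.Agent.ChevalleyStructure.E6Min.Inv

open Cfsg.Lie Cfsg.Agent.ChevalleyStructure.E6Min.Tables Cfsg.Agent.ChevalleyStructure.E6Min.Basic
  Cfsg.Agent.ChevalleyStructure.E6Min.Expand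
open scoped Matrix

theorem inv_all {F : Type*} [CommRing F] {r : ℕ} (hr : r < 72) (t : F) (v : I27 → F) :
    cubicT (zv r t v) = cubicT v := by
  interval_cases r
  · exact Inv1.inv_0 t v
  · exact Inv1.inv_1 t v
  · exact Inv1.inv_2 t v
  · exact Inv1.inv_3 t v
  · exact Inv1.inv_4 t v
  · exact Inv1.inv_5 t v
  · exact Inv1.inv_6 t v
  · exact Inv1.inv_7 t v
  · exact Inv1.inv_8 t v
  · exact Inv1.inv_9 t v
  · exact Inv1.inv_10 t v
  · exact Inv1.inv_11 t v
  · exact Inv1.inv_12 t v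
  · exact Inv1.inv_13 t v
  · exact Inv1.inv_14 t v
  · exact Inv1.inv_15 t v
  · exact Inv1.inv_16 t v
  · exact Inv1.inv_17 t v
  · exact Inv2.inv_18 t v
  · exact Inv2.inv_19 t v
  · exact Inv2.inv_20 t v
  · exact Inv2.inv_21 t v
  · exact Inv2.inv_22 t v
  · exact Inv2.inv_23 t v
  · exact Inv2.inv_24 t v
  · exact Inv2.inv_25 t v
  · exact Inv2.inv_26 t v
  · exact Inv2.inv_27 t v
  · exact Inv2.inv_28 t v
  · exact Inv2.inv_29 t v
  · exact Inv2.inv_30 t v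
  · exact Inv2.inv_31 t v
  · exact Inv2.inv_32 t v
  · exact Inv2.inv_33 t v
  · exact Inv2.inv_34 t v
  · exact Inv2.inv_35 t v
  · exact Inv3.inv_36 t v
  · exact Inv3.inv_37 t v
  · exact Inv3.inv_38 t v
  · exact Inv3.inv_39 t v
  · exact Inv3.inv_40 t v
  · exact Inv3.inv_41 t v
  · exact Inv3.inv_42 t v
  · exact Inv3.inv_43 t v
  · exact Inv3.inv_44 t v
  · exact Inv3.inv_45 t v
  · exact Inv3.inv_46 t v
  · exact Inv3.inv_47 t v
  · exact Inv3.inv_48 t v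
  · exact Inv3.inv_49 t v
  · exact Inv3.inv_50 t v
  · exact Inv3.inv_51 t v
  · exact Inv3.inv_52 t v
  · exact Inv3.inv_53 t v
  · exact Inv4.inv_54 t v
  · exact Inv4.inv_55 t v
  · exact Inv4.inv_56 t v
  · exact Inv4.inv_57 t v
  · exact Inv4.inv_58 t v
  · exact Inv4.inv_59 t v
  · exact Inv4.inv_60 t v
  · exact Inv4.inv_61 t v
  · exact Inv4.inv_62 t v
  · exact Inv4.inv_63 t v
  · exact Inv4.inv_64 t v
  · exact Inv4.inv_65 t v
  · exact Inv4.inv_66 t v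
  · exact Inv4.inv_67 t v
  · exact Inv4.inv_68 t v
  · exact Inv4.inv_69 t v
  · exact Inv4.inv_70 t v
  · exact Inv4.inv_71 t v

theorem cubicT_zM {F : Type*} [CommRing F] {r : ℕ} (hr : r < 72) (t : F) (v : I27 → F) :
    cubicT (zM r t *ᵥ v) = cubicT v := by
  have : zM r t *ᵥ v = zv r t v := by
    ext x; rw [zM_mulVec, zv_def]
  rw [this, inv_all hr]

theorem Zgrp_le (F : Type*) [Field F] : Zgrp F ≤ E6univ F := by
  unfold Zgrp
  rw [Subgroup.closure_le]
  rintro g ⟨r, t, hr, hg⟩ v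
  change cubicT ((g : Matrix I27 I27 F) *ᵥ v) = cubicT v
  rw [hg, cubicT_zM hr]

end Cfsg.Agent.ChevalleyStructure.E6Min.Inv
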