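import Cfsg.Agent.ChevalleyStructure.E6Min.Forms
import Cfsg.Agent.ChevalleyStructure.E6Min.Inv

/-!
# Elimination: every isometry of the cubic form is diagonal modulo the group generated by the root elements
-/

set_option autoImplicit false
set_option maxHeartbeats 400000

namespace Cfsg.Agent.ChevalleyStructure.E6Min.Elim

open Cfsg.Lie Cfsg.Agent.ChevalleyStructure.E6Min.Tables Cfsg.Agent.ChevalleyStructure.E6Min.Basic
  Cfsg.Agent.ChevalleyStructure.E6Min.Expand Cfsg.Agent.ChevalleyStructure.E6Min.Checks2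
  Cfsg.Agent.ChevalleyStructure.E6Min.Forms Cfsg.Agent.ChevalleyStructure.E6Min.Inv
open scoped Matrix

/-! ### combinatorial facts -/

theorem rt_spec {i j : I27} (h : rel i j = 1) : rt i j < 72 ∧ sg (rt i j) j ≠ 0 ∧ sr (rt i j) j = i ∧
    sg (rt i j) i = 0 := by
  have := allLt_spec (allLt_spec rt_all _ (code_lt i)) _ (code_lt j)
  simp only [Bool.or_eq_true, Bool.and_eq_true, Nat.blt_eq, beq_iff_eq, Bool.not_eq_true', beq_eq_false_iff_ne] at this
  rcases this with h1 | h1
  · exact absurd h h1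
  · obtain ⟨⟨⟨h1, h2⟩, h3⟩, h4⟩ := h1
    refine ⟨h1, h2, ?_, h4⟩
    change dec (srN (rtN (code i) (code j)) (code j)) = i
    rw [h3, dec_code]

theorem c4 {i j k : I27} (h : rel i j = 1) (hk : rel i k = 1) (hne : k ≠ j) : sg (rt i j) k = 0 := by
  have := allLt_spec (allLt_spec c4_all _ (code_lt i)) _ (code_lt j)
  rw [Bool.or_eq_true] at this
  rcases this with h1 | h1
  · exact absurd h (by simpa [rel] using h1)
  · have := allLt_spec h1 _ (code_lt k)
    simp only [Bool.or_eq_true, beq_iff_eq, Bool.not_eq_true', beq_eq_false_iff_ne] at this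
    rcases this with (h2 | h2) | h2
    · exact absurd hk h2
    · exact absurd (code_injective h2) hne
    · exact h2

theorem c1 {i j m : I27} (h : rel i j = 1) (hm : m ≠ i) (hm2 : ¬ (rel m i = 1 ∧ rel m j = 2)) (x : I27) :
    sg (rt i j) x = 0 ∨ sr (rt i j) x ≠ m := by
  have := allLt_spec (allLt_spec c1_all _ (code_lt i)) _ (code_lt j)
  rw [Bool.or_eq_true] at this
  rcases this with h1 | h1
  · exact absurd h (by simpa [rel] using h1)
  · have := allLt_spec h1 _ (code_lt m)
    rw [Bool.or_eq_true, Bool.or_eq_true] at this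
    rcases this with (h2 | h2) | h2
    · exact absurd (code_injective (beq_iff_eq.mp h2)) hm
    · rw [Bool.and_eq_true] at h2
      exact absurd ⟨beq_iff_eq.mp h2.1, beq_iff_eq.mp h2.2⟩ hm2
    · have h3 := allLt_spec h2 _ (code_lt x)
      simp only [Bool.or_eq_true, beq_iff_eq, Bool.not_eq_true', beq_eq_false_iff_ne] at h3
      rcases h3 with h3 | h3
      · exact Or.inl h3
      · right
        intro h4
        apply h3
        rw [← h4]
        exact (code_sr (rt_spec h).1 x).symm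

section

variable {F : Type*} [Field F]

theorem sg_cast_ne_zero {r : ℕ} {x : I27} (h : sg r x ≠ 0) : ((sg r x : ℤ) : F) ≠ 0 := by
  unfold sg sgN at *
  split_ifs at * <;> simp_all

theorem zM_e_fix {i j m : I27} (h : rel i j = 1) (hm : m ≠ i) (hm2 : ¬ (rel m i = 1 ∧ rel m j = 2)) (t : F) :
    zM (rt i j) t *ᵥ e F m = e F m := by
  ext x
  rw [zM_mulVec]
  rcases c1 h hm hm2 x with h1 | h1
  · rw [h1]; simp
  · rw [e_apply _ (sr _ x), if_neg h1]; simp

theorem T3_symm (u v w : I27 → F) : T3 u v w = T3 u w v := by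
  unfold T3
  refine Finset.sum_congr rfl fun n _ => ?_
  ring

/-- `T3 u v` as a linear functional -/
def T3L (u v : I27 → F) : (I27 → F) →ₗ[F] F where
  toFun := T3 u v
  map_add' w w' := by
    simp only [T3, ← Finset.sum_add_distrib, Pi.add_apply]
    refine Finset.sum_congr rfl fun n _ => ?_
    ring
  map_smul' c w := by
    rw [T3_smul_right]; rfl

theorem T3_eq_zero_of_basis {u v : I27 → F} (h : ∀ k, T3 u v (e F k) = 0) (w : I27 → F) : T3 u v w = 0 := by
  have h1 : T3L u v w = 0 := by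
    rw [LinearMap.pi_apply_eq_sum_univ (T3L u v) w]
    refine Finset.sum_eq_zero fun k _ => ?_
    have : (fun j => if k = j then (1 : F) else 0) = e F k := by
      ext j; rw [e_apply]; simp only [eq_comm]
    rw [this]
    change w k • T3 u v (e F k) = 0
    rw [h k, smul_zero]
  exact h1

/-- the property of scaling the basis vector `m` -/
def Scales (g : GL I27 F) (m : I27) : Prop := ∃ c : F, c ≠ 0 ∧ (g : Matrix I27 I27 F) *ᵥ e F m = c • e F m

theorem coe_mul_mulVec (z g : GL I27 F) (v : I27 → F) :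
    ((z * g : GL I27 F) : Matrix I27 I27 F) *ᵥ v = (z : Matrix I27 I27 F) *ᵥ ((g : Matrix I27 I27 F) *ᵥ v) := by
  rw [Units.val_mul, Matrix.mulVec_mulVec]

theorem mulVec_inv_cancel (g : GL I27 F) (v : I27 → F) :
    (g : Matrix I27 I27 F) *ᵥ (((g⁻¹ : GL I27 F) : Matrix I27 I27 F) *ᵥ v) = v := by
  rw [← coe_mul_mulVec, mul_inv_cancel, Units.val_one, Matrix.one_mulVec]

theorem scales_mul {z g : GL I27 F} {m : I27} (hz : (z : Matrix I27 I27 F) *ᵥ e F m = e F m) (hg : Scales g m) :
    Scales (z * g) m := by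
  obtain ⟨c, hc, h⟩ := hg
  refine ⟨c, hc, ?_⟩
  rw [coe_mul_mulVec, h, Matrix.mulVec_smul, hz]

/-- if `g` scales `e_m` and `m` is a neighbour of `i`, then `g e_i` has no coordinates in `10(m)` -/
theorem coord_zero {g : GL I27 F} (hg : g ∈ E6univ F) {m i j : I27} (hm : Scales g m) (h1 : rel m i = 1)
    (h2 : rel m j = 2) : ((g : Matrix I27 I27 F) *ᵥ e F i) j = 0 := by
  obtain ⟨c, hc, hgm⟩ := hm
  obtain ⟨-, -, -, -, h3, -, h4⟩ := th_spec h2
  have h5 : T3 (e F m) ((g : Matrix I27 I27 F) *ᵥ e F i) (e F (th m j)) =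
      ((tsN (tn m (th m j)) : ℤ) : F) * ((g : Matrix I27 I27 F) *ᵥ e F i) j := by
    rw [T3_basis h3, h4]
  have h6 : c * T3 (e F m) ((g : Matrix I27 I27 F) *ᵥ e F i) (e F (th m j)) = 0 := by
    rw [← T3_smul_left, ← hgm]
    have := T3_inv hg (e F m) (e F i) (((g⁻¹ : GL I27 F) : Matrix I27 I27 F) *ᵥ (e F (th m j)))
    rw [mulVec_inv_cancel] at this
    rw [this, T3_symm]
    exact T3_basis_eq_zero (by omega) _
  rw [h5] at h6
  rcases mul_eq_zero.mp h6 with h7 | h7
  · exact absurd h7 hc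
  · rcases mul_eq_zero.mp h7 with h8 | h8
    · exact absurd h8 (tsN_ne_zero _)
    · exact h8

/-- if `g` scales `e_m` and `i ∈ 10(m)`, then `g e_i` has a coordinate in `10(m)` -/
theorem exists_coord {g : GL I27 F} (hg : g ∈ E6univ F) {m i : I27} (hm : Scales g m) (h1 : rel m i = 2) :
    ∃ j, rel m j = 2 ∧ ((g : Matrix I27 I27 F) *ᵥ e F i) j ≠ 0 := by
  by_contra hcon
  push Not at hcon
  obtain ⟨c, hc, hgm⟩ := hm
  obtain ⟨-, -, -, -, h3, -, h4⟩ := th_spec h1
  have h5 : T3 (e F m) (e F i) (e F (th m i)) = ((tsN (tn m (th m i)) : ℤ) : F) := by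
    rw [T3_basis h3, h4, e_apply, if_pos rfl, mul_one]
  have h6 := T3_inv hg (e F m) (e F i) (e F (th m i))
  rw [h5, hgm, T3_smul_left] at h6
  have h7 : T3 (e F m) ((g : Matrix I27 I27 F) *ᵥ e F i) ((g : Matrix I27 I27 F) *ᵥ e F (th m i)) = 0 := by
    apply T3_eq_zero_of_basis
    intro k
    by_cases hk : rel m k = 2
    · rw [T3_basis hk, hcon _ (th_spec hk).2.2.2.2.1, mul_zero]
    · exact T3_basis_eq_zero hk _
  rw [h7, mul_zero] at h6
  exact tsN_ne_zero _ h6.symm

/-- if `g` scales two points of a triad, it keeps the coordinate of the third -/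
theorem third_coord {g : GL I27 F} (hg : g ∈ E6univ F) {m k : I27} (hm : Scales g m) (hk : Scales g k)
    (h1 : rel m k = 2) : ((g : Matrix I27 I27 F) *ᵥ e F (th m k)) (th m k) ≠ 0 := by
  obtain ⟨c, hc, hgm⟩ := hm
  obtain ⟨d, hd, hgk⟩ := hk
  have h5 := T3_inv hg (e F m) (e F (th m k)) (e F k)
  rw [hgm, hgk, T3_smul_left, T3_smul_right, T3_basis h1, T3_basis h1, e_apply, if_pos rfl, mul_one] at h5
  intro h0
  rw [h0] at h5
  simp only [mul_zero] at h5
  exact tsN_ne_zero _ h5.symm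

theorem clear_aux (v : I27 → F) {i : I27} (hvi : v i ≠ 0) (M : List ℕ) (hi : code i ∉ M)
    (hM : ∀ m, code m ∈ M → rel m i = 1 → ∀ j, rel m j = 2 → v j = 0) :
    ∀ l : List I27, (∀ j ∈ l, rel i j = 1) → ∃ z ∈ Zgrp F,
      (∀ m, code m ∈ M → (z : Matrix I27 I27 F) *ᵥ e F m = e F m) ∧ ((z : Matrix I27 I27 F) *ᵥ v) i = v i ∧
      (∀ j ∈ l, ((z : Matrix I27 I27 F) *ᵥ v) j = 0) ∧
      (∀ j, rel i j = 1 → j ∉ l → ((z : Matrix I27 I27 F) *ᵥ v) j = v j) := by
  intro l
  induction l with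
  | nil =>
    intro _
    refine ⟨1, one_mem _, ?_, ?_, ?_, ?_⟩
    · intro m _; rw [Units.val_one, Matrix.one_mulVec]
    · rw [Units.val_one, Matrix.one_mulVec]
    · intro j hj; simp at hj
    · intro j _ _; rw [Units.val_one, Matrix.one_mulVec]
  | cons j l ih =>
    intro hl
    obtain ⟨z, hz, hz1, hz2, hz3, hz4⟩ := ih fun k hk => hl k (List.mem_cons_of_mem _ hk)
    have hj : rel i j = 1 := hl j List.mem_cons_self
    by_cases hjl : j ∈ l
    · refine ⟨z, hz, hz1, hz2, ?_, ?_⟩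
      · intro k hk
        rcases List.mem_cons.mp hk with rfl | hk
        · exact hz3 _ hjl
        · exact hz3 _ hk
      · intro k hk hkl
        exact hz4 k hk fun h => hkl (List.mem_cons_of_mem _ h)
    · by_cases hvj : v j = 0
      · refine ⟨z, hz, hz1, hz2, ?_, ?_⟩
        · intro k hk
          rcases List.mem_cons.mp hk with rfl | hk
          · rw [hz4 _ hj hjl, hvj]
          · exact hz3 _ hk
        · intro k hk hkl
          exact hz4 k hk fun h => hkl (List.mem_cons_of_mem _ h)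
      · obtain ⟨hr, hsg, hsr, hsi⟩ := rt_spec hj
        have ha : ((sg (rt i j) j : ℤ) : F) ≠ 0 := sg_cast_ne_zero hsg
        set t : F := -(v j) / (((sg (rt i j) j : ℤ) : F) * v i) with ht
        refine ⟨zU (rt i j) t * z, mul_mem (zU_mem _ _) hz, ?_, ?_, ?_, ?_⟩
        · intro m hm
          rw [coe_mul_mulVec, hz1 m hm, coe_zU hr]
          apply zM_e_fix hj
          · rintro rfl; exact hi hm
          · rintro ⟨h1, h2⟩
            exact hvj (hM m hm h1 j h2)
        · rw [coe_mul_mulVec, coe_zU hr, zM_mulVec, hsi, hz2]; simp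
        · intro k hk
          rw [coe_mul_mulVec, coe_zU hr, zM_mulVec]
          by_cases hkj : k = j
          · subst hkj
            rw [hsr, hz2, hz4 k hj hjl, ht]
            field_simp
            ring
          · rcases List.mem_cons.mp hk with h | hk
            · exact absurd h hkj
            · rw [c4 hj (hl k (List.mem_cons_of_mem _ hk)) hkj, hz3 k hk]; simp
        · intro k hk hkl
          rw [coe_mul_mulVec, coe_zU hr, zM_mulVec]
          have hkj : k ≠ j := fun h => hkl (h ▸ List.mem_cons_self)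
          rw [c4 hj hk hkj, hz4 k hk fun h => hkl (List.mem_cons_of_mem _ h)]; simp

theorem mem_E6univ_of_mem {z : GL I27 F} (hz : z ∈ Zgrp F) : z ∈ E6univ F := Zgrp_le F hz

theorem clear [Fintype F] (hF : 3 ≤ Fintype.card F) {g : GL I27 F} (hg : g ∈ E6univ F) {i : I27} (M : List ℕ)
    (hi : code i ∉ M) (hM : ∀ m, code m ∈ M → Scales g m) (hv : ((g : Matrix I27 I27 F) *ᵥ e F i) i ≠ 0) :
    ∃ z ∈ Zgrp F, (∀ m, code m ∈ M → Scales (z * g) m) ∧ Scales (z * g) i := by
  set v := (g : Matrix I27 I27 F) *ᵥ e F i with hvdef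
  obtain ⟨z, hz, hz1, hz2, hz3, -⟩ := clear_aux v hv M hi
    (fun m hm h1 j h2 => coord_zero hg (hM m hm) h1 h2)
    ((Finset.univ.filter fun j => rel i j = 1).toList) (by intro j hj; simpa using hj)
  have hzg : z * g ∈ E6univ F := mul_mem (mem_E6univ_of_mem hz) hg
  refine ⟨z, hz, fun m hm => scales_mul (hz1 m hm) (hM m hm), v i, hv, ?_⟩
  rw [coe_mul_mulVec, ← hvdef]
  have hu1 : ∀ j, rel i j = 1 → ((z : Matrix I27 I27 F) *ᵥ v) j = 0 := fun j hj => hz3 j (by simpa using hj)
  have hsing : ∀ w, D ((z : Matrix I27 I27 F) *ᵥ v) w = 0 := by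
    intro w
    have h1 := D_inv hF hzg (e F i) ((((z * g)⁻¹ : GL I27 F) : Matrix I27 I27 F) *ᵥ w)
    rw [mulVec_inv_cancel, D_single, coe_mul_mulVec] at h1
    exact h1
  ext k
  rcases rel_cases i k with rfl | h | h
  · rw [hz2, Pi.smul_apply, e_apply, if_pos rfl, smul_eq_mul, mul_one]
  · have hne : k ≠ i := fun h' => by
      have := (rel_eq_zero_iff i k).mpr h'.symm
      omega
    rw [hu1 k h, Pi.smul_apply, e_apply, if_neg hne, smul_zero]
  · have hne : k ≠ i := fun h' => by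
      have := (rel_eq_zero_iff i k).mpr h'.symm
      omega
    obtain ⟨-, -, -, -, h3, -, h4⟩ := th_spec h
    have h5 := D_basis h3 _ hu1
    rw [hsing, h4, hz2] at h5
    rw [Pi.smul_apply, e_apply, if_neg hne, smul_zero]
    rcases mul_eq_zero.mp h5.symm with h6 | h6
    · exact absurd h6 (tsN_ne_zero _)
    · rcases mul_eq_zero.mp h6 with h7 | h7
      · exact absurd h7 hv
      · exact h7

/-! ### connecting -/

/-- the root element moving `j` to `i` fixes `e_m` -/
def fxN (j i m : ℕ) : Bool := !(m == j) && !((relN m j == 1) && (relN m i == 2))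

theorem fx_spec {j i m : I27} (hji : rel j i = 1) (h : fxN (code j) (code i) (code m) = true) (t : F) :
    zM (rt j i) t *ᵥ e F m = e F m := by
  simp only [fxN, Bool.and_eq_true, Bool.not_eq_true', beq_eq_false_iff_ne, Bool.and_eq_false_iff] at h
  apply zM_e_fix hji
  · rintro rfl; exact h.1 rfl
  · rintro ⟨h1, h2⟩
    rcases h.2 with h3 | h3
    · exact h3 h1
    · exact h3 h2

/-- one connecting step -/
theorem conn {M : List ℕ} {j i : I27} (hji : rel j i = 1) (hM : M.all (fxN (code j) (code i)) = true)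
    (v : I27 → F) (hv : v j ≠ 0) :
    ∃ z ∈ Zgrp F, (∀ m, code m ∈ M → (z : Matrix I27 I27 F) *ᵥ e F m = e F m) ∧
      ((z : Matrix I27 I27 F) *ᵥ v) i ≠ 0 := by
  by_cases h0 : v i = 0
  · obtain ⟨hr, hsg, hsr, hsi⟩ := rt_spec hji
    refine ⟨zU (rt j i) 1, zU_mem _ _, ?_, ?_⟩
    · intro m hm
      rw [coe_zU hr]
      exact fx_spec hji (List.all_eq_true.mp hM _ hm) 1
    · rw [coe_zU hr, zM_mulVec, h0, hsr, one_mul, zero_add]
      exact mul_ne_zero (sg_cast_ne_zero hsg) hv
  · refine ⟨1, one_mem _, ?_, ?_⟩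
    · intro m _; rw [Units.val_one, Matrix.one_mulVec]
    · rw [Units.val_one, Matrix.one_mulVec]; exact h0

/-- allowed coordinates of the image of `e_i` -/
def allowedN (M : List ℕ) (i j : ℕ) : Bool := M.all fun m => !((relN m i == 1) && (relN m j == 2))

/-- existence of a path from `j` to `i` by root elements fixing the basis vectors in `M` -/
def pathN (M : List ℕ) (i j : ℕ) : Bool := (j == i) || ((relN j i == 1) && M.all (fxN j i)) ||
  !(allLt 27 fun k => !((relN j k == 1) && (relN k i == 1) && M.all (fxN j k) && M.all (fxN k i)))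

theorem not_allLt {n : ℕ} {p : ℕ → Bool} (h : (!(allLt n p)) = true) : ∃ k < n, p k = false := by
  induction n with
  | zero => exact absurd (show false = true from h) Bool.false_ne_true
  | succ n ih =>
    have h' : (!(p n && allLt n p)) = true := h
    rw [Bool.not_eq_true', Bool.and_eq_false_iff] at h'
    rcases h' with h1 | h1
    · exact ⟨n, Nat.lt_succ_self n, h1⟩
    · obtain ⟨k, hk, hp⟩ := ih (by rw [h1]; rfl)
      exact ⟨k, Nat.lt_succ_of_lt hk, hp⟩

theorem path_spec {M : List ℕ} {i j : I27} (h : pathN M (code i) (code j) = true) (v : I27 → F) (hv : v j ≠ 0) :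
    ∃ z ∈ Zgrp F, (∀ m, code m ∈ M → (z : Matrix I27 I27 F) *ᵥ e F m = e F m) ∧
      ((z : Matrix I27 I27 F) *ᵥ v) i ≠ 0 := by
  unfold pathN at h
  rw [Bool.or_eq_true, Bool.or_eq_true] at h
  rcases h with (h | h) | h
  · have : j = i := code_injective (beq_iff_eq.mp h)
    subst this
    refine ⟨1, one_mem _, ?_, ?_⟩
    · intro m _; rw [Units.val_one, Matrix.one_mulVec]
    · rw [Units.val_one, Matrix.one_mulVec]; exact hv
  · rw [Bool.and_eq_true] at h
    exact conn (beq_iff_eq.mp h.1) h.2 v hv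
  · obtain ⟨k, hk, hp⟩ := not_allLt h
    rw [Bool.not_eq_false', Bool.and_eq_true, Bool.and_eq_true, Bool.and_eq_true] at hp
    obtain ⟨⟨⟨h1, h2⟩, h3⟩, h4⟩ := hp
    have hck : code (dec k) = k := code_dec hk
    obtain ⟨z, hz, hz1, hz2⟩ := conn (j := j) (i := dec k) (M := M)
      (by unfold rel; rw [hck]; exact beq_iff_eq.mp h1) (by rw [hck]; exact h3) v hv
    obtain ⟨z', hz', hz1', hz2'⟩ := conn (j := dec k) (i := i) (M := M)
      (by unfold rel; rw [hck]; exact beq_iff_eq.mp h2) (by rw [hck]; exact h4) _ hz2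
    refine ⟨z' * z, mul_mem hz' hz, ?_, ?_⟩
    · intro m hm
      rw [coe_mul_mulVec, hz1 m hm, hz1' m hm]
    · rw [coe_mul_mulVec]; exact hz2'

/-- the check for a step of the elimination -/
def stepN (M : List ℕ) (i ty m0 k0 : ℕ) : Bool :=
  !(M.contains i) &&
  (if ty = 0 then allLt 27 fun j => !(allowedN M i j) || pathN M i j
   else if ty = 1 then M.contains m0 && (relN m0 i == 2) && Nat.blt m0 27 &&
      allLt 27 fun j => !(allowedN M i j && (relN m0 j == 2)) || pathN M i j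
   else M.contains m0 && M.contains k0 && (relN m0 k0 == 2) && (thN m0 k0 == i) && Nat.blt m0 27 && Nat.blt k0 27)

theorem allowed_of {g : GL I27 F} (hg : g ∈ E6univ F) {M : List ℕ} (hM : ∀ m, code m ∈ M → Scales g m)
    (hMlt : ∀ m ∈ M, m < 27) {i j : I27} (hj : ((g : Matrix I27 I27 F) *ᵥ e F i) j ≠ 0) :
    allowedN M (code i) (code j) = true := by
  unfold allowedN
  rw [List.all_eq_true]
  intro m hm
  rw [Bool.not_eq_true', Bool.and_eq_false_iff]
  by_contra hcon
  push Not at hcon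
  simp only [ne_eq, Bool.not_eq_false, beq_iff_eq] at hcon
  have hcm : code (dec m) = m := code_dec (hMlt m hm)
  apply hj
  refine coord_zero (m := dec m) hg (hM _ (by rw [hcm]; exact hm)) ?_ ?_
  · unfold rel; rw [hcm]; exact hcon.1
  · unfold rel; rw [hcm]; exact hcon.2

theorem exists_coord_ne (g : GL I27 F) (i : I27) : ∃ j, ((g : Matrix I27 I27 F) *ᵥ e F i) j ≠ 0 := by
  by_contra hcon
  push Not at hcon
  have h0 : (g : Matrix I27 I27 F) *ᵥ e F i = 0 := funext hcon
  have h1 : e F i = 0 := by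
    have := congrArg (fun w => ((g⁻¹ : GL I27 F) : Matrix I27 I27 F) *ᵥ w) h0
    simp only [Matrix.mulVec_zero] at this
    rw [← coe_mul_mulVec, inv_mul_cancel, Units.val_one, Matrix.one_mulVec] at this
    exact this
  have h2 := congrFun h1 i
  rw [e_apply, if_pos rfl] at h2
  exact one_ne_zero h2

theorem step [Fintype F] (hF : 3 ≤ Fintype.card F) {g : GL I27 F} (hg : g ∈ E6univ F) {M : List ℕ} {i ty m0 k0 : ℕ}
    (hi : i < 27) (hMlt : ∀ m ∈ M, m < 27) (hM : ∀ m, code m ∈ M → Scales g m)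
    (hs : stepN M i ty m0 k0 = true) :
    ∃ z ∈ Zgrp F, ∀ m, code m ∈ i :: M → Scales (z * g) m := by
  have hci : code (dec i) = i := code_dec hi
  unfold stepN at hs
  rw [Bool.and_eq_true] at hs
  obtain ⟨hs0, hs⟩ := hs
  have hiM : code (dec i) ∉ M := by
    rw [hci]; simpa using hs0
  -- it is enough to make the coordinate non-zero
  have main : (∃ z ∈ Zgrp F, (∀ m, code m ∈ M → (z : Matrix I27 I27 F) *ᵥ e F m = e F m) ∧
      ((z : Matrix I27 I27 F) *ᵥ ((g : Matrix I27 I27 F) *ᵥ e F (dec i))) (dec i) ≠ 0) →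
      ∃ z ∈ Zgrp F, ∀ m, code m ∈ i :: M → Scales (z * g) m := by
    rintro ⟨z, hz, hz1, hz2⟩
    rw [← coe_mul_mulVec] at hz2
    obtain ⟨z', hz', h1, h2⟩ := clear hF (mul_mem (mem_E6univ_of_mem hz) hg) M hiM
      (fun m hm => scales_mul (hz1 m hm) (hM m hm)) hz2
    refine ⟨z' * z, mul_mem hz' hz, fun m hm => ?_⟩
    rw [mul_assoc]
    rcases List.mem_cons.mp hm with h3 | h3
    · have : m = dec i := by rw [← h3, dec_code]
      rw [this]; exact h2
    · exact h1 m h3
  apply main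
  split_ifs at hs with ht0 ht1
  · obtain ⟨j, hj⟩ := exists_coord_ne g (dec i)
    have h1 := allLt_spec hs _ (code_lt j)
    have h2 := allowed_of hg hM hMlt hj
    rw [hci] at h2
    rw [h2] at h1
    have h3 : pathN M (code (dec i)) (code j) = true := by rw [hci]; simpa using h1
    exact path_spec h3 _ hj
  · simp only [Bool.and_eq_true, beq_iff_eq, Nat.blt_eq] at hs
    obtain ⟨⟨⟨h1, h2⟩, h3⟩, h4⟩ := hs
    have hcm : code (dec m0) = m0 := code_dec h3
    obtain ⟨j, hj1, hj⟩ := exists_coord hg (m := dec m0) (i := dec i)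
      (hM _ (by rw [hcm]; simpa using h1)) (by unfold rel; rw [hcm, hci]; exact h2)
    have h5 := allLt_spec h4 _ (code_lt j)
    have h6 := allowed_of hg hM hMlt hj
    rw [hci] at h6
    unfold rel at hj1
    rw [hcm] at hj1
    rw [h6, hj1] at h5
    have h7 : pathN M (code (dec i)) (code j) = true := by rw [hci]; simpa using h5
    exact path_spec h7 _ hj
  · simp only [Bool.and_eq_true, beq_iff_eq, Nat.blt_eq] at hs
    obtain ⟨⟨⟨⟨⟨h1, h2⟩, h3⟩, h4⟩, h5⟩, h6⟩ := hs
    have hcm : code (dec m0) = m0 := code_dec h5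
    have hck : code (dec k0) = k0 := code_dec h6
    have hth : th (dec m0) (dec k0) = dec i := by unfold th; rw [hcm, hck, h4]
    have h7 := third_coord hg (m := dec m0) (k := dec k0) (hM _ (by rw [hcm]; simpa using h1))
      (hM _ (by rw [hck]; simpa using h2)) (by unfold rel; rw [hcm, hck]; exact h3)
    rw [hth] at h7
    refine ⟨1, one_mem _, ?_, ?_⟩
    · intro m _; rw [Units.val_one, Matrix.one_mulVec]
    · rw [Units.val_one, Matrix.one_mulVec]; exact h7

/-- the check of a whole elimination sequence -/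
def checkSeq : List ℕ → List (ℕ × ℕ × ℕ × ℕ) → Bool
  | M, [] => allLt 27 fun x => M.contains x
  | M, s :: l => Nat.blt s.1 27 && stepN M s.1 s.2.1 s.2.2.1 s.2.2.2 && checkSeq (s.1 :: M) l

theorem elim_aux [Fintype F] (hF : 3 ≤ Fintype.card F) (l : List (ℕ × ℕ × ℕ × ℕ)) :
    ∀ (M : List ℕ) (g : GL I27 F), g ∈ E6univ F → (∀ m ∈ M, m < 27) → (∀ m, code m ∈ M → Scales g m) →
      checkSeq M l = true → ∃ z ∈ Zgrp F, ∀ m, Scales (z * g) m := by
  induction l with
  | nil =>
    intro M g hg hMlt hM hc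
    refine ⟨1, one_mem _, fun m => ?_⟩
    rw [one_mul]
    have := allLt_spec (show (allLt 27 fun x => M.contains x) = true from hc) _ (code_lt m)
    exact hM m (by simpa using this)
  | cons s l ih =>
    intro M g hg hMlt hM hc
    have hc' : (Nat.blt s.1 27 && stepN M s.1 s.2.1 s.2.2.1 s.2.2.2 && checkSeq (s.1 :: M) l) = true := hc
    rw [Bool.and_eq_true, Bool.and_eq_true, Nat.blt_eq] at hc'
    obtain ⟨⟨h1, h2⟩, h3⟩ := hc'
    obtain ⟨z, hz, hz1⟩ := step hF hg h1 hMlt hM h2
    obtain ⟨z', hz', h4⟩ := ih (s.1 :: M) (z * g) (mul_mem (mem_E6univ_of_mem hz) hg)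
      (by intro m hm; rcases List.mem_cons.mp hm with rfl | hm; exacts [h1, hMlt m hm]) hz1 h3
    refine ⟨z' * z, mul_mem hz' hz, fun m => ?_⟩
    rw [mul_assoc]; exact h4 m

/-- the elimination sequence -/
def seq : List (ℕ × ℕ × ℕ × ℕ) :=
  [(0, 0, 0, 0), (4, 1, 0, 0), (8, 2, 0, 4), (1, 0, 0, 0), (3, 2, 8, 1), (2, 0, 0, 0), (6, 2, 4, 2), (5, 2, 1, 6),
   (7, 2, 0, 5), (9, 0, 0, 0), (18, 2, 0, 9), (12, 2, 1, 18), (15, 2, 2, 18), (19, 2, 4, 12), (20, 2, 8, 15),
   (10, 0, 0, 0), (14, 2, 15, 10), (16, 2, 9, 14), (11, 2, 12, 16), (13, 2, 15, 11), (17, 2, 9, 13), (21, 2, 0, 10),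
   (22, 2, 4, 13), (23, 2, 8, 16), (24, 2, 0, 11), (25, 2, 4, 14), (26, 2, 8, 17)]

theorem seq_check : checkSeq [] seq = true := by decide +kernel

/-- every isometry of the cubic form is diagonal modulo the root elements -/
theorem elim [Fintype F] (hF : 3 ≤ Fintype.card F) {g : GL I27 F} (hg : g ∈ E6univ F) :
    ∃ z ∈ Zgrp F, ∀ m, Scales (z * g) m :=
  elim_aux hF seq [] g hg (by simp) (by simp) seq_check

end

end Cfsg.Agent.ChevalleyStructure.E6Min.Elim
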