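import Cfsg.Agent.ChevalleyStructure.E6Min.Expand

/-!
# The cubic form as a sum over the 45 triads, its linearisations, and their invariance
-/

set_option autoImplicit false
set_option maxHeartbeats 400000

namespace Cfsg.Agent.ChevalleyStructure.E6Min.Forms

open Cfsg.Lie Cfsg.Agent.ChevalleyStructure.E6Min.Tables Cfsg.Agent.ChevalleyStructure.E6Min.Basic
  Cfsg.Agent.ChevalleyStructure.E6Min.Expand Cfsg.Agent.ChevalleyStructure.E6Min.Checks2
open scoped Matrix

/-- first point of triad `n` -/
def t1 (n : ℕ) : I27 := dec (t1N n)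
/-- second point of triad `n` -/
def t2 (n : ℕ) : I27 := dec (t2N n)
/-- third point of triad `n` -/
def t3 (n : ℕ) : I27 := dec (t3N n)

section
variable {F : Type*} [CommRing F]

theorem cubicT_eq_sum (v : I27 → F) :
    cubicT v = ∑ n ∈ Finset.range 45, ((tsN n : ℤ) : F) * (v (t1 n) * v (t2 n) * v (t3 n)) := by
  rw [cubicT_expand]
  simp only [Finset.sum_range_succ, Finset.sum_range_zero]
  rw [show tsN 0 = 1 from by decide +kernel, show t1 0 = (0, 0, 0) from by decide +kernel, show t2 0 = (0, 1, 1) from by decide +kernel, show t3 0 = (0, 2, 2) from by decide +kernel]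
  rw [show tsN 1 = -1 from by decide +kernel, show t1 1 = (0, 0, 0) from by decide +kernel, show t2 1 = (0, 1, 2) from by decide +kernel, show t3 1 = (0, 2, 1) from by decide +kernel]
  rw [show tsN 2 = -1 from by decide +kernel, show t1 2 = (0, 0, 1) from by decide +kernel, show t2 2 = (0, 1, 0) from by decide +kernel, show t3 2 = (0, 2, 2) from by decide +kernel]
  rw [show tsN 3 = 1 from by decide +kernel, show t1 3 = (0, 0, 1) from by decide +kernel, show t2 3 = (0, 1, 2) from by decide +kernel, show t3 3 = (0, 2, 0) from by decide +kernel]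
  rw [show tsN 4 = 1 from by decide +kernel, show t1 4 = (0, 0, 2) from by decide +kernel, show t2 4 = (0, 1, 0) from by decide +kernel, show t3 4 = (0, 2, 1) from by decide +kernel]
  rw [show tsN 5 = -1 from by decide +kernel, show t1 5 = (0, 0, 2) from by decide +kernel, show t2 5 = (0, 1, 1) from by decide +kernel, show t3 5 = (0, 2, 0) from by decide +kernel]
  rw [show tsN 6 = 1 from by decide +kernel, show t1 6 = (1, 0, 0) from by decide +kernel, show t2 6 = (1, 1, 1) from by decide +kernel, show t3 6 = (1, 2, 2) from by decide +kernel]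
  rw [show tsN 7 = -1 from by decide +kernel, show t1 7 = (1, 0, 0) from by decide +kernel, show t2 7 = (1, 1, 2) from by decide +kernel, show t3 7 = (1, 2, 1) from by decide +kernel]
  rw [show tsN 8 = -1 from by decide +kernel, show t1 8 = (1, 0, 1) from by decide +kernel, show t2 8 = (1, 1, 0) from by decide +kernel, show t3 8 = (1, 2, 2) from by decide +kernel]
  rw [show tsN 9 = 1 from by decide +kernel, show t1 9 = (1, 0, 1) from by decide +kernel, show t2 9 = (1, 1, 2) from by decide +kernel, show t3 9 = (1, 2, 0) from by decide +kernel]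
  rw [show tsN 10 = 1 from by decide +kernel, show t1 10 = (1, 0, 2) from by decide +kernel, show t2 10 = (1, 1, 0) from by decide +kernel, show t3 10 = (1, 2, 1) from by decide +kernel]
  rw [show tsN 11 = -1 from by decide +kernel, show t1 11 = (1, 0, 2) from by decide +kernel, show t2 11 = (1, 1, 1) from by decide +kernel, show t3 11 = (1, 2, 0) from by decide +kernel]
  rw [show tsN 12 = 1 from by decide +kernel, show t1 12 = (2, 0, 0) from by decide +kernel, show t2 12 = (2, 1, 1) from by decide +kernel, show t3 12 = (2, 2, 2) from by decide +kernel]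
  rw [show tsN 13 = -1 from by decide +kernel, show t1 13 = (2, 0, 0) from by decide +kernel, show t2 13 = (2, 1, 2) from by decide +kernel, show t3 13 = (2, 2, 1) from by decide +kernel]
  rw [show tsN 14 = -1 from by decide +kernel, show t1 14 = (2, 0, 1) from by decide +kernel, show t2 14 = (2, 1, 0) from by decide +kernel, show t3 14 = (2, 2, 2) from by decide +kernel]
  rw [show tsN 15 = 1 from by decide +kernel, show t1 15 = (2, 0, 1) from by decide +kernel, show t2 15 = (2, 1, 2) from by decide +kernel, show t3 15 = (2, 2, 0) from by decide +kernel]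
  rw [show tsN 16 = 1 from by decide +kernel, show t1 16 = (2, 0, 2) from by decide +kernel, show t2 16 = (2, 1, 0) from by decide +kernel, show t3 16 = (2, 2, 1) from by decide +kernel]
  rw [show tsN 17 = -1 from by decide +kernel, show t1 17 = (2, 0, 2) from by decide +kernel, show t2 17 = (2, 1, 1) from by decide +kernel, show t3 17 = (2, 2, 0) from by decide +kernel]
  rw [show tsN 18 = -1 from by decide +kernel, show t1 18 = (0, 0, 0) from by decide +kernel, show t2 18 = (1, 0, 0) from by decide +kernel, show t3 18 = (2, 0, 0) from by decide +kernel]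
  rw [show tsN 19 = -1 from by decide +kernel, show t1 19 = (0, 0, 0) from by decide +kernel, show t2 19 = (1, 0, 1) from by decide +kernel, show t3 19 = (2, 1, 0) from by decide +kernel]
  rw [show tsN 20 = -1 from by decide +kernel, show t1 20 = (0, 0, 0) from by decide +kernel, show t2 20 = (1, 0, 2) from by decide +kernel, show t3 20 = (2, 2, 0) from by decide +kernel]
  rw [show tsN 21 = -1 from by decide +kernel, show t1 21 = (0, 0, 1) from by decide +kernel, show t2 21 = (1, 1, 0) from by decide +kernel, show t3 21 = (2, 0, 0) from by decide +kernel]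
  rw [show tsN 22 = -1 from by decide +kernel, show t1 22 = (0, 0, 1) from by decide +kernel, show t2 22 = (1, 1, 1) from by decide +kernel, show t3 22 = (2, 1, 0) from by decide +kernel]
  rw [show tsN 23 = -1 from by decide +kernel, show t1 23 = (0, 0, 1) from by decide +kernel, show t2 23 = (1, 1, 2) from by decide +kernel, show t3 23 = (2, 2, 0) from by decide +kernel]
  rw [show tsN 24 = -1 from by decide +kernel, show t1 24 = (0, 0, 2) from by decide +kernel, show t2 24 = (1, 2, 0) from by decide +kernel, show t3 24 = (2, 0, 0) from by decide +kernel]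
  rw [show tsN 25 = -1 from by decide +kernel, show t1 25 = (0, 0, 2) from by decide +kernel, show t2 25 = (1, 2, 1) from by decide +kernel, show t3 25 = (2, 1, 0) from by decide +kernel]
  rw [show tsN 26 = -1 from by decide +kernel, show t1 26 = (0, 0, 2) from by decide +kernel, show t2 26 = (1, 2, 2) from by decide +kernel, show t3 26 = (2, 2, 0) from by decide +kernel]
  rw [show tsN 27 = -1 from by decide +kernel, show t1 27 = (0, 1, 0) from by decide +kernel, show t2 27 = (1, 0, 0) from by decide +kernel, show t3 27 = (2, 0, 1) from by decide +kernel]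
  rw [show tsN 28 = -1 from by decide +kernel, show t1 28 = (0, 1, 0) from by decide +kernel, show t2 28 = (1, 0, 1) from by decide +kernel, show t3 28 = (2, 1, 1) from by decide +kernel]
  rw [show tsN 29 = -1 from by decide +kernel, show t1 29 = (0, 1, 0) from by decide +kernel, show t2 29 = (1, 0, 2) from by decide +kernel, show t3 29 = (2, 2, 1) from by decide +kernel]
  rw [show tsN 30 = -1 from by decide +kernel, show t1 30 = (0, 1, 1) from by decide +kernel, show t2 30 = (1, 1, 0) from by decide +kernel, show t3 30 = (2, 0, 1) from by decide +kernel]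
  rw [show tsN 31 = -1 from by decide +kernel, show t1 31 = (0, 1, 1) from by decide +kernel, show t2 31 = (1, 1, 1) from by decide +kernel, show t3 31 = (2, 1, 1) from by decide +kernel]
  rw [show tsN 32 = -1 from by decide +kernel, show t1 32 = (0, 1, 1) from by decide +kernel, show t2 32 = (1, 1, 2) from by decide +kernel, show t3 32 = (2, 2, 1) from by decide +kernel]
  rw [show tsN 33 = -1 from by decide +kernel, show t1 33 = (0, 1, 2) from by decide +kernel, show t2 33 = (1, 2, 0) from by decide +kernel, show t3 33 = (2, 0, 1) from by decide +kernel]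
  rw [show tsN 34 = -1 from by decide +kernel, show t1 34 = (0, 1, 2) from by decide +kernel, show t2 34 = (1, 2, 1) from by decide +kernel, show t3 34 = (2, 1, 1) from by decide +kernel]
  rw [show tsN 35 = -1 from by decide +kernel, show t1 35 = (0, 1, 2) from by decide +kernel, show t2 35 = (1, 2, 2) from by decide +kernel, show t3 35 = (2, 2, 1) from by decide +kernel]
  rw [show tsN 36 = -1 from by decide +kernel, show t1 36 = (0, 2, 0) from by decide +kernel, show t2 36 = (1, 0, 0) from by decide +kernel, show t3 36 = (2, 0, 2) from by decide +kernel]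
  rw [show tsN 37 = -1 from by decide +kernel, show t1 37 = (0, 2, 0) from by decide +kernel, show t2 37 = (1, 0, 1) from by decide +kernel, show t3 37 = (2, 1, 2) from by decide +kernel]
  rw [show tsN 38 = -1 from by decide +kernel, show t1 38 = (0, 2, 0) from by decide +kernel, show t2 38 = (1, 0, 2) from by decide +kernel, show t3 38 = (2, 2, 2) from by decide +kernel]
  rw [show tsN 39 = -1 from by decide +kernel, show t1 39 = (0, 2, 1) from by decide +kernel, show t2 39 = (1, 1, 0) from by decide +kernel, show t3 39 = (2, 0, 2) from by decide +kernel]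
  rw [show tsN 40 = -1 from by decide +kernel, show t1 40 = (0, 2, 1) from by decide +kernel, show t2 40 = (1, 1, 1) from by decide +kernel, show t3 40 = (2, 1, 2) from by decide +kernel]
  rw [show tsN 41 = -1 from by decide +kernel, show t1 41 = (0, 2, 1) from by decide +kernel, show t2 41 = (1, 1, 2) from by decide +kernel, show t3 41 = (2, 2, 2) from by decide +kernel]
  rw [show tsN 42 = -1 from by decide +kernel, show t1 42 = (0, 2, 2) from by decide +kernel, show t2 42 = (1, 2, 0) from by decide +kernel, show t3 42 = (2, 0, 2) from by decide +kernel]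
  rw [show tsN 43 = -1 from by decide +kernel, show t1 43 = (0, 2, 2) from by decide +kernel, show t2 43 = (1, 2, 1) from by decide +kernel, show t3 43 = (2, 1, 2) from by decide +kernel]
  rw [show tsN 44 = -1 from by decide +kernel, show t1 44 = (0, 2, 2) from by decide +kernel, show t2 44 = (1, 2, 2) from by decide +kernel, show t3 44 = (2, 2, 2) from by decide +kernel]
  push_cast
  ring

/-- the part of `T(v + w)` quadratic in `v` and linear in `w` -/
def D (v w : I27 → F) : F := ∑ n ∈ Finset.range 45, ((tsN n : ℤ) : F) *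
  (w (t1 n) * v (t2 n) * v (t3 n) + v (t1 n) * w (t2 n) * v (t3 n) + v (t1 n) * v (t2 n) * w (t3 n))

/-- the full polarisation of `T` -/
def T3 (u v w : I27 → F) : F := ∑ n ∈ Finset.range 45, ((tsN n : ℤ) : F) *
  (u (t1 n) * v (t2 n) * w (t3 n) + u (t1 n) * v (t3 n) * w (t2 n) + u (t2 n) * v (t1 n) * w (t3 n) +
    u (t2 n) * v (t3 n) * w (t1 n) + u (t3 n) * v (t1 n) * w (t2 n) + u (t3 n) * v (t2 n) * w (t1 n))

theorem cubicT_add_smul (v w : I27 → F) (c : F) :
    cubicT (v + c • w) = cubicT v + c * D v w + c ^ 2 * D w v + c ^ 3 * cubicT w := by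
  simp only [cubicT_eq_sum, D, Finset.mul_sum, ← Finset.sum_add_distrib]
  refine Finset.sum_congr rfl fun n _ => ?_
  simp only [Pi.add_apply, Pi.smul_apply, smul_eq_mul]
  ring

theorem T3_polar (u v w : I27 → F) : T3 u v w = cubicT (u + v + w) - cubicT (u + v) - cubicT (u + w) -
    cubicT (v + w) + cubicT u + cubicT v + cubicT w := by
  simp only [cubicT_eq_sum, T3, ← Finset.sum_add_distrib, ← Finset.sum_sub_distrib]
  refine Finset.sum_congr rfl fun n _ => ?_
  simp only [Pi.add_apply]
  ring

theorem T3_swap (u v w : I27 → F) : T3 u v w = T3 v u w := by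
  unfold T3
  refine Finset.sum_congr rfl fun n _ => ?_
  ring

theorem T3_smul_left (c : F) (u v w : I27 → F) : T3 (c • u) v w = c * T3 u v w := by
  unfold T3
  rw [Finset.mul_sum]
  refine Finset.sum_congr rfl fun n _ => ?_
  simp only [Pi.smul_apply, smul_eq_mul]
  ring

theorem T3_smul_right (c : F) (u v w : I27 → F) : T3 u v (c • w) = c * T3 u v w := by
  unfold T3
  rw [Finset.mul_sum]
  refine Finset.sum_congr rfl fun n _ => ?_
  simp only [Pi.smul_apply, smul_eq_mul]
  ring

end

/-! ### relations on `I27` -/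

/-- relation of indices: 0 equal, 1 neighbours (difference of weights is a root), 2 in a common triad -/
def rel (x y : I27) : ℕ := relN (code x) (code y)

/-- the root `λ_y - λ_x` -/
def rt (x y : I27) : ℕ := rtN (code x) (code y)

/-- third point of the triad through `x` and `y` -/
def th (x y : I27) : I27 := dec (thN (code x) (code y))

/-- number of the triad through `x` and `y` -/
def tn (x y : I27) : ℕ := tnN (code x) (code y)

theorem tri_lt {n : ℕ} (hn : n < 45) : t1N n < 27 ∧ t2N n < 27 ∧ t3N n < 27 ∧ t1N n ≠ t2N n ∧ t1N n ≠ t3N n ∧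
    t2N n ≠ t3N n := by
  have := allLt_spec tri_lt_all n hn
  simpa [Nat.blt_eq, and_assoc] using this

theorem t1_eq_iff {n : ℕ} (hn : n < 45) (x : I27) : t1 n = x ↔ t1N n = code x := by
  unfold t1
  constructor
  · rintro rfl; rw [code_dec (tri_lt hn).1]
  · intro h; rw [h, dec_code]

theorem t2_eq_iff {n : ℕ} (hn : n < 45) (x : I27) : t2 n = x ↔ t2N n = code x := by
  unfold t2
  constructor
  · rintro rfl; rw [code_dec (tri_lt hn).2.1]
  · intro h; rw [h, dec_code]

theorem t3_eq_iff {n : ℕ} (hn : n < 45) (x : I27) : t3 n = x ↔ t3N n = code x := by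
  unfold t3
  constructor
  · rintro rfl; rw [code_dec (tri_lt hn).2.2.1]
  · intro h; rw [h, dec_code]

theorem rel_spec (x y : I27) : rel x y < 3 ∧ rel x y = rel y x ∧ (rel x y = 0 ↔ x = y) := by
  have := allLt_spec (allLt_spec rel_all _ (code_lt x)) _ (code_lt y)
  simp only [Bool.and_eq_true, Nat.blt_eq, beq_iff_eq] at this
  refine ⟨this.1.1, this.1.2, ?_⟩
  have h := this.2
  unfold rel
  rw [← code_eq_iff]
  constructor
  · intro h1; rw [h1] at h; simpa using h.symm
  · intro h1
    have h2 : (code x == code y) = true := beq_iff_eq.mpr h1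
    rw [h2] at h; simpa using h

theorem rel_symm (x y : I27) : rel x y = rel y x := (rel_spec x y).2.1

theorem rel_eq_zero_iff (x y : I27) : rel x y = 0 ↔ x = y := (rel_spec x y).2.2

theorem rel_cases (x y : I27) : x = y ∨ rel x y = 1 ∨ rel x y = 2 := by
  have h := rel_spec x y
  rw [← h.2.2]
  omega

theorem th_spec {x y : I27} (h : rel x y = 2) : tn x y < 45 ∧
    isTri (tn x y) (code x) (code y) (code (th x y)) = true ∧ th x y ≠ x ∧ th x y ≠ y ∧ rel x (th x y) = 2 ∧
    rel y (th x y) = 2 ∧ th x (th x y) = y := by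
  have := allLt_spec (allLt_spec th_all _ (code_lt x)) _ (code_lt y)
  simp only [Bool.or_eq_true, Bool.and_eq_true, Nat.blt_eq, beq_iff_eq, Bool.not_eq_true', beq_eq_false_iff_ne] at this
  rcases this with h1 | h1
  · exact absurd h h1
  · obtain ⟨⟨⟨⟨⟨⟨⟨ha, hb⟩, hc⟩, hd⟩, he⟩, hf⟩, hg⟩, hh⟩ := h1
    have hcd : code (th x y) = thN (code x) (code y) := code_dec ha
    refine ⟨hb, ?_, ?_, ?_, ?_, ?_, ?_⟩
    · rw [hcd]; exact hc
    · intro h2; apply hd; rw [← hcd, h2]
    · intro h2; apply he; rw [← hcd, h2]
    · unfold rel; rw [hcd]; exact hf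
    · unfold rel; rw [hcd]; exact hg
    · have : thN (code x) (code (th x y)) = code y := by rw [hcd]; exact hh
      show dec (thN (code x) (code (th x y))) = y
      rw [this, dec_code]

theorem mem2 {n : ℕ} (hn : n < 45) {a b : ℕ} (h : (t1N n = a ∧ t2N n = b) ∨ (t1N n = a ∧ t3N n = b) ∨
    (t2N n = a ∧ t1N n = b) ∨ (t2N n = a ∧ t3N n = b) ∨ (t3N n = a ∧ t1N n = b) ∨ (t3N n = a ∧ t2N n = b)) :
    relN a b = 2 ∧ tnN a b = n := by
  have := allLt_spec mem2_all n hn
  simp only [Bool.and_eq_true, beq_iff_eq] at this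
  obtain ⟨⟨⟨⟨⟨h1, h2⟩, h3⟩, h4⟩, h5⟩, h6⟩ := this
  rcases h with ⟨rfl, rfl⟩ | ⟨rfl, rfl⟩ | ⟨rfl, rfl⟩ | ⟨rfl, rfl⟩ | ⟨rfl, rfl⟩ | ⟨rfl, rfl⟩
  · exact h1
  · exact h2
  · exact h3
  · exact h4
  · exact h5
  · exact h6

section
variable {F : Type*} [CommRing F]

/-- the basis vector with index `x` -/
def e (F : Type*) [CommRing F] (x : I27) : I27 → F := Pi.single x 1

theorem e_apply (x y : I27) : e F x y = if y = x then 1 else 0 := by
  unfold e; rw [Pi.single_apply]

theorem ite_ite_zero {p q : Prop} [Decidable p] [Decidable q] (h : ¬ (p ∧ q)) (a : F) :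
    (if p then (1 : F) else 0) * a * (if q then (1 : F) else 0) = 0 := by
  by_cases hp : p
  · rw [if_neg (fun hq => h ⟨hp, hq⟩), mul_zero]
  · rw [if_neg hp, zero_mul, zero_mul]

theorem term_zero {n : ℕ} (hn : n < 45) {m k : I27} (key : ¬ ((t1N n = code m ∧ t2N n = code k) ∨
    (t1N n = code m ∧ t3N n = code k) ∨ (t2N n = code m ∧ t1N n = code k) ∨ (t2N n = code m ∧ t3N n = code k) ∨
    (t3N n = code m ∧ t1N n = code k) ∨ (t3N n = code m ∧ t2N n = code k))) (v : I27 → F) :
    ((tsN n : ℤ) : F) *
    (e F m (t1 n) * v (t2 n) * e F k (t3 n) + e F m (t1 n) * v (t3 n) * e F k (t2 n) +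
    e F m (t2 n) * v (t1 n) * e F k (t3 n) + e F m (t2 n) * v (t3 n) * e F k (t1 n) +
    e F m (t3 n) * v (t1 n) * e F k (t2 n) + e F m (t3 n) * v (t2 n) * e F k (t1 n)) = 0 := by
  simp only [e_apply, t1_eq_iff hn, t2_eq_iff hn, t3_eq_iff hn]
  rw [ite_ite_zero (p := t1N n = code m) (q := t3N n = code k) (fun h' => key (Or.inr (Or.inl h'))),
    ite_ite_zero (p := t1N n = code m) (q := t2N n = code k) (fun h' => key (Or.inl h')),
    ite_ite_zero (p := t2N n = code m) (q := t3N n = code k) (fun h' => key (Or.inr (Or.inr (Or.inr (Or.inl h'))))),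
    ite_ite_zero (p := t2N n = code m) (q := t1N n = code k) (fun h' => key (Or.inr (Or.inr (Or.inl h')))),
    ite_ite_zero (p := t3N n = code m) (q := t2N n = code k) (fun h' => key (Or.inr (Or.inr (Or.inr (Or.inr (Or.inr h')))))),
    ite_ite_zero (p := t3N n = code m) (q := t1N n = code k) (fun h' => key (Or.inr (Or.inr (Or.inr (Or.inr (Or.inl h'))))))]
  ring

theorem T3_basis_eq_zero {m k : I27} (h : rel m k ≠ 2) (v : I27 → F) : T3 (e F m) v (e F k) = 0 := by
  unfold T3
  refine Finset.sum_eq_zero fun n hn => ?_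
  have hn := Finset.mem_range.mp hn
  have key := fun h' => h (mem2 (a := code m) (b := code k) hn h').1
  exact term_zero hn key v

theorem T3_basis {m k : I27} (h : rel m k = 2) (v : I27 → F) :
    T3 (e F m) v (e F k) = ((tsN (tn m k) : ℤ) : F) * v (th m k) := by
  obtain ⟨hlt, htri, hne1, hne2, -, -, -⟩ := th_spec h
  have hmk : m ≠ k := fun h' => by
    have := (rel_eq_zero_iff m k).mpr h'
    omega
  unfold T3
  rw [Finset.sum_eq_single (tn m k)]
  · simp only [isTri, Bool.or_eq_true, Bool.and_eq_true, beq_iff_eq, ← t1_eq_iff hlt, ← t2_eq_iff hlt,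
      ← t3_eq_iff hlt] at htri
    simp only [e_apply]
    rcases htri with ((((h1 | h1) | h1) | h1) | h1) | h1 <;>
    · obtain ⟨⟨h1, h2⟩, h3⟩ := h1
      rw [h1, h2, h3]
      simp [hne1, hne2, hmk, Ne.symm hne1, Ne.symm hne2, Ne.symm hmk]
  · intro n hn hne
    have hn := Finset.mem_range.mp hn
    have key := fun h' => hne (mem2 (a := code m) (b := code k) hn h').2.symm
    exact term_zero hn key v
  · intro h'
    exact absurd (Finset.mem_range.mpr hlt) h'

theorem D_single (x : I27) (w : I27 → F) : D (e F x) w = 0 := by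
  unfold D
  refine Finset.sum_eq_zero fun n hn => ?_
  have hn := Finset.mem_range.mp hn
  obtain ⟨-, -, -, h1, h2, h3⟩ := tri_lt hn
  simp only [e_apply, t1_eq_iff hn, t2_eq_iff hn, t3_eq_iff hn]
  by_cases a1 : t1N n = code x
  · rw [if_neg (show ¬ t2N n = code x from fun h => h1 (a1.trans h.symm)),
      if_neg (show ¬ t3N n = code x from fun h => h2 (a1.trans h.symm))]
    ring
  · by_cases a2 : t2N n = code x
    · rw [if_neg a1, if_neg (show ¬ t3N n = code x from fun h => h3 (a2.trans h.symm))]
      ring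
    · rw [if_neg a1, if_neg a2]
      ring

theorem c5 {i k : I27} (h : rel i k = 2) {n : ℕ} (hn : n < 45) (hne : n ≠ tn i k) :
    (t1 n = k → rel i (t2 n) = 1 ∨ rel i (t3 n) = 1) ∧ (t2 n = k → rel i (t1 n) = 1 ∨ rel i (t3 n) = 1) ∧
    (t3 n = k → rel i (t1 n) = 1 ∨ rel i (t2 n) = 1) := by
  have := allLt_spec (allLt_spec c5_all _ (code_lt i)) _ (code_lt k)
  rw [Bool.or_eq_true] at this
  rcases this with h1 | h1
  · exact absurd h (by simpa [rel] using h1)
  · have := allLt_spec h1 n hn
    simp only [Bool.or_eq_true, Bool.and_eq_true, beq_iff_eq, Bool.not_eq_true', beq_eq_false_iff_ne] at this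
    rcases this with h2 | h2
    · exact absurd h2 hne
    · have h3 := tri_lt hn
      rw [t1_eq_iff hn, t2_eq_iff hn, t3_eq_iff hn]
      have e1 : code (t1 n) = t1N n := code_dec h3.1
      have e2 : code (t2 n) = t2N n := code_dec h3.2.1
      have e3 : code (t3 n) = t3N n := code_dec h3.2.2.1
      unfold rel
      rw [e1, e2, e3]
      tauto

/-- the value of `D` when only the coordinate `i` and its non-neighbours are present -/
theorem D_basis {i k : I27} (h : rel i k = 2) (u : I27 → F) (hu : ∀ j, rel i j = 1 → u j = 0) :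
    D u (e F k) = ((tsN (tn i k) : ℤ) : F) * (u i * u (th i k)) := by
  obtain ⟨hlt, htri, hne1, hne2, -, -, -⟩ := th_spec h
  have hmk : i ≠ k := fun h' => by
    have := (rel_eq_zero_iff i k).mpr h'
    omega
  unfold D
  rw [Finset.sum_eq_single (tn i k)]
  · simp only [isTri, Bool.or_eq_true, Bool.and_eq_true, beq_iff_eq, ← t1_eq_iff hlt, ← t2_eq_iff hlt,
      ← t3_eq_iff hlt] at htri
    simp only [e_apply]
    rcases htri with ((((h1 | h1) | h1) | h1) | h1) | h1 <;>
    · obtain ⟨⟨h1, h2⟩, h3⟩ := h1
      rw [h1, h2, h3]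
      simp [hne1, hne2, hmk, Ne.symm hne1, Ne.symm hne2, Ne.symm hmk, mul_comm]
  · intro n hn hne
    have hn := Finset.mem_range.mp hn
    obtain ⟨h1, h2, h3⟩ := c5 h hn hne
    simp only [e_apply]
    have z1 : (if t1 n = k then (1 : F) else 0) * u (t2 n) * u (t3 n) = 0 := by
      split_ifs with h'
      · rcases h1 h' with h'' | h'' <;> rw [hu _ h''] <;> ring
      · ring
    have z2 : u (t1 n) * (if t2 n = k then (1 : F) else 0) * u (t3 n) = 0 := by
      split_ifs with h'
      · rcases h2 h' with h'' | h'' <;> rw [hu _ h''] <;> ring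
      · ring
    have z3 : u (t1 n) * u (t2 n) * (if t3 n = k then (1 : F) else 0) = 0 := by
      split_ifs with h'
      · rcases h3 h' with h'' | h'' <;> rw [hu _ h''] <;> ring
      · ring
    rw [z1, z2, z3]; ring
  · intro h'
    exact absurd (Finset.mem_range.mpr hlt) h'

theorem tsN_ne_zero [Nontrivial F] (n : ℕ) : ((tsN n : ℤ) : F) ≠ 0 := by
  unfold tsN
  split_ifs <;> simp

end

/-! ### invariance -/

section
variable {F : Type*} [Field F]

theorem mem_E6univ_iff (g : GL I27 F) : g ∈ E6univ F ↔ ∀ v, cubicT ((g : Matrix I27 I27 F) *ᵥ v) = cubicT v := Iff.rfl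

theorem T3_inv {g : GL I27 F} (hg : g ∈ E6univ F) (u v w : I27 → F) :
    T3 ((g : Matrix I27 I27 F) *ᵥ u) ((g : Matrix I27 I27 F) *ᵥ v) ((g : Matrix I27 I27 F) *ᵥ w) = T3 u v w := by
  rw [mem_E6univ_iff] at hg
  simp only [T3_polar, ← Matrix.mulVec_add, hg]

theorem D_inv [Fintype F] (hF : 3 ≤ Fintype.card F) {g : GL I27 F} (hg : g ∈ E6univ F) (v w : I27 → F) :
    D ((g : Matrix I27 I27 F) *ᵥ v) ((g : Matrix I27 I27 F) *ᵥ w) = D v w := by
  rw [mem_E6univ_iff] at hg
  obtain ⟨c, hc0, hc1⟩ : ∃ c : F, c ≠ 0 ∧ c ≠ 1 := by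
    by_contra hcon
    push Not at hcon
    have : Fintype.card F ≤ 2 := by
      classical
      have h1 : (Finset.univ : Finset F) ⊆ {0, 1} := by
        intro c _
        by_cases h0 : c = 0
        · simp [h0]
        · simp [hcon c h0]
      calc Fintype.card F = (Finset.univ : Finset F).card := rfl
        _ ≤ ({0, 1} : Finset F).card := Finset.card_le_card h1
        _ ≤ 2 := Finset.card_le_two
    omega
  have key : ∀ c : F, c * D ((g : Matrix I27 I27 F) *ᵥ v) ((g : Matrix I27 I27 F) *ᵥ w) +
      c ^ 2 * D ((g : Matrix I27 I27 F) *ᵥ w) ((g : Matrix I27 I27 F) *ᵥ v) = c * D v w + c ^ 2 * D w v := by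
    intro c
    have h1 := hg (v + c • w)
    rw [Matrix.mulVec_add, Matrix.mulVec_smul, cubicT_add_smul, cubicT_add_smul, hg v, hg w] at h1
    linear_combination h1
  have h1 := key 1
  have h2 := key c
  have h3 : (c - c ^ 2) * (D ((g : Matrix I27 I27 F) *ᵥ v) ((g : Matrix I27 I27 F) *ᵥ w) - D v w) = 0 := by
    linear_combination h2 - c ^ 2 * h1
  rcases mul_eq_zero.mp h3 with h4 | h4
  · exfalso
    have : c * (1 - c) = 0 := by linear_combination h4
    rcases mul_eq_zero.mp this with h5 | h5
    · exact hc0 h5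
    · exact hc1 (by linear_combination -h5)
  · linear_combination h4

end

end Cfsg.Agent.ChevalleyStructure.E6Min.Forms
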