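import Cfsg.Agent.ChevalleyStructure.E6Min.Expand

/-!
# The root elements `1 + t N_r` preserve the cubic form (roots 0 to 17)
-/

set_option autoImplicit false

namespace Cfsg.Agent.ChevalleyStructure.E6Min.Inv1

open Cfsg.Lie Cfsg.Agent.ChevalleyStructure.E6Min.Tables Cfsg.Agent.ChevalleyStructure.E6Min.Basic
  Cfsg.Agent.ChevalleyStructure.E6Min.Expand

theorem inv_0 {F : Type*} [CommRing F] (t : F) (v : I27 → F) : cubicT (zv 0 t v) = cubicT v := by
  have h0 : zv 0 t v (0, 0, 0) = v (0, 0, 0) := by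
    rw [zv_def, show sg 0 (0, 0, 0) = 0 from by decide +kernel]; simp
  have h1 : zv 0 t v (0, 0, 1) = v (0, 0, 1) := by
    rw [zv_def, show sg 0 (0, 0, 1) = 0 from by decide +kernel]; simp
  have h2 : zv 0 t v (0, 0, 2) = v (0, 0, 2) := by
    rw [zv_def, show sg 0 (0, 0, 2) = 0 from by decide +kernel]; simp
  have h3 : zv 0 t v (0, 1, 0) = v (0, 1, 0) := by
    rw [zv_def, show sg 0 (0, 1, 0) = 0 from by decide +kernel]; simp
  have h4 : zv 0 t v (0, 1, 1) = v (0, 1, 1) := by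
    rw [zv_def, show sg 0 (0, 1, 1) = 0 from by decide +kernel]; simp
  have h5 : zv 0 t v (0, 1, 2) = v (0, 1, 2) := by
    rw [zv_def, show sg 0 (0, 1, 2) = 0 from by decide +kernel]; simp
  have h6 : zv 0 t v (0, 2, 0) = v (0, 2, 0) := by
    rw [zv_def, show sg 0 (0, 2, 0) = 0 from by decide +kernel]; simp
  have h7 : zv 0 t v (0, 2, 1) = v (0, 2, 1) := by
    rw [zv_def, show sg 0 (0, 2, 1) = 0 from by decide +kernel]; simp
  have h8 : zv 0 t v (0, 2, 2) = v (0, 2, 2) := by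
    rw [zv_def, show sg 0 (0, 2, 2) = 0 from by decide +kernel]; simp
  have h9 : zv 0 t v (1, 0, 0) = v (1, 0, 0) := by
    rw [zv_def, show sg 0 (1, 0, 0) = 0 from by decide +kernel]; simp
  have h10 : zv 0 t v (1, 0, 1) = v (1, 0, 1) - t * v (1, 0, 0) := by
    rw [zv_def, show sg 0 (1, 0, 1) = -1 from by decide +kernel, show sr 0 (1, 0, 1) = (1, 0, 0) from by decide +kernel]; push_cast; ring
  have h11 : zv 0 t v (1, 0, 2) = v (1, 0, 2) := by
    rw [zv_def, show sg 0 (1, 0, 2) = 0 from by decide +kernel]; simp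
  have h12 : zv 0 t v (1, 1, 0) = v (1, 1, 0) := by
    rw [zv_def, show sg 0 (1, 1, 0) = 0 from by decide +kernel]; simp
  have h13 : zv 0 t v (1, 1, 1) = v (1, 1, 1) - t * v (1, 1, 0) := by
    rw [zv_def, show sg 0 (1, 1, 1) = -1 from by decide +kernel, show sr 0 (1, 1, 1) = (1, 1, 0) from by decide +kernel]; push_cast; ring
  have h14 : zv 0 t v (1, 1, 2) = v (1, 1, 2) := by
    rw [zv_def, show sg 0 (1, 1, 2) = 0 from by decide +kernel]; simp
  have h15 : zv 0 t v (1, 2, 0) = v (1, 2, 0) := by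
    rw [zv_def, show sg 0 (1, 2, 0) = 0 from by decide +kernel]; simp
  have h16 : zv 0 t v (1, 2, 1) = v (1, 2, 1) - t * v (1, 2, 0) := by
    rw [zv_def, show sg 0 (1, 2, 1) = -1 from by decide +kernel, show sr 0 (1, 2, 1) = (1, 2, 0) from by decide +kernel]; push_cast; ring
  have h17 : zv 0 t v (1, 2, 2) = v (1, 2, 2) := by
    rw [zv_def, show sg 0 (1, 2, 2) = 0 from by decide +kernel]; simp
  have h18 : zv 0 t v (2, 0, 0) = v (2, 0, 0) + t * v (2, 1, 0) := by
    rw [zv_def, show sg 0 (2, 0, 0) = 1 from by decide +kernel, show sr 0 (2, 0, 0) = (2, 1, 0) from by decide +kernel]; simp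
  have h19 : zv 0 t v (2, 0, 1) = v (2, 0, 1) + t * v (2, 1, 1) := by
    rw [zv_def, show sg 0 (2, 0, 1) = 1 from by decide +kernel, show sr 0 (2, 0, 1) = (2, 1, 1) from by decide +kernel]; simp
  have h20 : zv 0 t v (2, 0, 2) = v (2, 0, 2) + t * v (2, 1, 2) := by
    rw [zv_def, show sg 0 (2, 0, 2) = 1 from by decide +kernel, show sr 0 (2, 0, 2) = (2, 1, 2) from by decide +kernel]; simp
  have h21 : zv 0 t v (2, 1, 0) = v (2, 1, 0) := by
    rw [zv_def, show sg 0 (2, 1, 0) = 0 from by decide +kernel]; simp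
  have h22 : zv 0 t v (2, 1, 1) = v (2, 1, 1) := by
    rw [zv_def, show sg 0 (2, 1, 1) = 0 from by decide +kernel]; simp
  have h23 : zv 0 t v (2, 1, 2) = v (2, 1, 2) := by
    rw [zv_def, show sg 0 (2, 1, 2) = 0 from by decide +kernel]; simp
  have h24 : zv 0 t v (2, 2, 0) = v (2, 2, 0) := by
    rw [zv_def, show sg 0 (2, 2, 0) = 0 from by decide +kernel]; simp
  have h25 : zv 0 t v (2, 2, 1) = v (2, 2, 1) := by
    rw [zv_def, show sg 0 (2, 2, 1) = 0 from by decide +kernel]; simp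
  have h26 : zv 0 t v (2, 2, 2) = v (2, 2, 2) := by
    rw [zv_def, show sg 0 (2, 2, 2) = 0 from by decide +kernel]; simp
  rw [cubicT_expand, cubicT_expand]
  simp only [h0, h1, h2, h3, h4, h5, h6, h7, h8, h9, h10, h11, h12, h13, h14, h15, h16, h17, h18, h19, h20, h21, h22, h23, h24, h25, h26]
  ring

theorem inv_1 {F : Type*} [CommRing F] (t : F) (v : I27 → F) : cubicT (zv 1 t v) = cubicT v := by
  have h0 : zv 1 t v (0, 0, 0) = v (0, 0, 0) := by
    rw [zv_def, show sg 1 (0, 0, 0) = 0 from by decide +kernel]; simp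
  have h1 : zv 1 t v (0, 0, 1) = v (0, 0, 1) := by
    rw [zv_def, show sg 1 (0, 0, 1) = 0 from by decide +kernel]; simp
  have h2 : zv 1 t v (0, 0, 2) = v (0, 0, 2) := by
    rw [zv_def, show sg 1 (0, 0, 2) = 0 from by decide +kernel]; simp
  have h3 : zv 1 t v (0, 1, 0) = v (0, 1, 0) := by
    rw [zv_def, show sg 1 (0, 1, 0) = 0 from by decide +kernel]; simp
  have h4 : zv 1 t v (0, 1, 1) = v (0, 1, 1) := by
    rw [zv_def, show sg 1 (0, 1, 1) = 0 from by decide +kernel]; simp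
  have h5 : zv 1 t v (0, 1, 2) = v (0, 1, 2) := by
    rw [zv_def, show sg 1 (0, 1, 2) = 0 from by decide +kernel]; simp
  have h6 : zv 1 t v (0, 2, 0) = v (0, 2, 0) := by
    rw [zv_def, show sg 1 (0, 2, 0) = 0 from by decide +kernel]; simp
  have h7 : zv 1 t v (0, 2, 1) = v (0, 2, 1) := by
    rw [zv_def, show sg 1 (0, 2, 1) = 0 from by decide +kernel]; simp
  have h8 : zv 1 t v (0, 2, 2) = v (0, 2, 2) := by
    rw [zv_def, show sg 1 (0, 2, 2) = 0 from by decide +kernel]; simp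
  have h9 : zv 1 t v (1, 0, 0) = v (1, 0, 0) := by
    rw [zv_def, show sg 1 (1, 0, 0) = 0 from by decide +kernel]; simp
  have h10 : zv 1 t v (1, 0, 1) = v (1, 0, 1) := by
    rw [zv_def, show sg 1 (1, 0, 1) = 0 from by decide +kernel]; simp
  have h11 : zv 1 t v (1, 0, 2) = v (1, 0, 2) + t * v (1, 0, 0) := by
    rw [zv_def, show sg 1 (1, 0, 2) = 1 from by decide +kernel, show sr 1 (1, 0, 2) = (1, 0, 0) from by decide +kernel]; simp
  have h12 : zv 1 t v (1, 1, 0) = v (1, 1, 0) := by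
    rw [zv_def, show sg 1 (1, 1, 0) = 0 from by decide +kernel]; simp
  have h13 : zv 1 t v (1, 1, 1) = v (1, 1, 1) := by
    rw [zv_def, show sg 1 (1, 1, 1) = 0 from by decide +kernel]; simp
  have h14 : zv 1 t v (1, 1, 2) = v (1, 1, 2) + t * v (1, 1, 0) := by
    rw [zv_def, show sg 1 (1, 1, 2) = 1 from by decide +kernel, show sr 1 (1, 1, 2) = (1, 1, 0) from by decide +kernel]; simp
  have h15 : zv 1 t v (1, 2, 0) = v (1, 2, 0) := by
    rw [zv_def, show sg 1 (1, 2, 0) = 0 from by decide +kernel]; simp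
  have h16 : zv 1 t v (1, 2, 1) = v (1, 2, 1) := by
    rw [zv_def, show sg 1 (1, 2, 1) = 0 from by decide +kernel]; simp
  have h17 : zv 1 t v (1, 2, 2) = v (1, 2, 2) + t * v (1, 2, 0) := by
    rw [zv_def, show sg 1 (1, 2, 2) = 1 from by decide +kernel, show sr 1 (1, 2, 2) = (1, 2, 0) from by decide +kernel]; simp
  have h18 : zv 1 t v (2, 0, 0) = v (2, 0, 0) - t * v (2, 2, 0) := by
    rw [zv_def, show sg 1 (2, 0, 0) = -1 from by decide +kernel, show sr 1 (2, 0, 0) = (2, 2, 0) from by decide +kernel]; push_cast; ring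
  have h19 : zv 1 t v (2, 0, 1) = v (2, 0, 1) - t * v (2, 2, 1) := by
    rw [zv_def, show sg 1 (2, 0, 1) = -1 from by decide +kernel, show sr 1 (2, 0, 1) = (2, 2, 1) from by decide +kernel]; push_cast; ring
  have h20 : zv 1 t v (2, 0, 2) = v (2, 0, 2) - t * v (2, 2, 2) := by
    rw [zv_def, show sg 1 (2, 0, 2) = -1 from by decide +kernel, show sr 1 (2, 0, 2) = (2, 2, 2) from by decide +kernel]; push_cast; ring
  have h21 : zv 1 t v (2, 1, 0) = v (2, 1, 0) := by
    rw [zv_def, show sg 1 (2, 1, 0) = 0 from by decide +kernel]; simp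
  have h22 : zv 1 t v (2, 1, 1) = v (2, 1, 1) := by
    rw [zv_def, show sg 1 (2, 1, 1) = 0 from by decide +kernel]; simp
  have h23 : zv 1 t v (2, 1, 2) = v (2, 1, 2) := by
    rw [zv_def, show sg 1 (2, 1, 2) = 0 from by decide +kernel]; simp
  have h24 : zv 1 t v (2, 2, 0) = v (2, 2, 0) := by
    rw [zv_def, show sg 1 (2, 2, 0) = 0 from by decide +kernel]; simp
  have h25 : zv 1 t v (2, 2, 1) = v (2, 2, 1) := by
    rw [zv_def, show sg 1 (2, 2, 1) = 0 from by decide +kernel]; simp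
  have h26 : zv 1 t v (2, 2, 2) = v (2, 2, 2) := by
    rw [zv_def, show sg 1 (2, 2, 2) = 0 from by decide +kernel]; simp
  rw [cubicT_expand, cubicT_expand]
  simp only [h0, h1, h2, h3, h4, h5, h6, h7, h8, h9, h10, h11, h12, h13, h14, h15, h16, h17, h18, h19, h20, h21, h22, h23, h24, h25, h26]
  ring

theorem inv_2 {F : Type*} [CommRing F] (t : F) (v : I27 → F) : cubicT (zv 2 t v) = cubicT v := by
  have h0 : zv 2 t v (0, 0, 0) = v (0, 0, 0) := by
    rw [zv_def, show sg 2 (0, 0, 0) = 0 from by decide +kernel]; simp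
  have h1 : zv 2 t v (0, 0, 1) = v (0, 0, 1) := by
    rw [zv_def, show sg 2 (0, 0, 1) = 0 from by decide +kernel]; simp
  have h2 : zv 2 t v (0, 0, 2) = v (0, 0, 2) := by
    rw [zv_def, show sg 2 (0, 0, 2) = 0 from by decide +kernel]; simp
  have h3 : zv 2 t v (0, 1, 0) = v (0, 1, 0) := by
    rw [zv_def, show sg 2 (0, 1, 0) = 0 from by decide +kernel]; simp
  have h4 : zv 2 t v (0, 1, 1) = v (0, 1, 1) := by
    rw [zv_def, show sg 2 (0, 1, 1) = 0 from by decide +kernel]; simp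
  have h5 : zv 2 t v (0, 1, 2) = v (0, 1, 2) := by
    rw [zv_def, show sg 2 (0, 1, 2) = 0 from by decide +kernel]; simp
  have h6 : zv 2 t v (0, 2, 0) = v (0, 2, 0) + t * v (1, 1, 0) := by
    rw [zv_def, show sg 2 (0, 2, 0) = 1 from by decide +kernel, show sr 2 (0, 2, 0) = (1, 1, 0) from by decide +kernel]; simp
  have h7 : zv 2 t v (0, 2, 1) = v (0, 2, 1) - t * v (1, 0, 0) := by
    rw [zv_def, show sg 2 (0, 2, 1) = -1 from by decide +kernel, show sr 2 (0, 2, 1) = (1, 0, 0) from by decide +kernel]; push_cast; ring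
  have h8 : zv 2 t v (0, 2, 2) = v (0, 2, 2) := by
    rw [zv_def, show sg 2 (0, 2, 2) = 0 from by decide +kernel]; simp
  have h9 : zv 2 t v (1, 0, 0) = v (1, 0, 0) := by
    rw [zv_def, show sg 2 (1, 0, 0) = 0 from by decide +kernel]; simp
  have h10 : zv 2 t v (1, 0, 1) = v (1, 0, 1) := by
    rw [zv_def, show sg 2 (1, 0, 1) = 0 from by decide +kernel]; simp
  have h11 : zv 2 t v (1, 0, 2) = v (1, 0, 2) := by
    rw [zv_def, show sg 2 (1, 0, 2) = 0 from by decide +kernel]; simp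
  have h12 : zv 2 t v (1, 1, 0) = v (1, 1, 0) := by
    rw [zv_def, show sg 2 (1, 1, 0) = 0 from by decide +kernel]; simp
  have h13 : zv 2 t v (1, 1, 1) = v (1, 1, 1) := by
    rw [zv_def, show sg 2 (1, 1, 1) = 0 from by decide +kernel]; simp
  have h14 : zv 2 t v (1, 1, 2) = v (1, 1, 2) := by
    rw [zv_def, show sg 2 (1, 1, 2) = 0 from by decide +kernel]; simp
  have h15 : zv 2 t v (1, 2, 0) = v (1, 2, 0) := by
    rw [zv_def, show sg 2 (1, 2, 0) = 0 from by decide +kernel]; simp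
  have h16 : zv 2 t v (1, 2, 1) = v (1, 2, 1) + t * v (2, 2, 2) := by
    rw [zv_def, show sg 2 (1, 2, 1) = 1 from by decide +kernel, show sr 2 (1, 2, 1) = (2, 2, 2) from by decide +kernel]; simp
  have h17 : zv 2 t v (1, 2, 2) = v (1, 2, 2) - t * v (2, 1, 2) := by
    rw [zv_def, show sg 2 (1, 2, 2) = -1 from by decide +kernel, show sr 2 (1, 2, 2) = (2, 1, 2) from by decide +kernel]; push_cast; ring
  have h18 : zv 2 t v (2, 0, 0) = v (2, 0, 0) + t * v (0, 1, 2) := by
    rw [zv_def, show sg 2 (2, 0, 0) = 1 from by decide +kernel, show sr 2 (2, 0, 0) = (0, 1, 2) from by decide +kernel]; simp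
  have h19 : zv 2 t v (2, 0, 1) = v (2, 0, 1) - t * v (0, 0, 2) := by
    rw [zv_def, show sg 2 (2, 0, 1) = -1 from by decide +kernel, show sr 2 (2, 0, 1) = (0, 0, 2) from by decide +kernel]; push_cast; ring
  have h20 : zv 2 t v (2, 0, 2) = v (2, 0, 2) := by
    rw [zv_def, show sg 2 (2, 0, 2) = 0 from by decide +kernel]; simp
  have h21 : zv 2 t v (2, 1, 0) = v (2, 1, 0) := by
    rw [zv_def, show sg 2 (2, 1, 0) = 0 from by decide +kernel]; simp
  have h22 : zv 2 t v (2, 1, 1) = v (2, 1, 1) := by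
    rw [zv_def, show sg 2 (2, 1, 1) = 0 from by decide +kernel]; simp
  have h23 : zv 2 t v (2, 1, 2) = v (2, 1, 2) := by
    rw [zv_def, show sg 2 (2, 1, 2) = 0 from by decide +kernel]; simp
  have h24 : zv 2 t v (2, 2, 0) = v (2, 2, 0) := by
    rw [zv_def, show sg 2 (2, 2, 0) = 0 from by decide +kernel]; simp
  have h25 : zv 2 t v (2, 2, 1) = v (2, 2, 1) := by
    rw [zv_def, show sg 2 (2, 2, 1) = 0 from by decide +kernel]; simp
  have h26 : zv 2 t v (2, 2, 2) = v (2, 2, 2) := by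
    rw [zv_def, show sg 2 (2, 2, 2) = 0 from by decide +kernel]; simp
  rw [cubicT_expand, cubicT_expand]
  simp only [h0, h1, h2, h3, h4, h5, h6, h7, h8, h9, h10, h11, h12, h13, h14, h15, h16, h17, h18, h19, h20, h21, h22, h23, h24, h25, h26]
  ring

theorem inv_3 {F : Type*} [CommRing F] (t : F) (v : I27 → F) : cubicT (zv 3 t v) = cubicT v := by
  have h0 : zv 3 t v (0, 0, 0) = v (0, 0, 0) := by
    rw [zv_def, show sg 3 (0, 0, 0) = 0 from by decide +kernel]; simp
  have h1 : zv 3 t v (0, 0, 1) = v (0, 0, 1) := by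
    rw [zv_def, show sg 3 (0, 0, 1) = 0 from by decide +kernel]; simp
  have h2 : zv 3 t v (0, 0, 2) = v (0, 0, 2) := by
    rw [zv_def, show sg 3 (0, 0, 2) = 0 from by decide +kernel]; simp
  have h3 : zv 3 t v (0, 1, 0) = v (0, 1, 0) := by
    rw [zv_def, show sg 3 (0, 1, 0) = 0 from by decide +kernel]; simp
  have h4 : zv 3 t v (0, 1, 1) = v (0, 1, 1) := by
    rw [zv_def, show sg 3 (0, 1, 1) = 0 from by decide +kernel]; simp
  have h5 : zv 3 t v (0, 1, 2) = v (0, 1, 2) := by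
    rw [zv_def, show sg 3 (0, 1, 2) = 0 from by decide +kernel]; simp
  have h6 : zv 3 t v (0, 2, 0) = v (0, 2, 0) - t * v (1, 2, 0) := by
    rw [zv_def, show sg 3 (0, 2, 0) = -1 from by decide +kernel, show sr 3 (0, 2, 0) = (1, 2, 0) from by decide +kernel]; push_cast; ring
  have h7 : zv 3 t v (0, 2, 1) = v (0, 2, 1) := by
    rw [zv_def, show sg 3 (0, 2, 1) = 0 from by decide +kernel]; simp
  have h8 : zv 3 t v (0, 2, 2) = v (0, 2, 2) + t * v (1, 0, 0) := by
    rw [zv_def, show sg 3 (0, 2, 2) = 1 from by decide +kernel, show sr 3 (0, 2, 2) = (1, 0, 0) from by decide +kernel]; simp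
  have h9 : zv 3 t v (1, 0, 0) = v (1, 0, 0) := by
    rw [zv_def, show sg 3 (1, 0, 0) = 0 from by decide +kernel]; simp
  have h10 : zv 3 t v (1, 0, 1) = v (1, 0, 1) := by
    rw [zv_def, show sg 3 (1, 0, 1) = 0 from by decide +kernel]; simp
  have h11 : zv 3 t v (1, 0, 2) = v (1, 0, 2) := by
    rw [zv_def, show sg 3 (1, 0, 2) = 0 from by decide +kernel]; simp
  have h12 : zv 3 t v (1, 1, 0) = v (1, 1, 0) := by
    rw [zv_def, show sg 3 (1, 1, 0) = 0 from by decide +kernel]; simp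
  have h13 : zv 3 t v (1, 1, 1) = v (1, 1, 1) + t * v (2, 2, 2) := by
    rw [zv_def, show sg 3 (1, 1, 1) = 1 from by decide +kernel, show sr 3 (1, 1, 1) = (2, 2, 2) from by decide +kernel]; simp
  have h14 : zv 3 t v (1, 1, 2) = v (1, 1, 2) - t * v (2, 1, 2) := by
    rw [zv_def, show sg 3 (1, 1, 2) = -1 from by decide +kernel, show sr 3 (1, 1, 2) = (2, 1, 2) from by decide +kernel]; push_cast; ring
  have h15 : zv 3 t v (1, 2, 0) = v (1, 2, 0) := by
    rw [zv_def, show sg 3 (1, 2, 0) = 0 from by decide +kernel]; simp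
  have h16 : zv 3 t v (1, 2, 1) = v (1, 2, 1) := by
    rw [zv_def, show sg 3 (1, 2, 1) = 0 from by decide +kernel]; simp
  have h17 : zv 3 t v (1, 2, 2) = v (1, 2, 2) := by
    rw [zv_def, show sg 3 (1, 2, 2) = 0 from by decide +kernel]; simp
  have h18 : zv 3 t v (2, 0, 0) = v (2, 0, 0) + t * v (0, 1, 1) := by
    rw [zv_def, show sg 3 (2, 0, 0) = 1 from by decide +kernel, show sr 3 (2, 0, 0) = (0, 1, 1) from by decide +kernel]; simp
  have h19 : zv 3 t v (2, 0, 1) = v (2, 0, 1) - t * v (0, 0, 1) := by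
    rw [zv_def, show sg 3 (2, 0, 1) = -1 from by decide +kernel, show sr 3 (2, 0, 1) = (0, 0, 1) from by decide +kernel]; push_cast; ring
  have h20 : zv 3 t v (2, 0, 2) = v (2, 0, 2) := by
    rw [zv_def, show sg 3 (2, 0, 2) = 0 from by decide +kernel]; simp
  have h21 : zv 3 t v (2, 1, 0) = v (2, 1, 0) := by
    rw [zv_def, show sg 3 (2, 1, 0) = 0 from by decide +kernel]; simp
  have h22 : zv 3 t v (2, 1, 1) = v (2, 1, 1) := by
    rw [zv_def, show sg 3 (2, 1, 1) = 0 from by decide +kernel]; simp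
  have h23 : zv 3 t v (2, 1, 2) = v (2, 1, 2) := by
    rw [zv_def, show sg 3 (2, 1, 2) = 0 from by decide +kernel]; simp
  have h24 : zv 3 t v (2, 2, 0) = v (2, 2, 0) := by
    rw [zv_def, show sg 3 (2, 2, 0) = 0 from by decide +kernel]; simp
  have h25 : zv 3 t v (2, 2, 1) = v (2, 2, 1) := by
    rw [zv_def, show sg 3 (2, 2, 1) = 0 from by decide +kernel]; simp
  have h26 : zv 3 t v (2, 2, 2) = v (2, 2, 2) := by
    rw [zv_def, show sg 3 (2, 2, 2) = 0 from by decide +kernel]; simp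
  rw [cubicT_expand, cubicT_expand]
  simp only [h0, h1, h2, h3, h4, h5, h6, h7, h8, h9, h10, h11, h12, h13, h14, h15, h16, h17, h18, h19, h20, h21, h22, h23, h24, h25, h26]
  ring

theorem inv_4 {F : Type*} [CommRing F] (t : F) (v : I27 → F) : cubicT (zv 4 t v) = cubicT v := by
  have h0 : zv 4 t v (0, 0, 0) = v (0, 0, 0) := by
    rw [zv_def, show sg 4 (0, 0, 0) = 0 from by decide +kernel]; simp
  have h1 : zv 4 t v (0, 0, 1) = v (0, 0, 1) := by
    rw [zv_def, show sg 4 (0, 0, 1) = 0 from by decide +kernel]; simp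
  have h2 : zv 4 t v (0, 0, 2) = v (0, 0, 2) := by
    rw [zv_def, show sg 4 (0, 0, 2) = 0 from by decide +kernel]; simp
  have h3 : zv 4 t v (0, 1, 0) = v (0, 1, 0) := by
    rw [zv_def, show sg 4 (0, 1, 0) = 0 from by decide +kernel]; simp
  have h4 : zv 4 t v (0, 1, 1) = v (0, 1, 1) := by
    rw [zv_def, show sg 4 (0, 1, 1) = 0 from by decide +kernel]; simp
  have h5 : zv 4 t v (0, 1, 2) = v (0, 1, 2) := by
    rw [zv_def, show sg 4 (0, 1, 2) = 0 from by decide +kernel]; simp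
  have h6 : zv 4 t v (0, 2, 0) = v (0, 2, 0) := by
    rw [zv_def, show sg 4 (0, 2, 0) = 0 from by decide +kernel]; simp
  have h7 : zv 4 t v (0, 2, 1) = v (0, 2, 1) + t * v (1, 2, 0) := by
    rw [zv_def, show sg 4 (0, 2, 1) = 1 from by decide +kernel, show sr 4 (0, 2, 1) = (1, 2, 0) from by decide +kernel]; simp
  have h8 : zv 4 t v (0, 2, 2) = v (0, 2, 2) - t * v (1, 1, 0) := by
    rw [zv_def, show sg 4 (0, 2, 2) = -1 from by decide +kernel, show sr 4 (0, 2, 2) = (1, 1, 0) from by decide +kernel]; push_cast; ring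
  have h9 : zv 4 t v (1, 0, 0) = v (1, 0, 0) := by
    rw [zv_def, show sg 4 (1, 0, 0) = 0 from by decide +kernel]; simp
  have h10 : zv 4 t v (1, 0, 1) = v (1, 0, 1) + t * v (2, 2, 2) := by
    rw [zv_def, show sg 4 (1, 0, 1) = 1 from by decide +kernel, show sr 4 (1, 0, 1) = (2, 2, 2) from by decide +kernel]; simp
  have h11 : zv 4 t v (1, 0, 2) = v (1, 0, 2) - t * v (2, 1, 2) := by
    rw [zv_def, show sg 4 (1, 0, 2) = -1 from by decide +kernel, show sr 4 (1, 0, 2) = (2, 1, 2) from by decide +kernel]; push_cast; ring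
  have h12 : zv 4 t v (1, 1, 0) = v (1, 1, 0) := by
    rw [zv_def, show sg 4 (1, 1, 0) = 0 from by decide +kernel]; simp
  have h13 : zv 4 t v (1, 1, 1) = v (1, 1, 1) := by
    rw [zv_def, show sg 4 (1, 1, 1) = 0 from by decide +kernel]; simp
  have h14 : zv 4 t v (1, 1, 2) = v (1, 1, 2) := by
    rw [zv_def, show sg 4 (1, 1, 2) = 0 from by decide +kernel]; simp
  have h15 : zv 4 t v (1, 2, 0) = v (1, 2, 0) := by
    rw [zv_def, show sg 4 (1, 2, 0) = 0 from by decide +kernel]; simp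
  have h16 : zv 4 t v (1, 2, 1) = v (1, 2, 1) := by
    rw [zv_def, show sg 4 (1, 2, 1) = 0 from by decide +kernel]; simp
  have h17 : zv 4 t v (1, 2, 2) = v (1, 2, 2) := by
    rw [zv_def, show sg 4 (1, 2, 2) = 0 from by decide +kernel]; simp
  have h18 : zv 4 t v (2, 0, 0) = v (2, 0, 0) + t * v (0, 1, 0) := by
    rw [zv_def, show sg 4 (2, 0, 0) = 1 from by decide +kernel, show sr 4 (2, 0, 0) = (0, 1, 0) from by decide +kernel]; simp
  have h19 : zv 4 t v (2, 0, 1) = v (2, 0, 1) - t * v (0, 0, 0) := by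
    rw [zv_def, show sg 4 (2, 0, 1) = -1 from by decide +kernel, show sr 4 (2, 0, 1) = (0, 0, 0) from by decide +kernel]; push_cast; ring
  have h20 : zv 4 t v (2, 0, 2) = v (2, 0, 2) := by
    rw [zv_def, show sg 4 (2, 0, 2) = 0 from by decide +kernel]; simp
  have h21 : zv 4 t v (2, 1, 0) = v (2, 1, 0) := by
    rw [zv_def, show sg 4 (2, 1, 0) = 0 from by decide +kernel]; simp
  have h22 : zv 4 t v (2, 1, 1) = v (2, 1, 1) := by
    rw [zv_def, show sg 4 (2, 1, 1) = 0 from by decide +kernel]; simp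
  have h23 : zv 4 t v (2, 1, 2) = v (2, 1, 2) := by
    rw [zv_def, show sg 4 (2, 1, 2) = 0 from by decide +kernel]; simp
  have h24 : zv 4 t v (2, 2, 0) = v (2, 2, 0) := by
    rw [zv_def, show sg 4 (2, 2, 0) = 0 from by decide +kernel]; simp
  have h25 : zv 4 t v (2, 2, 1) = v (2, 2, 1) := by
    rw [zv_def, show sg 4 (2, 2, 1) = 0 from by decide +kernel]; simp
  have h26 : zv 4 t v (2, 2, 2) = v (2, 2, 2) := by
    rw [zv_def, show sg 4 (2, 2, 2) = 0 from by decide +kernel]; simp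
  rw [cubicT_expand, cubicT_expand]
  simp only [h0, h1, h2, h3, h4, h5, h6, h7, h8, h9, h10, h11, h12, h13, h14, h15, h16, h17, h18, h19, h20, h21, h22, h23, h24, h25, h26]
  ring

theorem inv_5 {F : Type*} [CommRing F] (t : F) (v : I27 → F) : cubicT (zv 5 t v) = cubicT v := by
  have h0 : zv 5 t v (0, 0, 0) = v (0, 0, 0) := by
    rw [zv_def, show sg 5 (0, 0, 0) = 0 from by decide +kernel]; simp
  have h1 : zv 5 t v (0, 0, 1) = v (0, 0, 1) := by
    rw [zv_def, show sg 5 (0, 0, 1) = 0 from by decide +kernel]; simp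
  have h2 : zv 5 t v (0, 0, 2) = v (0, 0, 2) := by
    rw [zv_def, show sg 5 (0, 0, 2) = 0 from by decide +kernel]; simp
  have h3 : zv 5 t v (0, 1, 0) = v (0, 1, 0) - t * v (1, 1, 0) := by
    rw [zv_def, show sg 5 (0, 1, 0) = -1 from by decide +kernel, show sr 5 (0, 1, 0) = (1, 1, 0) from by decide +kernel]; push_cast; ring
  have h4 : zv 5 t v (0, 1, 1) = v (0, 1, 1) + t * v (1, 0, 0) := by
    rw [zv_def, show sg 5 (0, 1, 1) = 1 from by decide +kernel, show sr 5 (0, 1, 1) = (1, 0, 0) from by decide +kernel]; simp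
  have h5 : zv 5 t v (0, 1, 2) = v (0, 1, 2) := by
    rw [zv_def, show sg 5 (0, 1, 2) = 0 from by decide +kernel]; simp
  have h6 : zv 5 t v (0, 2, 0) = v (0, 2, 0) := by
    rw [zv_def, show sg 5 (0, 2, 0) = 0 from by decide +kernel]; simp
  have h7 : zv 5 t v (0, 2, 1) = v (0, 2, 1) := by
    rw [zv_def, show sg 5 (0, 2, 1) = 0 from by decide +kernel]; simp
  have h8 : zv 5 t v (0, 2, 2) = v (0, 2, 2) := by
    rw [zv_def, show sg 5 (0, 2, 2) = 0 from by decide +kernel]; simp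
  have h9 : zv 5 t v (1, 0, 0) = v (1, 0, 0) := by
    rw [zv_def, show sg 5 (1, 0, 0) = 0 from by decide +kernel]; simp
  have h10 : zv 5 t v (1, 0, 1) = v (1, 0, 1) := by
    rw [zv_def, show sg 5 (1, 0, 1) = 0 from by decide +kernel]; simp
  have h11 : zv 5 t v (1, 0, 2) = v (1, 0, 2) := by
    rw [zv_def, show sg 5 (1, 0, 2) = 0 from by decide +kernel]; simp
  have h12 : zv 5 t v (1, 1, 0) = v (1, 1, 0) := by
    rw [zv_def, show sg 5 (1, 1, 0) = 0 from by decide +kernel]; simp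
  have h13 : zv 5 t v (1, 1, 1) = v (1, 1, 1) := by
    rw [zv_def, show sg 5 (1, 1, 1) = 0 from by decide +kernel]; simp
  have h14 : zv 5 t v (1, 1, 2) = v (1, 1, 2) := by
    rw [zv_def, show sg 5 (1, 1, 2) = 0 from by decide +kernel]; simp
  have h15 : zv 5 t v (1, 2, 0) = v (1, 2, 0) := by
    rw [zv_def, show sg 5 (1, 2, 0) = 0 from by decide +kernel]; simp
  have h16 : zv 5 t v (1, 2, 1) = v (1, 2, 1) - t * v (2, 2, 1) := by
    rw [zv_def, show sg 5 (1, 2, 1) = -1 from by decide +kernel, show sr 5 (1, 2, 1) = (2, 2, 1) from by decide +kernel]; push_cast; ring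
  have h17 : zv 5 t v (1, 2, 2) = v (1, 2, 2) + t * v (2, 1, 1) := by
    rw [zv_def, show sg 5 (1, 2, 2) = 1 from by decide +kernel, show sr 5 (1, 2, 2) = (2, 1, 1) from by decide +kernel]; simp
  have h18 : zv 5 t v (2, 0, 0) = v (2, 0, 0) + t * v (0, 2, 2) := by
    rw [zv_def, show sg 5 (2, 0, 0) = 1 from by decide +kernel, show sr 5 (2, 0, 0) = (0, 2, 2) from by decide +kernel]; simp
  have h19 : zv 5 t v (2, 0, 1) = v (2, 0, 1) := by
    rw [zv_def, show sg 5 (2, 0, 1) = 0 from by decide +kernel]; simp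
  have h20 : zv 5 t v (2, 0, 2) = v (2, 0, 2) - t * v (0, 0, 2) := by
    rw [zv_def, show sg 5 (2, 0, 2) = -1 from by decide +kernel, show sr 5 (2, 0, 2) = (0, 0, 2) from by decide +kernel]; push_cast; ring
  have h21 : zv 5 t v (2, 1, 0) = v (2, 1, 0) := by
    rw [zv_def, show sg 5 (2, 1, 0) = 0 from by decide +kernel]; simp
  have h22 : zv 5 t v (2, 1, 1) = v (2, 1, 1) := by
    rw [zv_def, show sg 5 (2, 1, 1) = 0 from by decide +kernel]; simp
  have h23 : zv 5 t v (2, 1, 2) = v (2, 1, 2) := by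
    rw [zv_def, show sg 5 (2, 1, 2) = 0 from by decide +kernel]; simp
  have h24 : zv 5 t v (2, 2, 0) = v (2, 2, 0) := by
    rw [zv_def, show sg 5 (2, 2, 0) = 0 from by decide +kernel]; simp
  have h25 : zv 5 t v (2, 2, 1) = v (2, 2, 1) := by
    rw [zv_def, show sg 5 (2, 2, 1) = 0 from by decide +kernel]; simp
  have h26 : zv 5 t v (2, 2, 2) = v (2, 2, 2) := by
    rw [zv_def, show sg 5 (2, 2, 2) = 0 from by decide +kernel]; simp
  rw [cubicT_expand, cubicT_expand]
  simp only [h0, h1, h2, h3, h4, h5, h6, h7, h8, h9, h10, h11, h12, h13, h14, h15, h16, h17, h18, h19, h20, h21, h22, h23, h24, h25, h26]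
  ring

theorem inv_6 {F : Type*} [CommRing F] (t : F) (v : I27 → F) : cubicT (zv 6 t v) = cubicT v := by
  have h0 : zv 6 t v (0, 0, 0) = v (0, 0, 0) := by
    rw [zv_def, show sg 6 (0, 0, 0) = 0 from by decide +kernel]; simp
  have h1 : zv 6 t v (0, 0, 1) = v (0, 0, 1) := by
    rw [zv_def, show sg 6 (0, 0, 1) = 0 from by decide +kernel]; simp
  have h2 : zv 6 t v (0, 0, 2) = v (0, 0, 2) := by
    rw [zv_def, show sg 6 (0, 0, 2) = 0 from by decide +kernel]; simp
  have h3 : zv 6 t v (0, 1, 0) = v (0, 1, 0) + t * v (1, 2, 0) := by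
    rw [zv_def, show sg 6 (0, 1, 0) = 1 from by decide +kernel, show sr 6 (0, 1, 0) = (1, 2, 0) from by decide +kernel]; simp
  have h4 : zv 6 t v (0, 1, 1) = v (0, 1, 1) := by
    rw [zv_def, show sg 6 (0, 1, 1) = 0 from by decide +kernel]; simp
  have h5 : zv 6 t v (0, 1, 2) = v (0, 1, 2) - t * v (1, 0, 0) := by
    rw [zv_def, show sg 6 (0, 1, 2) = -1 from by decide +kernel, show sr 6 (0, 1, 2) = (1, 0, 0) from by decide +kernel]; push_cast; ring
  have h6 : zv 6 t v (0, 2, 0) = v (0, 2, 0) := by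
    rw [zv_def, show sg 6 (0, 2, 0) = 0 from by decide +kernel]; simp
  have h7 : zv 6 t v (0, 2, 1) = v (0, 2, 1) := by
    rw [zv_def, show sg 6 (0, 2, 1) = 0 from by decide +kernel]; simp
  have h8 : zv 6 t v (0, 2, 2) = v (0, 2, 2) := by
    rw [zv_def, show sg 6 (0, 2, 2) = 0 from by decide +kernel]; simp
  have h9 : zv 6 t v (1, 0, 0) = v (1, 0, 0) := by
    rw [zv_def, show sg 6 (1, 0, 0) = 0 from by decide +kernel]; simp
  have h10 : zv 6 t v (1, 0, 1) = v (1, 0, 1) := by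
    rw [zv_def, show sg 6 (1, 0, 1) = 0 from by decide +kernel]; simp
  have h11 : zv 6 t v (1, 0, 2) = v (1, 0, 2) := by
    rw [zv_def, show sg 6 (1, 0, 2) = 0 from by decide +kernel]; simp
  have h12 : zv 6 t v (1, 1, 0) = v (1, 1, 0) := by
    rw [zv_def, show sg 6 (1, 1, 0) = 0 from by decide +kernel]; simp
  have h13 : zv 6 t v (1, 1, 1) = v (1, 1, 1) - t * v (2, 2, 1) := by
    rw [zv_def, show sg 6 (1, 1, 1) = -1 from by decide +kernel, show sr 6 (1, 1, 1) = (2, 2, 1) from by decide +kernel]; push_cast; ring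
  have h14 : zv 6 t v (1, 1, 2) = v (1, 1, 2) + t * v (2, 1, 1) := by
    rw [zv_def, show sg 6 (1, 1, 2) = 1 from by decide +kernel, show sr 6 (1, 1, 2) = (2, 1, 1) from by decide +kernel]; simp
  have h15 : zv 6 t v (1, 2, 0) = v (1, 2, 0) := by
    rw [zv_def, show sg 6 (1, 2, 0) = 0 from by decide +kernel]; simp
  have h16 : zv 6 t v (1, 2, 1) = v (1, 2, 1) := by
    rw [zv_def, show sg 6 (1, 2, 1) = 0 from by decide +kernel]; simp
  have h17 : zv 6 t v (1, 2, 2) = v (1, 2, 2) := by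
    rw [zv_def, show sg 6 (1, 2, 2) = 0 from by decide +kernel]; simp
  have h18 : zv 6 t v (2, 0, 0) = v (2, 0, 0) + t * v (0, 2, 1) := by
    rw [zv_def, show sg 6 (2, 0, 0) = 1 from by decide +kernel, show sr 6 (2, 0, 0) = (0, 2, 1) from by decide +kernel]; simp
  have h19 : zv 6 t v (2, 0, 1) = v (2, 0, 1) := by
    rw [zv_def, show sg 6 (2, 0, 1) = 0 from by decide +kernel]; simp
  have h20 : zv 6 t v (2, 0, 2) = v (2, 0, 2) - t * v (0, 0, 1) := by
    rw [zv_def, show sg 6 (2, 0, 2) = -1 from by decide +kernel, show sr 6 (2, 0, 2) = (0, 0, 1) from by decide +kernel]; push_cast; ring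
  have h21 : zv 6 t v (2, 1, 0) = v (2, 1, 0) := by
    rw [zv_def, show sg 6 (2, 1, 0) = 0 from by decide +kernel]; simp
  have h22 : zv 6 t v (2, 1, 1) = v (2, 1, 1) := by
    rw [zv_def, show sg 6 (2, 1, 1) = 0 from by decide +kernel]; simp
  have h23 : zv 6 t v (2, 1, 2) = v (2, 1, 2) := by
    rw [zv_def, show sg 6 (2, 1, 2) = 0 from by decide +kernel]; simp
  have h24 : zv 6 t v (2, 2, 0) = v (2, 2, 0) := by
    rw [zv_def, show sg 6 (2, 2, 0) = 0 from by decide +kernel]; simp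
  have h25 : zv 6 t v (2, 2, 1) = v (2, 2, 1) := by
    rw [zv_def, show sg 6 (2, 2, 1) = 0 from by decide +kernel]; simp
  have h26 : zv 6 t v (2, 2, 2) = v (2, 2, 2) := by
    rw [zv_def, show sg 6 (2, 2, 2) = 0 from by decide +kernel]; simp
  rw [cubicT_expand, cubicT_expand]
  simp only [h0, h1, h2, h3, h4, h5, h6, h7, h8, h9, h10, h11, h12, h13, h14, h15, h16, h17, h18, h19, h20, h21, h22, h23, h24, h25, h26]
  ring

theorem inv_7 {F : Type*} [CommRing F] (t : F) (v : I27 → F) : cubicT (zv 7 t v) = cubicT v := by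
  have h0 : zv 7 t v (0, 0, 0) = v (0, 0, 0) := by
    rw [zv_def, show sg 7 (0, 0, 0) = 0 from by decide +kernel]; simp
  have h1 : zv 7 t v (0, 0, 1) = v (0, 0, 1) := by
    rw [zv_def, show sg 7 (0, 0, 1) = 0 from by decide +kernel]; simp
  have h2 : zv 7 t v (0, 0, 2) = v (0, 0, 2) := by
    rw [zv_def, show sg 7 (0, 0, 2) = 0 from by decide +kernel]; simp
  have h3 : zv 7 t v (0, 1, 0) = v (0, 1, 0) := by
    rw [zv_def, show sg 7 (0, 1, 0) = 0 from by decide +kernel]; simp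
  have h4 : zv 7 t v (0, 1, 1) = v (0, 1, 1) - t * v (1, 2, 0) := by
    rw [zv_def, show sg 7 (0, 1, 1) = -1 from by decide +kernel, show sr 7 (0, 1, 1) = (1, 2, 0) from by decide +kernel]; push_cast; ring
  have h5 : zv 7 t v (0, 1, 2) = v (0, 1, 2) + t * v (1, 1, 0) := by
    rw [zv_def, show sg 7 (0, 1, 2) = 1 from by decide +kernel, show sr 7 (0, 1, 2) = (1, 1, 0) from by decide +kernel]; simp
  have h6 : zv 7 t v (0, 2, 0) = v (0, 2, 0) := by
    rw [zv_def, show sg 7 (0, 2, 0) = 0 from by decide +kernel]; simp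
  have h7 : zv 7 t v (0, 2, 1) = v (0, 2, 1) := by
    rw [zv_def, show sg 7 (0, 2, 1) = 0 from by decide +kernel]; simp
  have h8 : zv 7 t v (0, 2, 2) = v (0, 2, 2) := by
    rw [zv_def, show sg 7 (0, 2, 2) = 0 from by decide +kernel]; simp
  have h9 : zv 7 t v (1, 0, 0) = v (1, 0, 0) := by
    rw [zv_def, show sg 7 (1, 0, 0) = 0 from by decide +kernel]; simp
  have h10 : zv 7 t v (1, 0, 1) = v (1, 0, 1) - t * v (2, 2, 1) := by
    rw [zv_def, show sg 7 (1, 0, 1) = -1 from by decide +kernel, show sr 7 (1, 0, 1) = (2, 2, 1) from by decide +kernel]; push_cast; ring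
  have h11 : zv 7 t v (1, 0, 2) = v (1, 0, 2) + t * v (2, 1, 1) := by
    rw [zv_def, show sg 7 (1, 0, 2) = 1 from by decide +kernel, show sr 7 (1, 0, 2) = (2, 1, 1) from by decide +kernel]; simp
  have h12 : zv 7 t v (1, 1, 0) = v (1, 1, 0) := by
    rw [zv_def, show sg 7 (1, 1, 0) = 0 from by decide +kernel]; simp
  have h13 : zv 7 t v (1, 1, 1) = v (1, 1, 1) := by
    rw [zv_def, show sg 7 (1, 1, 1) = 0 from by decide +kernel]; simp
  have h14 : zv 7 t v (1, 1, 2) = v (1, 1, 2) := by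
    rw [zv_def, show sg 7 (1, 1, 2) = 0 from by decide +kernel]; simp
  have h15 : zv 7 t v (1, 2, 0) = v (1, 2, 0) := by
    rw [zv_def, show sg 7 (1, 2, 0) = 0 from by decide +kernel]; simp
  have h16 : zv 7 t v (1, 2, 1) = v (1, 2, 1) := by
    rw [zv_def, show sg 7 (1, 2, 1) = 0 from by decide +kernel]; simp
  have h17 : zv 7 t v (1, 2, 2) = v (1, 2, 2) := by
    rw [zv_def, show sg 7 (1, 2, 2) = 0 from by decide +kernel]; simp
  have h18 : zv 7 t v (2, 0, 0) = v (2, 0, 0) + t * v (0, 2, 0) := by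
    rw [zv_def, show sg 7 (2, 0, 0) = 1 from by decide +kernel, show sr 7 (2, 0, 0) = (0, 2, 0) from by decide +kernel]; simp
  have h19 : zv 7 t v (2, 0, 1) = v (2, 0, 1) := by
    rw [zv_def, show sg 7 (2, 0, 1) = 0 from by decide +kernel]; simp
  have h20 : zv 7 t v (2, 0, 2) = v (2, 0, 2) - t * v (0, 0, 0) := by
    rw [zv_def, show sg 7 (2, 0, 2) = -1 from by decide +kernel, show sr 7 (2, 0, 2) = (0, 0, 0) from by decide +kernel]; push_cast; ring
  have h21 : zv 7 t v (2, 1, 0) = v (2, 1, 0) := by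
    rw [zv_def, show sg 7 (2, 1, 0) = 0 from by decide +kernel]; simp
  have h22 : zv 7 t v (2, 1, 1) = v (2, 1, 1) := by
    rw [zv_def, show sg 7 (2, 1, 1) = 0 from by decide +kernel]; simp
  have h23 : zv 7 t v (2, 1, 2) = v (2, 1, 2) := by
    rw [zv_def, show sg 7 (2, 1, 2) = 0 from by decide +kernel]; simp
  have h24 : zv 7 t v (2, 2, 0) = v (2, 2, 0) := by
    rw [zv_def, show sg 7 (2, 2, 0) = 0 from by decide +kernel]; simp
  have h25 : zv 7 t v (2, 2, 1) = v (2, 2, 1) := by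
    rw [zv_def, show sg 7 (2, 2, 1) = 0 from by decide +kernel]; simp
  have h26 : zv 7 t v (2, 2, 2) = v (2, 2, 2) := by
    rw [zv_def, show sg 7 (2, 2, 2) = 0 from by decide +kernel]; simp
  rw [cubicT_expand, cubicT_expand]
  simp only [h0, h1, h2, h3, h4, h5, h6, h7, h8, h9, h10, h11, h12, h13, h14, h15, h16, h17, h18, h19, h20, h21, h22, h23, h24, h25, h26]
  ring

theorem inv_8 {F : Type*} [CommRing F] (t : F) (v : I27 → F) : cubicT (zv 8 t v) = cubicT v := by
  have h0 : zv 8 t v (0, 0, 0) = v (0, 0, 0) := by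
    rw [zv_def, show sg 8 (0, 0, 0) = 0 from by decide +kernel]; simp
  have h1 : zv 8 t v (0, 0, 1) = v (0, 0, 1) := by
    rw [zv_def, show sg 8 (0, 0, 1) = 0 from by decide +kernel]; simp
  have h2 : zv 8 t v (0, 0, 2) = v (0, 0, 2) := by
    rw [zv_def, show sg 8 (0, 0, 2) = 0 from by decide +kernel]; simp
  have h3 : zv 8 t v (0, 1, 0) = v (0, 1, 0) - t * v (2, 1, 2) := by
    rw [zv_def, show sg 8 (0, 1, 0) = -1 from by decide +kernel, show sr 8 (0, 1, 0) = (2, 1, 2) from by decide +kernel]; push_cast; ring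
  have h4 : zv 8 t v (0, 1, 1) = v (0, 1, 1) := by
    rw [zv_def, show sg 8 (0, 1, 1) = 0 from by decide +kernel]; simp
  have h5 : zv 8 t v (0, 1, 2) = v (0, 1, 2) := by
    rw [zv_def, show sg 8 (0, 1, 2) = 0 from by decide +kernel]; simp
  have h6 : zv 8 t v (0, 2, 0) = v (0, 2, 0) + t * v (2, 1, 1) := by
    rw [zv_def, show sg 8 (0, 2, 0) = 1 from by decide +kernel, show sr 8 (0, 2, 0) = (2, 1, 1) from by decide +kernel]; simp
  have h7 : zv 8 t v (0, 2, 1) = v (0, 2, 1) := by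
    rw [zv_def, show sg 8 (0, 2, 1) = 0 from by decide +kernel]; simp
  have h8 : zv 8 t v (0, 2, 2) = v (0, 2, 2) := by
    rw [zv_def, show sg 8 (0, 2, 2) = 0 from by decide +kernel]; simp
  have h9 : zv 8 t v (1, 0, 0) = v (1, 0, 0) := by
    rw [zv_def, show sg 8 (1, 0, 0) = 0 from by decide +kernel]; simp
  have h10 : zv 8 t v (1, 0, 1) = v (1, 0, 1) := by
    rw [zv_def, show sg 8 (1, 0, 1) = 0 from by decide +kernel]; simp
  have h11 : zv 8 t v (1, 0, 2) = v (1, 0, 2) := by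
    rw [zv_def, show sg 8 (1, 0, 2) = 0 from by decide +kernel]; simp
  have h12 : zv 8 t v (1, 1, 0) = v (1, 1, 0) := by
    rw [zv_def, show sg 8 (1, 1, 0) = 0 from by decide +kernel]; simp
  have h13 : zv 8 t v (1, 1, 1) = v (1, 1, 1) - t * v (0, 0, 2) := by
    rw [zv_def, show sg 8 (1, 1, 1) = -1 from by decide +kernel, show sr 8 (1, 1, 1) = (0, 0, 2) from by decide +kernel]; push_cast; ring
  have h14 : zv 8 t v (1, 1, 2) = v (1, 1, 2) := by
    rw [zv_def, show sg 8 (1, 1, 2) = 0 from by decide +kernel]; simp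
  have h15 : zv 8 t v (1, 2, 0) = v (1, 2, 0) := by
    rw [zv_def, show sg 8 (1, 2, 0) = 0 from by decide +kernel]; simp
  have h16 : zv 8 t v (1, 2, 1) = v (1, 2, 1) + t * v (0, 0, 1) := by
    rw [zv_def, show sg 8 (1, 2, 1) = 1 from by decide +kernel, show sr 8 (1, 2, 1) = (0, 0, 1) from by decide +kernel]; simp
  have h17 : zv 8 t v (1, 2, 2) = v (1, 2, 2) := by
    rw [zv_def, show sg 8 (1, 2, 2) = 0 from by decide +kernel]; simp
  have h18 : zv 8 t v (2, 0, 0) = v (2, 0, 0) + t * v (1, 0, 2) := by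
    rw [zv_def, show sg 8 (2, 0, 0) = 1 from by decide +kernel, show sr 8 (2, 0, 0) = (1, 0, 2) from by decide +kernel]; simp
  have h19 : zv 8 t v (2, 0, 1) = v (2, 0, 1) := by
    rw [zv_def, show sg 8 (2, 0, 1) = 0 from by decide +kernel]; simp
  have h20 : zv 8 t v (2, 0, 2) = v (2, 0, 2) := by
    rw [zv_def, show sg 8 (2, 0, 2) = 0 from by decide +kernel]; simp
  have h21 : zv 8 t v (2, 1, 0) = v (2, 1, 0) := by
    rw [zv_def, show sg 8 (2, 1, 0) = 0 from by decide +kernel]; simp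
  have h22 : zv 8 t v (2, 1, 1) = v (2, 1, 1) := by
    rw [zv_def, show sg 8 (2, 1, 1) = 0 from by decide +kernel]; simp
  have h23 : zv 8 t v (2, 1, 2) = v (2, 1, 2) := by
    rw [zv_def, show sg 8 (2, 1, 2) = 0 from by decide +kernel]; simp
  have h24 : zv 8 t v (2, 2, 0) = v (2, 2, 0) - t * v (1, 0, 0) := by
    rw [zv_def, show sg 8 (2, 2, 0) = -1 from by decide +kernel, show sr 8 (2, 2, 0) = (1, 0, 0) from by decide +kernel]; push_cast; ring
  have h25 : zv 8 t v (2, 2, 1) = v (2, 2, 1) := by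
    rw [zv_def, show sg 8 (2, 2, 1) = 0 from by decide +kernel]; simp
  have h26 : zv 8 t v (2, 2, 2) = v (2, 2, 2) := by
    rw [zv_def, show sg 8 (2, 2, 2) = 0 from by decide +kernel]; simp
  rw [cubicT_expand, cubicT_expand]
  simp only [h0, h1, h2, h3, h4, h5, h6, h7, h8, h9, h10, h11, h12, h13, h14, h15, h16, h17, h18, h19, h20, h21, h22, h23, h24, h25, h26]
  ring

theorem inv_9 {F : Type*} [CommRing F] (t : F) (v : I27 → F) : cubicT (zv 9 t v) = cubicT v := by
  have h0 : zv 9 t v (0, 0, 0) = v (0, 0, 0) := by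
    rw [zv_def, show sg 9 (0, 0, 0) = 0 from by decide +kernel]; simp
  have h1 : zv 9 t v (0, 0, 1) = v (0, 0, 1) := by
    rw [zv_def, show sg 9 (0, 0, 1) = 0 from by decide +kernel]; simp
  have h2 : zv 9 t v (0, 0, 2) = v (0, 0, 2) := by
    rw [zv_def, show sg 9 (0, 0, 2) = 0 from by decide +kernel]; simp
  have h3 : zv 9 t v (0, 1, 0) = v (0, 1, 0) := by
    rw [zv_def, show sg 9 (0, 1, 0) = 0 from by decide +kernel]; simp
  have h4 : zv 9 t v (0, 1, 1) = v (0, 1, 1) + t * v (2, 1, 2) := by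
    rw [zv_def, show sg 9 (0, 1, 1) = 1 from by decide +kernel, show sr 9 (0, 1, 1) = (2, 1, 2) from by decide +kernel]; simp
  have h5 : zv 9 t v (0, 1, 2) = v (0, 1, 2) := by
    rw [zv_def, show sg 9 (0, 1, 2) = 0 from by decide +kernel]; simp
  have h6 : zv 9 t v (0, 2, 0) = v (0, 2, 0) := by
    rw [zv_def, show sg 9 (0, 2, 0) = 0 from by decide +kernel]; simp
  have h7 : zv 9 t v (0, 2, 1) = v (0, 2, 1) - t * v (2, 1, 1) := by
    rw [zv_def, show sg 9 (0, 2, 1) = -1 from by decide +kernel, show sr 9 (0, 2, 1) = (2, 1, 1) from by decide +kernel]; push_cast; ring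
  have h8 : zv 9 t v (0, 2, 2) = v (0, 2, 2) := by
    rw [zv_def, show sg 9 (0, 2, 2) = 0 from by decide +kernel]; simp
  have h9 : zv 9 t v (1, 0, 0) = v (1, 0, 0) := by
    rw [zv_def, show sg 9 (1, 0, 0) = 0 from by decide +kernel]; simp
  have h10 : zv 9 t v (1, 0, 1) = v (1, 0, 1) - t * v (0, 0, 2) := by
    rw [zv_def, show sg 9 (1, 0, 1) = -1 from by decide +kernel, show sr 9 (1, 0, 1) = (0, 0, 2) from by decide +kernel]; push_cast; ring
  have h11 : zv 9 t v (1, 0, 2) = v (1, 0, 2) := by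
    rw [zv_def, show sg 9 (1, 0, 2) = 0 from by decide +kernel]; simp
  have h12 : zv 9 t v (1, 1, 0) = v (1, 1, 0) := by
    rw [zv_def, show sg 9 (1, 1, 0) = 0 from by decide +kernel]; simp
  have h13 : zv 9 t v (1, 1, 1) = v (1, 1, 1) := by
    rw [zv_def, show sg 9 (1, 1, 1) = 0 from by decide +kernel]; simp
  have h14 : zv 9 t v (1, 1, 2) = v (1, 1, 2) := by
    rw [zv_def, show sg 9 (1, 1, 2) = 0 from by decide +kernel]; simp
  have h15 : zv 9 t v (1, 2, 0) = v (1, 2, 0) := by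
    rw [zv_def, show sg 9 (1, 2, 0) = 0 from by decide +kernel]; simp
  have h16 : zv 9 t v (1, 2, 1) = v (1, 2, 1) + t * v (0, 0, 0) := by
    rw [zv_def, show sg 9 (1, 2, 1) = 1 from by decide +kernel, show sr 9 (1, 2, 1) = (0, 0, 0) from by decide +kernel]; simp
  have h17 : zv 9 t v (1, 2, 2) = v (1, 2, 2) := by
    rw [zv_def, show sg 9 (1, 2, 2) = 0 from by decide +kernel]; simp
  have h18 : zv 9 t v (2, 0, 0) = v (2, 0, 0) - t * v (1, 1, 2) := by
    rw [zv_def, show sg 9 (2, 0, 0) = -1 from by decide +kernel, show sr 9 (2, 0, 0) = (1, 1, 2) from by decide +kernel]; push_cast; ring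
  have h19 : zv 9 t v (2, 0, 1) = v (2, 0, 1) := by
    rw [zv_def, show sg 9 (2, 0, 1) = 0 from by decide +kernel]; simp
  have h20 : zv 9 t v (2, 0, 2) = v (2, 0, 2) := by
    rw [zv_def, show sg 9 (2, 0, 2) = 0 from by decide +kernel]; simp
  have h21 : zv 9 t v (2, 1, 0) = v (2, 1, 0) := by
    rw [zv_def, show sg 9 (2, 1, 0) = 0 from by decide +kernel]; simp
  have h22 : zv 9 t v (2, 1, 1) = v (2, 1, 1) := by
    rw [zv_def, show sg 9 (2, 1, 1) = 0 from by decide +kernel]; simp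
  have h23 : zv 9 t v (2, 1, 2) = v (2, 1, 2) := by
    rw [zv_def, show sg 9 (2, 1, 2) = 0 from by decide +kernel]; simp
  have h24 : zv 9 t v (2, 2, 0) = v (2, 2, 0) + t * v (1, 1, 0) := by
    rw [zv_def, show sg 9 (2, 2, 0) = 1 from by decide +kernel, show sr 9 (2, 2, 0) = (1, 1, 0) from by decide +kernel]; simp
  have h25 : zv 9 t v (2, 2, 1) = v (2, 2, 1) := by
    rw [zv_def, show sg 9 (2, 2, 1) = 0 from by decide +kernel]; simp
  have h26 : zv 9 t v (2, 2, 2) = v (2, 2, 2) := by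
    rw [zv_def, show sg 9 (2, 2, 2) = 0 from by decide +kernel]; simp
  rw [cubicT_expand, cubicT_expand]
  simp only [h0, h1, h2, h3, h4, h5, h6, h7, h8, h9, h10, h11, h12, h13, h14, h15, h16, h17, h18, h19, h20, h21, h22, h23, h24, h25, h26]
  ring

theorem inv_10 {F : Type*} [CommRing F] (t : F) (v : I27 → F) : cubicT (zv 10 t v) = cubicT v := by
  have h0 : zv 10 t v (0, 0, 0) = v (0, 0, 0) := by
    rw [zv_def, show sg 10 (0, 0, 0) = 0 from by decide +kernel]; simp
  have h1 : zv 10 t v (0, 0, 1) = v (0, 0, 1) := by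
    rw [zv_def, show sg 10 (0, 0, 1) = 0 from by decide +kernel]; simp
  have h2 : zv 10 t v (0, 0, 2) = v (0, 0, 2) := by
    rw [zv_def, show sg 10 (0, 0, 2) = 0 from by decide +kernel]; simp
  have h3 : zv 10 t v (0, 1, 0) = v (0, 1, 0) := by
    rw [zv_def, show sg 10 (0, 1, 0) = 0 from by decide +kernel]; simp
  have h4 : zv 10 t v (0, 1, 1) = v (0, 1, 1) := by
    rw [zv_def, show sg 10 (0, 1, 1) = 0 from by decide +kernel]; simp
  have h5 : zv 10 t v (0, 1, 2) = v (0, 1, 2) - t * v (2, 1, 2) := by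
    rw [zv_def, show sg 10 (0, 1, 2) = -1 from by decide +kernel, show sr 10 (0, 1, 2) = (2, 1, 2) from by decide +kernel]; push_cast; ring
  have h6 : zv 10 t v (0, 2, 0) = v (0, 2, 0) := by
    rw [zv_def, show sg 10 (0, 2, 0) = 0 from by decide +kernel]; simp
  have h7 : zv 10 t v (0, 2, 1) = v (0, 2, 1) := by
    rw [zv_def, show sg 10 (0, 2, 1) = 0 from by decide +kernel]; simp
  have h8 : zv 10 t v (0, 2, 2) = v (0, 2, 2) + t * v (2, 1, 1) := by
    rw [zv_def, show sg 10 (0, 2, 2) = 1 from by decide +kernel, show sr 10 (0, 2, 2) = (2, 1, 1) from by decide +kernel]; simp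
  have h9 : zv 10 t v (1, 0, 0) = v (1, 0, 0) := by
    rw [zv_def, show sg 10 (1, 0, 0) = 0 from by decide +kernel]; simp
  have h10 : zv 10 t v (1, 0, 1) = v (1, 0, 1) - t * v (0, 0, 1) := by
    rw [zv_def, show sg 10 (1, 0, 1) = -1 from by decide +kernel, show sr 10 (1, 0, 1) = (0, 0, 1) from by decide +kernel]; push_cast; ring
  have h11 : zv 10 t v (1, 0, 2) = v (1, 0, 2) := by
    rw [zv_def, show sg 10 (1, 0, 2) = 0 from by decide +kernel]; simp
  have h12 : zv 10 t v (1, 1, 0) = v (1, 1, 0) := by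
    rw [zv_def, show sg 10 (1, 1, 0) = 0 from by decide +kernel]; simp
  have h13 : zv 10 t v (1, 1, 1) = v (1, 1, 1) + t * v (0, 0, 0) := by
    rw [zv_def, show sg 10 (1, 1, 1) = 1 from by decide +kernel, show sr 10 (1, 1, 1) = (0, 0, 0) from by decide +kernel]; simp
  have h14 : zv 10 t v (1, 1, 2) = v (1, 1, 2) := by
    rw [zv_def, show sg 10 (1, 1, 2) = 0 from by decide +kernel]; simp
  have h15 : zv 10 t v (1, 2, 0) = v (1, 2, 0) := by
    rw [zv_def, show sg 10 (1, 2, 0) = 0 from by decide +kernel]; simp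
  have h16 : zv 10 t v (1, 2, 1) = v (1, 2, 1) := by
    rw [zv_def, show sg 10 (1, 2, 1) = 0 from by decide +kernel]; simp
  have h17 : zv 10 t v (1, 2, 2) = v (1, 2, 2) := by
    rw [zv_def, show sg 10 (1, 2, 2) = 0 from by decide +kernel]; simp
  have h18 : zv 10 t v (2, 0, 0) = v (2, 0, 0) + t * v (1, 2, 2) := by
    rw [zv_def, show sg 10 (2, 0, 0) = 1 from by decide +kernel, show sr 10 (2, 0, 0) = (1, 2, 2) from by decide +kernel]; simp
  have h19 : zv 10 t v (2, 0, 1) = v (2, 0, 1) := by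
    rw [zv_def, show sg 10 (2, 0, 1) = 0 from by decide +kernel]; simp
  have h20 : zv 10 t v (2, 0, 2) = v (2, 0, 2) := by
    rw [zv_def, show sg 10 (2, 0, 2) = 0 from by decide +kernel]; simp
  have h21 : zv 10 t v (2, 1, 0) = v (2, 1, 0) := by
    rw [zv_def, show sg 10 (2, 1, 0) = 0 from by decide +kernel]; simp
  have h22 : zv 10 t v (2, 1, 1) = v (2, 1, 1) := by
    rw [zv_def, show sg 10 (2, 1, 1) = 0 from by decide +kernel]; simp
  have h23 : zv 10 t v (2, 1, 2) = v (2, 1, 2) := by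
    rw [zv_def, show sg 10 (2, 1, 2) = 0 from by decide +kernel]; simp
  have h24 : zv 10 t v (2, 2, 0) = v (2, 2, 0) - t * v (1, 2, 0) := by
    rw [zv_def, show sg 10 (2, 2, 0) = -1 from by decide +kernel, show sr 10 (2, 2, 0) = (1, 2, 0) from by decide +kernel]; push_cast; ring
  have h25 : zv 10 t v (2, 2, 1) = v (2, 2, 1) := by
    rw [zv_def, show sg 10 (2, 2, 1) = 0 from by decide +kernel]; simp
  have h26 : zv 10 t v (2, 2, 2) = v (2, 2, 2) := by
    rw [zv_def, show sg 10 (2, 2, 2) = 0 from by decide +kernel]; simp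
  rw [cubicT_expand, cubicT_expand]
  simp only [h0, h1, h2, h3, h4, h5, h6, h7, h8, h9, h10, h11, h12, h13, h14, h15, h16, h17, h18, h19, h20, h21, h22, h23, h24, h25, h26]
  ring

theorem inv_11 {F : Type*} [CommRing F] (t : F) (v : I27 → F) : cubicT (zv 11 t v) = cubicT v := by
  have h0 : zv 11 t v (0, 0, 0) = v (0, 0, 0) := by
    rw [zv_def, show sg 11 (0, 0, 0) = 0 from by decide +kernel]; simp
  have h1 : zv 11 t v (0, 0, 1) = v (0, 0, 1) := by
    rw [zv_def, show sg 11 (0, 0, 1) = 0 from by decide +kernel]; simp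
  have h2 : zv 11 t v (0, 0, 2) = v (0, 0, 2) := by
    rw [zv_def, show sg 11 (0, 0, 2) = 0 from by decide +kernel]; simp
  have h3 : zv 11 t v (0, 1, 0) = v (0, 1, 0) + t * v (2, 2, 2) := by
    rw [zv_def, show sg 11 (0, 1, 0) = 1 from by decide +kernel, show sr 11 (0, 1, 0) = (2, 2, 2) from by decide +kernel]; simp
  have h4 : zv 11 t v (0, 1, 1) = v (0, 1, 1) := by
    rw [zv_def, show sg 11 (0, 1, 1) = 0 from by decide +kernel]; simp
  have h5 : zv 11 t v (0, 1, 2) = v (0, 1, 2) := by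
    rw [zv_def, show sg 11 (0, 1, 2) = 0 from by decide +kernel]; simp
  have h6 : zv 11 t v (0, 2, 0) = v (0, 2, 0) - t * v (2, 2, 1) := by
    rw [zv_def, show sg 11 (0, 2, 0) = -1 from by decide +kernel, show sr 11 (0, 2, 0) = (2, 2, 1) from by decide +kernel]; push_cast; ring
  have h7 : zv 11 t v (0, 2, 1) = v (0, 2, 1) := by
    rw [zv_def, show sg 11 (0, 2, 1) = 0 from by decide +kernel]; simp
  have h8 : zv 11 t v (0, 2, 2) = v (0, 2, 2) := by
    rw [zv_def, show sg 11 (0, 2, 2) = 0 from by decide +kernel]; simp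
  have h9 : zv 11 t v (1, 0, 0) = v (1, 0, 0) := by
    rw [zv_def, show sg 11 (1, 0, 0) = 0 from by decide +kernel]; simp
  have h10 : zv 11 t v (1, 0, 1) = v (1, 0, 1) := by
    rw [zv_def, show sg 11 (1, 0, 1) = 0 from by decide +kernel]; simp
  have h11 : zv 11 t v (1, 0, 2) = v (1, 0, 2) := by
    rw [zv_def, show sg 11 (1, 0, 2) = 0 from by decide +kernel]; simp
  have h12 : zv 11 t v (1, 1, 0) = v (1, 1, 0) := by
    rw [zv_def, show sg 11 (1, 1, 0) = 0 from by decide +kernel]; simp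
  have h13 : zv 11 t v (1, 1, 1) = v (1, 1, 1) := by
    rw [zv_def, show sg 11 (1, 1, 1) = 0 from by decide +kernel]; simp
  have h14 : zv 11 t v (1, 1, 2) = v (1, 1, 2) + t * v (0, 0, 2) := by
    rw [zv_def, show sg 11 (1, 1, 2) = 1 from by decide +kernel, show sr 11 (1, 1, 2) = (0, 0, 2) from by decide +kernel]; simp
  have h15 : zv 11 t v (1, 2, 0) = v (1, 2, 0) := by
    rw [zv_def, show sg 11 (1, 2, 0) = 0 from by decide +kernel]; simp
  have h16 : zv 11 t v (1, 2, 1) = v (1, 2, 1) := by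
    rw [zv_def, show sg 11 (1, 2, 1) = 0 from by decide +kernel]; simp
  have h17 : zv 11 t v (1, 2, 2) = v (1, 2, 2) - t * v (0, 0, 1) := by
    rw [zv_def, show sg 11 (1, 2, 2) = -1 from by decide +kernel, show sr 11 (1, 2, 2) = (0, 0, 1) from by decide +kernel]; push_cast; ring
  have h18 : zv 11 t v (2, 0, 0) = v (2, 0, 0) + t * v (1, 0, 1) := by
    rw [zv_def, show sg 11 (2, 0, 0) = 1 from by decide +kernel, show sr 11 (2, 0, 0) = (1, 0, 1) from by decide +kernel]; simp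
  have h19 : zv 11 t v (2, 0, 1) = v (2, 0, 1) := by
    rw [zv_def, show sg 11 (2, 0, 1) = 0 from by decide +kernel]; simp
  have h20 : zv 11 t v (2, 0, 2) = v (2, 0, 2) := by
    rw [zv_def, show sg 11 (2, 0, 2) = 0 from by decide +kernel]; simp
  have h21 : zv 11 t v (2, 1, 0) = v (2, 1, 0) - t * v (1, 0, 0) := by
    rw [zv_def, show sg 11 (2, 1, 0) = -1 from by decide +kernel, show sr 11 (2, 1, 0) = (1, 0, 0) from by decide +kernel]; push_cast; ring
  have h22 : zv 11 t v (2, 1, 1) = v (2, 1, 1) := by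
    rw [zv_def, show sg 11 (2, 1, 1) = 0 from by decide +kernel]; simp
  have h23 : zv 11 t v (2, 1, 2) = v (2, 1, 2) := by
    rw [zv_def, show sg 11 (2, 1, 2) = 0 from by decide +kernel]; simp
  have h24 : zv 11 t v (2, 2, 0) = v (2, 2, 0) := by
    rw [zv_def, show sg 11 (2, 2, 0) = 0 from by decide +kernel]; simp
  have h25 : zv 11 t v (2, 2, 1) = v (2, 2, 1) := by
    rw [zv_def, show sg 11 (2, 2, 1) = 0 from by decide +kernel]; simp
  have h26 : zv 11 t v (2, 2, 2) = v (2, 2, 2) := by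
    rw [zv_def, show sg 11 (2, 2, 2) = 0 from by decide +kernel]; simp
  rw [cubicT_expand, cubicT_expand]
  simp only [h0, h1, h2, h3, h4, h5, h6, h7, h8, h9, h10, h11, h12, h13, h14, h15, h16, h17, h18, h19, h20, h21, h22, h23, h24, h25, h26]
  ring

theorem inv_12 {F : Type*} [CommRing F] (t : F) (v : I27 → F) : cubicT (zv 12 t v) = cubicT v := by
  have h0 : zv 12 t v (0, 0, 0) = v (0, 0, 0) := by
    rw [zv_def, show sg 12 (0, 0, 0) = 0 from by decide +kernel]; simp
  have h1 : zv 12 t v (0, 0, 1) = v (0, 0, 1) := by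
    rw [zv_def, show sg 12 (0, 0, 1) = 0 from by decide +kernel]; simp
  have h2 : zv 12 t v (0, 0, 2) = v (0, 0, 2) := by
    rw [zv_def, show sg 12 (0, 0, 2) = 0 from by decide +kernel]; simp
  have h3 : zv 12 t v (0, 1, 0) = v (0, 1, 0) := by
    rw [zv_def, show sg 12 (0, 1, 0) = 0 from by decide +kernel]; simp
  have h4 : zv 12 t v (0, 1, 1) = v (0, 1, 1) - t * v (2, 2, 2) := by
    rw [zv_def, show sg 12 (0, 1, 1) = -1 from by decide +kernel, show sr 12 (0, 1, 1) = (2, 2, 2) from by decide +kernel]; push_cast; ring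
  have h5 : zv 12 t v (0, 1, 2) = v (0, 1, 2) := by
    rw [zv_def, show sg 12 (0, 1, 2) = 0 from by decide +kernel]; simp
  have h6 : zv 12 t v (0, 2, 0) = v (0, 2, 0) := by
    rw [zv_def, show sg 12 (0, 2, 0) = 0 from by decide +kernel]; simp
  have h7 : zv 12 t v (0, 2, 1) = v (0, 2, 1) + t * v (2, 2, 1) := by
    rw [zv_def, show sg 12 (0, 2, 1) = 1 from by decide +kernel, show sr 12 (0, 2, 1) = (2, 2, 1) from by decide +kernel]; simp
  have h8 : zv 12 t v (0, 2, 2) = v (0, 2, 2) := by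
    rw [zv_def, show sg 12 (0, 2, 2) = 0 from by decide +kernel]; simp
  have h9 : zv 12 t v (1, 0, 0) = v (1, 0, 0) := by
    rw [zv_def, show sg 12 (1, 0, 0) = 0 from by decide +kernel]; simp
  have h10 : zv 12 t v (1, 0, 1) = v (1, 0, 1) := by
    rw [zv_def, show sg 12 (1, 0, 1) = 0 from by decide +kernel]; simp
  have h11 : zv 12 t v (1, 0, 2) = v (1, 0, 2) + t * v (0, 0, 2) := by
    rw [zv_def, show sg 12 (1, 0, 2) = 1 from by decide +kernel, show sr 12 (1, 0, 2) = (0, 0, 2) from by decide +kernel]; simp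
  have h12 : zv 12 t v (1, 1, 0) = v (1, 1, 0) := by
    rw [zv_def, show sg 12 (1, 1, 0) = 0 from by decide +kernel]; simp
  have h13 : zv 12 t v (1, 1, 1) = v (1, 1, 1) := by
    rw [zv_def, show sg 12 (1, 1, 1) = 0 from by decide +kernel]; simp
  have h14 : zv 12 t v (1, 1, 2) = v (1, 1, 2) := by
    rw [zv_def, show sg 12 (1, 1, 2) = 0 from by decide +kernel]; simp
  have h15 : zv 12 t v (1, 2, 0) = v (1, 2, 0) := by
    rw [zv_def, show sg 12 (1, 2, 0) = 0 from by decide +kernel]; simp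
  have h16 : zv 12 t v (1, 2, 1) = v (1, 2, 1) := by
    rw [zv_def, show sg 12 (1, 2, 1) = 0 from by decide +kernel]; simp
  have h17 : zv 12 t v (1, 2, 2) = v (1, 2, 2) - t * v (0, 0, 0) := by
    rw [zv_def, show sg 12 (1, 2, 2) = -1 from by decide +kernel, show sr 12 (1, 2, 2) = (0, 0, 0) from by decide +kernel]; push_cast; ring
  have h18 : zv 12 t v (2, 0, 0) = v (2, 0, 0) - t * v (1, 1, 1) := by
    rw [zv_def, show sg 12 (2, 0, 0) = -1 from by decide +kernel, show sr 12 (2, 0, 0) = (1, 1, 1) from by decide +kernel]; push_cast; ring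
  have h19 : zv 12 t v (2, 0, 1) = v (2, 0, 1) := by
    rw [zv_def, show sg 12 (2, 0, 1) = 0 from by decide +kernel]; simp
  have h20 : zv 12 t v (2, 0, 2) = v (2, 0, 2) := by
    rw [zv_def, show sg 12 (2, 0, 2) = 0 from by decide +kernel]; simp
  have h21 : zv 12 t v (2, 1, 0) = v (2, 1, 0) + t * v (1, 1, 0) := by
    rw [zv_def, show sg 12 (2, 1, 0) = 1 from by decide +kernel, show sr 12 (2, 1, 0) = (1, 1, 0) from by decide +kernel]; simp
  have h22 : zv 12 t v (2, 1, 1) = v (2, 1, 1) := by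
    rw [zv_def, show sg 12 (2, 1, 1) = 0 from by decide +kernel]; simp
  have h23 : zv 12 t v (2, 1, 2) = v (2, 1, 2) := by
    rw [zv_def, show sg 12 (2, 1, 2) = 0 from by decide +kernel]; simp
  have h24 : zv 12 t v (2, 2, 0) = v (2, 2, 0) := by
    rw [zv_def, show sg 12 (2, 2, 0) = 0 from by decide +kernel]; simp
  have h25 : zv 12 t v (2, 2, 1) = v (2, 2, 1) := by
    rw [zv_def, show sg 12 (2, 2, 1) = 0 from by decide +kernel]; simp
  have h26 : zv 12 t v (2, 2, 2) = v (2, 2, 2) := by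
    rw [zv_def, show sg 12 (2, 2, 2) = 0 from by decide +kernel]; simp
  rw [cubicT_expand, cubicT_expand]
  simp only [h0, h1, h2, h3, h4, h5, h6, h7, h8, h9, h10, h11, h12, h13, h14, h15, h16, h17, h18, h19, h20, h21, h22, h23, h24, h25, h26]
  ring

theorem inv_13 {F : Type*} [CommRing F] (t : F) (v : I27 → F) : cubicT (zv 13 t v) = cubicT v := by
  have h0 : zv 13 t v (0, 0, 0) = v (0, 0, 0) := by
    rw [zv_def, show sg 13 (0, 0, 0) = 0 from by decide +kernel]; simp
  have h1 : zv 13 t v (0, 0, 1) = v (0, 0, 1) := by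
    rw [zv_def, show sg 13 (0, 0, 1) = 0 from by decide +kernel]; simp
  have h2 : zv 13 t v (0, 0, 2) = v (0, 0, 2) := by
    rw [zv_def, show sg 13 (0, 0, 2) = 0 from by decide +kernel]; simp
  have h3 : zv 13 t v (0, 1, 0) = v (0, 1, 0) := by
    rw [zv_def, show sg 13 (0, 1, 0) = 0 from by decide +kernel]; simp
  have h4 : zv 13 t v (0, 1, 1) = v (0, 1, 1) := by
    rw [zv_def, show sg 13 (0, 1, 1) = 0 from by decide +kernel]; simp
  have h5 : zv 13 t v (0, 1, 2) = v (0, 1, 2) + t * v (2, 2, 2) := by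
    rw [zv_def, show sg 13 (0, 1, 2) = 1 from by decide +kernel, show sr 13 (0, 1, 2) = (2, 2, 2) from by decide +kernel]; simp
  have h6 : zv 13 t v (0, 2, 0) = v (0, 2, 0) := by
    rw [zv_def, show sg 13 (0, 2, 0) = 0 from by decide +kernel]; simp
  have h7 : zv 13 t v (0, 2, 1) = v (0, 2, 1) := by
    rw [zv_def, show sg 13 (0, 2, 1) = 0 from by decide +kernel]; simp
  have h8 : zv 13 t v (0, 2, 2) = v (0, 2, 2) - t * v (2, 2, 1) := by
    rw [zv_def, show sg 13 (0, 2, 2) = -1 from by decide +kernel, show sr 13 (0, 2, 2) = (2, 2, 1) from by decide +kernel]; push_cast; ring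
  have h9 : zv 13 t v (1, 0, 0) = v (1, 0, 0) := by
    rw [zv_def, show sg 13 (1, 0, 0) = 0 from by decide +kernel]; simp
  have h10 : zv 13 t v (1, 0, 1) = v (1, 0, 1) := by
    rw [zv_def, show sg 13 (1, 0, 1) = 0 from by decide +kernel]; simp
  have h11 : zv 13 t v (1, 0, 2) = v (1, 0, 2) + t * v (0, 0, 1) := by
    rw [zv_def, show sg 13 (1, 0, 2) = 1 from by decide +kernel, show sr 13 (1, 0, 2) = (0, 0, 1) from by decide +kernel]; simp
  have h12 : zv 13 t v (1, 1, 0) = v (1, 1, 0) := by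
    rw [zv_def, show sg 13 (1, 1, 0) = 0 from by decide +kernel]; simp
  have h13 : zv 13 t v (1, 1, 1) = v (1, 1, 1) := by
    rw [zv_def, show sg 13 (1, 1, 1) = 0 from by decide +kernel]; simp
  have h14 : zv 13 t v (1, 1, 2) = v (1, 1, 2) - t * v (0, 0, 0) := by
    rw [zv_def, show sg 13 (1, 1, 2) = -1 from by decide +kernel, show sr 13 (1, 1, 2) = (0, 0, 0) from by decide +kernel]; push_cast; ring
  have h15 : zv 13 t v (1, 2, 0) = v (1, 2, 0) := by
    rw [zv_def, show sg 13 (1, 2, 0) = 0 from by decide +kernel]; simp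
  have h16 : zv 13 t v (1, 2, 1) = v (1, 2, 1) := by
    rw [zv_def, show sg 13 (1, 2, 1) = 0 from by decide +kernel]; simp
  have h17 : zv 13 t v (1, 2, 2) = v (1, 2, 2) := by
    rw [zv_def, show sg 13 (1, 2, 2) = 0 from by decide +kernel]; simp
  have h18 : zv 13 t v (2, 0, 0) = v (2, 0, 0) + t * v (1, 2, 1) := by
    rw [zv_def, show sg 13 (2, 0, 0) = 1 from by decide +kernel, show sr 13 (2, 0, 0) = (1, 2, 1) from by decide +kernel]; simp
  have h19 : zv 13 t v (2, 0, 1) = v (2, 0, 1) := by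
    rw [zv_def, show sg 13 (2, 0, 1) = 0 from by decide +kernel]; simp
  have h20 : zv 13 t v (2, 0, 2) = v (2, 0, 2) := by
    rw [zv_def, show sg 13 (2, 0, 2) = 0 from by decide +kernel]; simp
  have h21 : zv 13 t v (2, 1, 0) = v (2, 1, 0) - t * v (1, 2, 0) := by
    rw [zv_def, show sg 13 (2, 1, 0) = -1 from by decide +kernel, show sr 13 (2, 1, 0) = (1, 2, 0) from by decide +kernel]; push_cast; ring
  have h22 : zv 13 t v (2, 1, 1) = v (2, 1, 1) := by
    rw [zv_def, show sg 13 (2, 1, 1) = 0 from by decide +kernel]; simp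
  have h23 : zv 13 t v (2, 1, 2) = v (2, 1, 2) := by
    rw [zv_def, show sg 13 (2, 1, 2) = 0 from by decide +kernel]; simp
  have h24 : zv 13 t v (2, 2, 0) = v (2, 2, 0) := by
    rw [zv_def, show sg 13 (2, 2, 0) = 0 from by decide +kernel]; simp
  have h25 : zv 13 t v (2, 2, 1) = v (2, 2, 1) := by
    rw [zv_def, show sg 13 (2, 2, 1) = 0 from by decide +kernel]; simp
  have h26 : zv 13 t v (2, 2, 2) = v (2, 2, 2) := by
    rw [zv_def, show sg 13 (2, 2, 2) = 0 from by decide +kernel]; simp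
  rw [cubicT_expand, cubicT_expand]
  simp only [h0, h1, h2, h3, h4, h5, h6, h7, h8, h9, h10, h11, h12, h13, h14, h15, h16, h17, h18, h19, h20, h21, h22, h23, h24, h25, h26]
  ring

theorem inv_14 {F : Type*} [CommRing F] (t : F) (v : I27 → F) : cubicT (zv 14 t v) = cubicT v := by
  have h0 : zv 14 t v (0, 0, 0) = v (0, 0, 0) := by
    rw [zv_def, show sg 14 (0, 0, 0) = 0 from by decide +kernel]; simp
  have h1 : zv 14 t v (0, 0, 1) = v (0, 0, 1) := by
    rw [zv_def, show sg 14 (0, 0, 1) = 0 from by decide +kernel]; simp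
  have h2 : zv 14 t v (0, 0, 2) = v (0, 0, 2) := by
    rw [zv_def, show sg 14 (0, 0, 2) = 0 from by decide +kernel]; simp
  have h3 : zv 14 t v (0, 1, 0) = v (0, 1, 0) := by
    rw [zv_def, show sg 14 (0, 1, 0) = 0 from by decide +kernel]; simp
  have h4 : zv 14 t v (0, 1, 1) = v (0, 1, 1) := by
    rw [zv_def, show sg 14 (0, 1, 1) = 0 from by decide +kernel]; simp
  have h5 : zv 14 t v (0, 1, 2) = v (0, 1, 2) := by
    rw [zv_def, show sg 14 (0, 1, 2) = 0 from by decide +kernel]; simp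
  have h6 : zv 14 t v (0, 2, 0) = v (0, 2, 0) - t * v (0, 0, 0) := by
    rw [zv_def, show sg 14 (0, 2, 0) = -1 from by decide +kernel, show sr 14 (0, 2, 0) = (0, 0, 0) from by decide +kernel]; push_cast; ring
  have h7 : zv 14 t v (0, 2, 1) = v (0, 2, 1) - t * v (0, 0, 1) := by
    rw [zv_def, show sg 14 (0, 2, 1) = -1 from by decide +kernel, show sr 14 (0, 2, 1) = (0, 0, 1) from by decide +kernel]; push_cast; ring
  have h8 : zv 14 t v (0, 2, 2) = v (0, 2, 2) - t * v (0, 0, 2) := by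
    rw [zv_def, show sg 14 (0, 2, 2) = -1 from by decide +kernel, show sr 14 (0, 2, 2) = (0, 0, 2) from by decide +kernel]; push_cast; ring
  have h9 : zv 14 t v (1, 0, 0) = v (1, 0, 0) := by
    rw [zv_def, show sg 14 (1, 0, 0) = 0 from by decide +kernel]; simp
  have h10 : zv 14 t v (1, 0, 1) = v (1, 0, 1) := by
    rw [zv_def, show sg 14 (1, 0, 1) = 0 from by decide +kernel]; simp
  have h11 : zv 14 t v (1, 0, 2) = v (1, 0, 2) := by
    rw [zv_def, show sg 14 (1, 0, 2) = 0 from by decide +kernel]; simp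
  have h12 : zv 14 t v (1, 1, 0) = v (1, 1, 0) := by
    rw [zv_def, show sg 14 (1, 1, 0) = 0 from by decide +kernel]; simp
  have h13 : zv 14 t v (1, 1, 1) = v (1, 1, 1) := by
    rw [zv_def, show sg 14 (1, 1, 1) = 0 from by decide +kernel]; simp
  have h14 : zv 14 t v (1, 1, 2) = v (1, 1, 2) := by
    rw [zv_def, show sg 14 (1, 1, 2) = 0 from by decide +kernel]; simp
  have h15 : zv 14 t v (1, 2, 0) = v (1, 2, 0) := by
    rw [zv_def, show sg 14 (1, 2, 0) = 0 from by decide +kernel]; simp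
  have h16 : zv 14 t v (1, 2, 1) = v (1, 2, 1) := by
    rw [zv_def, show sg 14 (1, 2, 1) = 0 from by decide +kernel]; simp
  have h17 : zv 14 t v (1, 2, 2) = v (1, 2, 2) := by
    rw [zv_def, show sg 14 (1, 2, 2) = 0 from by decide +kernel]; simp
  have h18 : zv 14 t v (2, 0, 0) = v (2, 0, 0) + t * v (2, 0, 2) := by
    rw [zv_def, show sg 14 (2, 0, 0) = 1 from by decide +kernel, show sr 14 (2, 0, 0) = (2, 0, 2) from by decide +kernel]; simp
  have h19 : zv 14 t v (2, 0, 1) = v (2, 0, 1) := by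
    rw [zv_def, show sg 14 (2, 0, 1) = 0 from by decide +kernel]; simp
  have h20 : zv 14 t v (2, 0, 2) = v (2, 0, 2) := by
    rw [zv_def, show sg 14 (2, 0, 2) = 0 from by decide +kernel]; simp
  have h21 : zv 14 t v (2, 1, 0) = v (2, 1, 0) + t * v (2, 1, 2) := by
    rw [zv_def, show sg 14 (2, 1, 0) = 1 from by decide +kernel, show sr 14 (2, 1, 0) = (2, 1, 2) from by decide +kernel]; simp
  have h22 : zv 14 t v (2, 1, 1) = v (2, 1, 1) := by
    rw [zv_def, show sg 14 (2, 1, 1) = 0 from by decide +kernel]; simp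
  have h23 : zv 14 t v (2, 1, 2) = v (2, 1, 2) := by
    rw [zv_def, show sg 14 (2, 1, 2) = 0 from by decide +kernel]; simp
  have h24 : zv 14 t v (2, 2, 0) = v (2, 2, 0) + t * v (2, 2, 2) := by
    rw [zv_def, show sg 14 (2, 2, 0) = 1 from by decide +kernel, show sr 14 (2, 2, 0) = (2, 2, 2) from by decide +kernel]; simp
  have h25 : zv 14 t v (2, 2, 1) = v (2, 2, 1) := by
    rw [zv_def, show sg 14 (2, 2, 1) = 0 from by decide +kernel]; simp
  have h26 : zv 14 t v (2, 2, 2) = v (2, 2, 2) := by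
    rw [zv_def, show sg 14 (2, 2, 2) = 0 from by decide +kernel]; simp
  rw [cubicT_expand, cubicT_expand]
  simp only [h0, h1, h2, h3, h4, h5, h6, h7, h8, h9, h10, h11, h12, h13, h14, h15, h16, h17, h18, h19, h20, h21, h22, h23, h24, h25, h26]
  ring

theorem inv_15 {F : Type*} [CommRing F] (t : F) (v : I27 → F) : cubicT (zv 15 t v) = cubicT v := by
  have h0 : zv 15 t v (0, 0, 0) = v (0, 0, 0) := by
    rw [zv_def, show sg 15 (0, 0, 0) = 0 from by decide +kernel]; simp
  have h1 : zv 15 t v (0, 0, 1) = v (0, 0, 1) := by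
    rw [zv_def, show sg 15 (0, 0, 1) = 0 from by decide +kernel]; simp
  have h2 : zv 15 t v (0, 0, 2) = v (0, 0, 2) := by
    rw [zv_def, show sg 15 (0, 0, 2) = 0 from by decide +kernel]; simp
  have h3 : zv 15 t v (0, 1, 0) = v (0, 1, 0) + t * v (0, 0, 0) := by
    rw [zv_def, show sg 15 (0, 1, 0) = 1 from by decide +kernel, show sr 15 (0, 1, 0) = (0, 0, 0) from by decide +kernel]; simp
  have h4 : zv 15 t v (0, 1, 1) = v (0, 1, 1) + t * v (0, 0, 1) := by
    rw [zv_def, show sg 15 (0, 1, 1) = 1 from by decide +kernel, show sr 15 (0, 1, 1) = (0, 0, 1) from by decide +kernel]; simp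
  have h5 : zv 15 t v (0, 1, 2) = v (0, 1, 2) + t * v (0, 0, 2) := by
    rw [zv_def, show sg 15 (0, 1, 2) = 1 from by decide +kernel, show sr 15 (0, 1, 2) = (0, 0, 2) from by decide +kernel]; simp
  have h6 : zv 15 t v (0, 2, 0) = v (0, 2, 0) := by
    rw [zv_def, show sg 15 (0, 2, 0) = 0 from by decide +kernel]; simp
  have h7 : zv 15 t v (0, 2, 1) = v (0, 2, 1) := by
    rw [zv_def, show sg 15 (0, 2, 1) = 0 from by decide +kernel]; simp
  have h8 : zv 15 t v (0, 2, 2) = v (0, 2, 2) := by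
    rw [zv_def, show sg 15 (0, 2, 2) = 0 from by decide +kernel]; simp
  have h9 : zv 15 t v (1, 0, 0) = v (1, 0, 0) := by
    rw [zv_def, show sg 15 (1, 0, 0) = 0 from by decide +kernel]; simp
  have h10 : zv 15 t v (1, 0, 1) = v (1, 0, 1) := by
    rw [zv_def, show sg 15 (1, 0, 1) = 0 from by decide +kernel]; simp
  have h11 : zv 15 t v (1, 0, 2) = v (1, 0, 2) := by
    rw [zv_def, show sg 15 (1, 0, 2) = 0 from by decide +kernel]; simp
  have h12 : zv 15 t v (1, 1, 0) = v (1, 1, 0) := by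
    rw [zv_def, show sg 15 (1, 1, 0) = 0 from by decide +kernel]; simp
  have h13 : zv 15 t v (1, 1, 1) = v (1, 1, 1) := by
    rw [zv_def, show sg 15 (1, 1, 1) = 0 from by decide +kernel]; simp
  have h14 : zv 15 t v (1, 1, 2) = v (1, 1, 2) := by
    rw [zv_def, show sg 15 (1, 1, 2) = 0 from by decide +kernel]; simp
  have h15 : zv 15 t v (1, 2, 0) = v (1, 2, 0) := by
    rw [zv_def, show sg 15 (1, 2, 0) = 0 from by decide +kernel]; simp
  have h16 : zv 15 t v (1, 2, 1) = v (1, 2, 1) := by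
    rw [zv_def, show sg 15 (1, 2, 1) = 0 from by decide +kernel]; simp
  have h17 : zv 15 t v (1, 2, 2) = v (1, 2, 2) := by
    rw [zv_def, show sg 15 (1, 2, 2) = 0 from by decide +kernel]; simp
  have h18 : zv 15 t v (2, 0, 0) = v (2, 0, 0) - t * v (2, 0, 1) := by
    rw [zv_def, show sg 15 (2, 0, 0) = -1 from by decide +kernel, show sr 15 (2, 0, 0) = (2, 0, 1) from by decide +kernel]; push_cast; ring
  have h19 : zv 15 t v (2, 0, 1) = v (2, 0, 1) := by
    rw [zv_def, show sg 15 (2, 0, 1) = 0 from by decide +kernel]; simp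
  have h20 : zv 15 t v (2, 0, 2) = v (2, 0, 2) := by
    rw [zv_def, show sg 15 (2, 0, 2) = 0 from by decide +kernel]; simp
  have h21 : zv 15 t v (2, 1, 0) = v (2, 1, 0) - t * v (2, 1, 1) := by
    rw [zv_def, show sg 15 (2, 1, 0) = -1 from by decide +kernel, show sr 15 (2, 1, 0) = (2, 1, 1) from by decide +kernel]; push_cast; ring
  have h22 : zv 15 t v (2, 1, 1) = v (2, 1, 1) := by
    rw [zv_def, show sg 15 (2, 1, 1) = 0 from by decide +kernel]; simp
  have h23 : zv 15 t v (2, 1, 2) = v (2, 1, 2) := by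
    rw [zv_def, show sg 15 (2, 1, 2) = 0 from by decide +kernel]; simp
  have h24 : zv 15 t v (2, 2, 0) = v (2, 2, 0) - t * v (2, 2, 1) := by
    rw [zv_def, show sg 15 (2, 2, 0) = -1 from by decide +kernel, show sr 15 (2, 2, 0) = (2, 2, 1) from by decide +kernel]; push_cast; ring
  have h25 : zv 15 t v (2, 2, 1) = v (2, 2, 1) := by
    rw [zv_def, show sg 15 (2, 2, 1) = 0 from by decide +kernel]; simp
  have h26 : zv 15 t v (2, 2, 2) = v (2, 2, 2) := by
    rw [zv_def, show sg 15 (2, 2, 2) = 0 from by decide +kernel]; simp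
  rw [cubicT_expand, cubicT_expand]
  simp only [h0, h1, h2, h3, h4, h5, h6, h7, h8, h9, h10, h11, h12, h13, h14, h15, h16, h17, h18, h19, h20, h21, h22, h23, h24, h25, h26]
  ring

theorem inv_16 {F : Type*} [CommRing F] (t : F) (v : I27 → F) : cubicT (zv 16 t v) = cubicT v := by
  have h0 : zv 16 t v (0, 0, 0) = v (0, 0, 0) - t * v (1, 1, 0) := by
    rw [zv_def, show sg 16 (0, 0, 0) = -1 from by decide +kernel, show sr 16 (0, 0, 0) = (1, 1, 0) from by decide +kernel]; push_cast; ring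
  have h1 : zv 16 t v (0, 0, 1) = v (0, 0, 1) + t * v (1, 0, 0) := by
    rw [zv_def, show sg 16 (0, 0, 1) = 1 from by decide +kernel, show sr 16 (0, 0, 1) = (1, 0, 0) from by decide +kernel]; simp
  have h2 : zv 16 t v (0, 0, 2) = v (0, 0, 2) := by
    rw [zv_def, show sg 16 (0, 0, 2) = 0 from by decide +kernel]; simp
  have h3 : zv 16 t v (0, 1, 0) = v (0, 1, 0) := by
    rw [zv_def, show sg 16 (0, 1, 0) = 0 from by decide +kernel]; simp
  have h4 : zv 16 t v (0, 1, 1) = v (0, 1, 1) := by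
    rw [zv_def, show sg 16 (0, 1, 1) = 0 from by decide +kernel]; simp
  have h5 : zv 16 t v (0, 1, 2) = v (0, 1, 2) := by
    rw [zv_def, show sg 16 (0, 1, 2) = 0 from by decide +kernel]; simp
  have h6 : zv 16 t v (0, 2, 0) = v (0, 2, 0) := by
    rw [zv_def, show sg 16 (0, 2, 0) = 0 from by decide +kernel]; simp
  have h7 : zv 16 t v (0, 2, 1) = v (0, 2, 1) := by
    rw [zv_def, show sg 16 (0, 2, 1) = 0 from by decide +kernel]; simp
  have h8 : zv 16 t v (0, 2, 2) = v (0, 2, 2) := by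
    rw [zv_def, show sg 16 (0, 2, 2) = 0 from by decide +kernel]; simp
  have h9 : zv 16 t v (1, 0, 0) = v (1, 0, 0) := by
    rw [zv_def, show sg 16 (1, 0, 0) = 0 from by decide +kernel]; simp
  have h10 : zv 16 t v (1, 0, 1) = v (1, 0, 1) := by
    rw [zv_def, show sg 16 (1, 0, 1) = 0 from by decide +kernel]; simp
  have h11 : zv 16 t v (1, 0, 2) = v (1, 0, 2) := by
    rw [zv_def, show sg 16 (1, 0, 2) = 0 from by decide +kernel]; simp
  have h12 : zv 16 t v (1, 1, 0) = v (1, 1, 0) := by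
    rw [zv_def, show sg 16 (1, 1, 0) = 0 from by decide +kernel]; simp
  have h13 : zv 16 t v (1, 1, 1) = v (1, 1, 1) := by
    rw [zv_def, show sg 16 (1, 1, 1) = 0 from by decide +kernel]; simp
  have h14 : zv 16 t v (1, 1, 2) = v (1, 1, 2) := by
    rw [zv_def, show sg 16 (1, 1, 2) = 0 from by decide +kernel]; simp
  have h15 : zv 16 t v (1, 2, 0) = v (1, 2, 0) := by
    rw [zv_def, show sg 16 (1, 2, 0) = 0 from by decide +kernel]; simp
  have h16 : zv 16 t v (1, 2, 1) = v (1, 2, 1) - t * v (2, 2, 0) := by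
    rw [zv_def, show sg 16 (1, 2, 1) = -1 from by decide +kernel, show sr 16 (1, 2, 1) = (2, 2, 0) from by decide +kernel]; push_cast; ring
  have h17 : zv 16 t v (1, 2, 2) = v (1, 2, 2) + t * v (2, 1, 0) := by
    rw [zv_def, show sg 16 (1, 2, 2) = 1 from by decide +kernel, show sr 16 (1, 2, 2) = (2, 1, 0) from by decide +kernel]; simp
  have h18 : zv 16 t v (2, 0, 0) = v (2, 0, 0) := by
    rw [zv_def, show sg 16 (2, 0, 0) = 0 from by decide +kernel]; simp
  have h19 : zv 16 t v (2, 0, 1) = v (2, 0, 1) - t * v (0, 2, 2) := by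
    rw [zv_def, show sg 16 (2, 0, 1) = -1 from by decide +kernel, show sr 16 (2, 0, 1) = (0, 2, 2) from by decide +kernel]; push_cast; ring
  have h20 : zv 16 t v (2, 0, 2) = v (2, 0, 2) + t * v (0, 1, 2) := by
    rw [zv_def, show sg 16 (2, 0, 2) = 1 from by decide +kernel, show sr 16 (2, 0, 2) = (0, 1, 2) from by decide +kernel]; simp
  have h21 : zv 16 t v (2, 1, 0) = v (2, 1, 0) := by
    rw [zv_def, show sg 16 (2, 1, 0) = 0 from by decide +kernel]; simp
  have h22 : zv 16 t v (2, 1, 1) = v (2, 1, 1) := by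
    rw [zv_def, show sg 16 (2, 1, 1) = 0 from by decide +kernel]; simp
  have h23 : zv 16 t v (2, 1, 2) = v (2, 1, 2) := by
    rw [zv_def, show sg 16 (2, 1, 2) = 0 from by decide +kernel]; simp
  have h24 : zv 16 t v (2, 2, 0) = v (2, 2, 0) := by
    rw [zv_def, show sg 16 (2, 2, 0) = 0 from by decide +kernel]; simp
  have h25 : zv 16 t v (2, 2, 1) = v (2, 2, 1) := by
    rw [zv_def, show sg 16 (2, 2, 1) = 0 from by decide +kernel]; simp
  have h26 : zv 16 t v (2, 2, 2) = v (2, 2, 2) := by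
    rw [zv_def, show sg 16 (2, 2, 2) = 0 from by decide +kernel]; simp
  rw [cubicT_expand, cubicT_expand]
  simp only [h0, h1, h2, h3, h4, h5, h6, h7, h8, h9, h10, h11, h12, h13, h14, h15, h16, h17, h18, h19, h20, h21, h22, h23, h24, h25, h26]
  ring

theorem inv_17 {F : Type*} [CommRing F] (t : F) (v : I27 → F) : cubicT (zv 17 t v) = cubicT v := by
  have h0 : zv 17 t v (0, 0, 0) = v (0, 0, 0) + t * v (1, 2, 0) := by
    rw [zv_def, show sg 17 (0, 0, 0) = 1 from by decide +kernel, show sr 17 (0, 0, 0) = (1, 2, 0) from by decide +kernel]; simp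
  have h1 : zv 17 t v (0, 0, 1) = v (0, 0, 1) := by
    rw [zv_def, show sg 17 (0, 0, 1) = 0 from by decide +kernel]; simp
  have h2 : zv 17 t v (0, 0, 2) = v (0, 0, 2) - t * v (1, 0, 0) := by
    rw [zv_def, show sg 17 (0, 0, 2) = -1 from by decide +kernel, show sr 17 (0, 0, 2) = (1, 0, 0) from by decide +kernel]; push_cast; ring
  have h3 : zv 17 t v (0, 1, 0) = v (0, 1, 0) := by
    rw [zv_def, show sg 17 (0, 1, 0) = 0 from by decide +kernel]; simp
  have h4 : zv 17 t v (0, 1, 1) = v (0, 1, 1) := by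
    rw [zv_def, show sg 17 (0, 1, 1) = 0 from by decide +kernel]; simp
  have h5 : zv 17 t v (0, 1, 2) = v (0, 1, 2) := by
    rw [zv_def, show sg 17 (0, 1, 2) = 0 from by decide +kernel]; simp
  have h6 : zv 17 t v (0, 2, 0) = v (0, 2, 0) := by
    rw [zv_def, show sg 17 (0, 2, 0) = 0 from by decide +kernel]; simp
  have h7 : zv 17 t v (0, 2, 1) = v (0, 2, 1) := by
    rw [zv_def, show sg 17 (0, 2, 1) = 0 from by decide +kernel]; simp
  have h8 : zv 17 t v (0, 2, 2) = v (0, 2, 2) := by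
    rw [zv_def, show sg 17 (0, 2, 2) = 0 from by decide +kernel]; simp
  have h9 : zv 17 t v (1, 0, 0) = v (1, 0, 0) := by
    rw [zv_def, show sg 17 (1, 0, 0) = 0 from by decide +kernel]; simp
  have h10 : zv 17 t v (1, 0, 1) = v (1, 0, 1) := by
    rw [zv_def, show sg 17 (1, 0, 1) = 0 from by decide +kernel]; simp
  have h11 : zv 17 t v (1, 0, 2) = v (1, 0, 2) := by
    rw [zv_def, show sg 17 (1, 0, 2) = 0 from by decide +kernel]; simp
  have h12 : zv 17 t v (1, 1, 0) = v (1, 1, 0) := by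
    rw [zv_def, show sg 17 (1, 1, 0) = 0 from by decide +kernel]; simp
  have h13 : zv 17 t v (1, 1, 1) = v (1, 1, 1) - t * v (2, 2, 0) := by
    rw [zv_def, show sg 17 (1, 1, 1) = -1 from by decide +kernel, show sr 17 (1, 1, 1) = (2, 2, 0) from by decide +kernel]; push_cast; ring
  have h14 : zv 17 t v (1, 1, 2) = v (1, 1, 2) + t * v (2, 1, 0) := by
    rw [zv_def, show sg 17 (1, 1, 2) = 1 from by decide +kernel, show sr 17 (1, 1, 2) = (2, 1, 0) from by decide +kernel]; simp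
  have h15 : zv 17 t v (1, 2, 0) = v (1, 2, 0) := by
    rw [zv_def, show sg 17 (1, 2, 0) = 0 from by decide +kernel]; simp
  have h16 : zv 17 t v (1, 2, 1) = v (1, 2, 1) := by
    rw [zv_def, show sg 17 (1, 2, 1) = 0 from by decide +kernel]; simp
  have h17 : zv 17 t v (1, 2, 2) = v (1, 2, 2) := by
    rw [zv_def, show sg 17 (1, 2, 2) = 0 from by decide +kernel]; simp
  have h18 : zv 17 t v (2, 0, 0) = v (2, 0, 0) := by
    rw [zv_def, show sg 17 (2, 0, 0) = 0 from by decide +kernel]; simp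
  have h19 : zv 17 t v (2, 0, 1) = v (2, 0, 1) - t * v (0, 2, 1) := by
    rw [zv_def, show sg 17 (2, 0, 1) = -1 from by decide +kernel, show sr 17 (2, 0, 1) = (0, 2, 1) from by decide +kernel]; push_cast; ring
  have h20 : zv 17 t v (2, 0, 2) = v (2, 0, 2) + t * v (0, 1, 1) := by
    rw [zv_def, show sg 17 (2, 0, 2) = 1 from by decide +kernel, show sr 17 (2, 0, 2) = (0, 1, 1) from by decide +kernel]; simp
  have h21 : zv 17 t v (2, 1, 0) = v (2, 1, 0) := by
    rw [zv_def, show sg 17 (2, 1, 0) = 0 from by decide +kernel]; simp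
  have h22 : zv 17 t v (2, 1, 1) = v (2, 1, 1) := by
    rw [zv_def, show sg 17 (2, 1, 1) = 0 from by decide +kernel]; simp
  have h23 : zv 17 t v (2, 1, 2) = v (2, 1, 2) := by
    rw [zv_def, show sg 17 (2, 1, 2) = 0 from by decide +kernel]; simp
  have h24 : zv 17 t v (2, 2, 0) = v (2, 2, 0) := by
    rw [zv_def, show sg 17 (2, 2, 0) = 0 from by decide +kernel]; simp
  have h25 : zv 17 t v (2, 2, 1) = v (2, 2, 1) := by
    rw [zv_def, show sg 17 (2, 2, 1) = 0 from by decide +kernel]; simp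
  have h26 : zv 17 t v (2, 2, 2) = v (2, 2, 2) := by
    rw [zv_def, show sg 17 (2, 2, 2) = 0 from by decide +kernel]; simp
  rw [cubicT_expand, cubicT_expand]
  simp only [h0, h1, h2, h3, h4, h5, h6, h7, h8, h9, h10, h11, h12, h13, h14, h15, h16, h17, h18, h19, h20, h21, h22, h23, h24, h25, h26]
  ring

end Cfsg.Agent.ChevalleyStructure.E6Min.Inv1
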