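import Cfsg.Agent.ChevalleyStructure.E6Min.Elim

/-!
# The torus: the diagonal isometries of the cubic form lie in the group generated by the root elements
-/

set_option autoImplicit false
set_option maxHeartbeats 400000

namespace Cfsg.Agent.ChevalleyStructure.E6Min.Torus

open Cfsg.Lie Cfsg.Agent.ChevalleyStructure.E6Min.Tables Cfsg.Agent.ChevalleyStructure.E6Min.Basic
  Cfsg.Agent.ChevalleyStructure.E6Min.Checks2
  Cfsg.Agent.ChevalleyStructure.E6Min.Forms Cfsg.Agent.ChevalleyStructure.E6Min.Inv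
  Cfsg.Agent.ChevalleyStructure.E6Min.Elim
open scoped Matrix

section
variable {F : Type*} [Field F]

/-- the matrix of `n_r(c) = z_r(c) z_{-r}(-c⁻¹) z_r(c)` -/
theorem nM_eq {r : ℕ} (hr : r < 72) {c : F} (hc : c ≠ 0) :
    zM r c * zM (71 - r) (-c⁻¹) * zM r c =
      1 - Nm F r * Nm F (71 - r) - Nm F (71 - r) * Nm F r + c • Nm F r - c⁻¹ • Nm F (71 - r) := by
  have h1 : Nm F r * Nm F r = 0 := Nm_sq hr
  have h2 : Nm F r * Nm F (71 - r) * Nm F r = Nm F r := Nm_mul_opp_mul hr
  have e1 : zM r c * zM (71 - r) (-c⁻¹) = 1 + c • Nm F r - c⁻¹ • Nm F (71 - r) - Nm F r * Nm F (71 - r) := by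
    rw [zM_def, zM_def, add_mul, one_mul, mul_add, mul_one, smul_mul_smul_comm]
    rw [show c * -c⁻¹ = -1 by field_simp]
    simp only [neg_smul, one_smul]
    abel
  rw [e1, zM_def, mul_add, mul_one, mul_smul_comm, sub_mul, sub_mul, add_mul, one_mul, smul_mul_assoc, h1,
    smul_zero, smul_mul_assoc, h2, smul_sub, smul_sub, smul_add, smul_zero, smul_smul, mul_inv_cancel₀ hc,
    one_smul]
  abel

theorem hM_eq {r : ℕ} (hr : r < 72) {c : F} (hc : c ≠ 0) :
    zM r c * zM (71 - r) (-c⁻¹) * zM r c * (zM r (-1) * zM (71 - r) 1 * zM r (-1)) =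
      1 + (c - 1) • (Nm F r * Nm F (71 - r)) + (c⁻¹ - 1) • (Nm F (71 - r) * Nm F r) := by
  have h0 := nM_eq (F := F) hr (c := -1) (by simp)
  rw [show -(-1 : F)⁻¹ = 1 by norm_num] at h0
  rw [nM_eq hr hc, h0]
  have hr' : 71 - r < 72 := by omega
  have h1 : Nm F r * Nm F r = 0 := Nm_sq hr
  have h1' : Nm F (71 - r) * Nm F (71 - r) = 0 := Nm_sq hr'
  have h2 : Nm F r * Nm F (71 - r) * Nm F r = Nm F r := Nm_mul_opp_mul hr
  have h2' : Nm F (71 - r) * Nm F r * Nm F (71 - r) = Nm F (71 - r) := by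
    have := Nm_mul_opp_mul (F := F) hr'
    rwa [opp_opp hr] at this
  generalize Nm F r = N at *
  generalize Nm F (71 - r) = M at *
  have h3 : N * (M * N) = N := by rw [← mul_assoc, h2]
  have h3' : M * (N * M) = M := by rw [← mul_assoc, h2']
  have h4 : N * (N * M) = 0 := by rw [← mul_assoc, h1, zero_mul]
  have h4' : M * (M * N) = 0 := by rw [← mul_assoc, h1', zero_mul]
  have h5 : N * M * M = 0 := by rw [mul_assoc, h1', mul_zero]
  have h5' : M * N * N = 0 := by rw [mul_assoc, h1, mul_zero]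
  have h6 : N * M * (N * M) = N * M := by rw [← mul_assoc, h2]
  have h6' : M * N * (M * N) = M * N := by rw [← mul_assoc, h2']
  have h7 : N * M * (M * N) = 0 := by rw [← mul_assoc, h5, zero_mul]
  have h7' : M * N * (N * M) = 0 := by rw [← mul_assoc, h5', zero_mul]
  simp only [add_mul, sub_mul, mul_add, mul_sub, mul_one, one_mul, smul_mul_assoc, mul_smul_comm, neg_smul,
    one_smul, mul_neg, neg_mul, h1, h1', h2, h2', h3, h3', h4, h4', h5, h5', h6, h6', h7, h7', inv_neg, inv_one,
    smul_zero, sub_smul]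
  abel

/-- index of the simple roots -/
def sI (i : ℕ) : ℕ := [56, 46, 42, 39, 37, 36].getD i 0

theorem sI_all : allLt 6 (fun i => Nat.blt (sI i) 72 && allLt 27 fun x =>
    (((indN (sI i) x == 1) && (indN (71 - sI i) x == 0) && (lbN x i == 1)) ||
     ((indN (sI i) x == 0) && (indN (71 - sI i) x == 1) && (lbN x i == -1)) ||
     ((indN (sI i) x == 0) && (indN (71 - sI i) x == 0) && (lbN x i == 0)))) = true := by
  decide +kernel

theorem sI_lt {i : ℕ} (hi : i < 6) : sI i < 72 := by
  have := allLt_spec sI_all i hi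
  rw [Bool.and_eq_true, Nat.blt_eq] at this
  exact this.1

/-- the torus element `h_i(c)` -/
def hU (i : ℕ) (c : F) : GL I27 F :=
  zU (sI i) c * zU (71 - sI i) (-c⁻¹) * zU (sI i) c * (zU (sI i) (-1) * zU (71 - sI i) 1 * zU (sI i) (-1))

theorem hU_mem (i : ℕ) (c : F) : hU i c ∈ Zgrp F :=
  mul_mem (mul_mem (mul_mem (zU_mem _ _) (zU_mem _ _)) (zU_mem _ _))
    (mul_mem (mul_mem (zU_mem _ _) (zU_mem _ _)) (zU_mem _ _))

theorem coe_hU {i : ℕ} (hi : i < 6) {c : F} (hc : c ≠ 0) :
    ((hU i c : GL I27 F) : Matrix I27 I27 F) = Matrix.diagonal fun x => c ^ (wt x i) := by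
  have hr := sI_lt hi
  unfold hU
  simp only [Units.val_mul]
  rw [coe_zU hr, coe_zU hr, coe_zU (by omega), coe_zU (by omega), hM_eq hr hc, Nm_mul_opp hr, Nm_opp_mul hr]
  ext x y
  simp only [Matrix.add_apply, Matrix.smul_apply, Matrix.diagonal_apply, Matrix.one_apply, smul_eq_mul]
  by_cases hxy : x = y
  · simp only [hxy, if_true]
    have := allLt_spec sI_all i hi
    rw [Bool.and_eq_true] at this
    have := allLt_spec this.2 _ (code_lt y)
    simp only [Bool.or_eq_true, Bool.and_eq_true, beq_iff_eq] at this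
    unfold ind wt
    rcases this with (⟨⟨h1, h2⟩, h3⟩ | ⟨⟨h1, h2⟩, h3⟩) | ⟨⟨h1, h2⟩, h3⟩
    · rw [h1, h2, h3]; simp
    · rw [h1, h2, h3]; simp
    · rw [h1, h2, h3]; simp
  · simp only [hxy, if_false]; simp

theorem hU_e {i : ℕ} (hi : i < 6) {c : F} (hc : c ≠ 0) (x : I27) :
    ((hU i c : GL I27 F) : Matrix I27 I27 F) *ᵥ e F x = c ^ (wt x i) • e F x := by
  rw [coe_hU hi hc]
  ext y
  rw [Matrix.mulVec_diagonal, Pi.smul_apply, smul_eq_mul, e_apply]
  by_cases h : y = x
  · rw [h]
  · rw [if_neg h, mul_zero, mul_zero]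

/-- relations of a diagonal isometry -/
theorem diag_rel {g : GL I27 F} (hg : g ∈ E6univ F) {d : I27 → F}
    (hd : ∀ x, (g : Matrix I27 I27 F) *ᵥ e F x = d x • e F x) {m k : I27} (h : rel m k = 2) :
    d m * d k * d (th m k) = 1 := by
  have h5 := T3_inv hg (e F m) (e F (th m k)) (e F k)
  rw [hd, hd, hd, T3_smul_left, T3_smul_right, T3_basis h, T3_basis h, e_apply, if_pos rfl, Pi.smul_apply, e_apply,
    if_pos rfl, smul_eq_mul, mul_one, mul_one] at h5
  have h6 : ((tsN (tn m k) : ℤ) : F) ≠ 0 := tsN_ne_zero _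
  have h7 : (d m * d k * d (th m k) - 1) * ((tsN (tn m k) : ℤ) : F) = 0 := by linear_combination h5
  rcases mul_eq_zero.mp h7 with h8 | h8
  · linear_combination h8
  · exact absurd h8 h6

/-- propagation check -/
def propN : List ℕ → List (ℕ × ℕ) → Bool
  | M, [] => allLt 27 fun x => M.contains x
  | M, s :: l => Nat.blt s.1 27 && Nat.blt s.2 27 && M.contains s.1 && M.contains s.2 && (relN s.1 s.2 == 2) &&
      propN (thN s.1 s.2 :: M) l

theorem prop_spec {d : I27 → F} (hrel : ∀ m k, rel m k = 2 → d m * d k * d (th m k) = 1) (l : List (ℕ × ℕ)) :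
    ∀ M : List ℕ, (∀ x, code x ∈ M → d x = 1) → propN M l = true → ∀ x, d x = 1 := by
  induction l with
  | nil =>
    intro M hM hc x
    have := allLt_spec (show (allLt 27 fun x => M.contains x) = true from hc) _ (code_lt x)
    exact hM x (by simpa using this)
  | cons s l ih =>
    intro M hM hc
    have hc' : (Nat.blt s.1 27 && Nat.blt s.2 27 && M.contains s.1 && M.contains s.2 && (relN s.1 s.2 == 2) &&
      propN (thN s.1 s.2 :: M) l) = true := hc
    simp only [Bool.and_eq_true, Nat.blt_eq, beq_iff_eq] at hc'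
    obtain ⟨⟨⟨⟨⟨h1, h2⟩, h3⟩, h4⟩, h5⟩, h6⟩ := hc'
    refine ih _ ?_ h6
    intro x hx
    rcases List.mem_cons.mp hx with h | h
    · have hc1 : code (dec s.1) = s.1 := code_dec h1
      have hc2 : code (dec s.2) = s.2 := code_dec h2
      have hr : rel (dec s.1) (dec s.2) = 2 := by unfold rel; rw [hc1, hc2]; exact h5
      have h7 := hrel _ _ hr
      rw [hM (dec s.1) (by rw [hc1]; simpa using h3), hM (dec s.2) (by rw [hc2]; simpa using h4), one_mul,
        one_mul] at h7
      have h8 : th (dec s.1) (dec s.2) = x := by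
        unfold th; rw [hc1, hc2, ← h, dec_code]
      rwa [h8] at h7
    · exact hM x h

theorem prop_check : propN [9, 10, 12, 15, 18, 19] [(9, 18), (9, 19), (10, 0), (10, 3), (10, 12), (10, 15), (12, 18),
    (12, 19), (15, 18), (15, 19), (18, 22), (0, 4), (0, 5), (1, 5), (1, 14), (1, 21), (2, 21), (4, 14), (9, 6),
    (10, 6), (12, 16)] = true := by decide +kernel

theorem mul_scale {z g : GL I27 F} {x : I27} {a b : F} (hz : (z : Matrix I27 I27 F) *ᵥ e F x = a • e F x)
    (hg : (g : Matrix I27 I27 F) *ᵥ e F x = b • e F x) :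
    ((z * g : GL I27 F) : Matrix I27 I27 F) *ᵥ e F x = (a * b) • e F x := by
  rw [coe_mul_mulVec, hg, Matrix.mulVec_smul, hz, smul_smul, mul_comm]

/-- a diagonal isometry lies in the group of the root elements -/
theorem diag_mem {g : GL I27 F} (hg : g ∈ E6univ F) (hs : ∀ m, Scales g m) : g ∈ Zgrp F := by
  choose d hd0 hd using hs
  -- the six parameters
  obtain ⟨y1, hy1⟩ : ∃ y : F, y = d (dec 18) := ⟨_, rfl⟩
  obtain ⟨y2, hy2⟩ : ∃ y : F, y = d (dec 10) * (d (dec 9))⁻¹ := ⟨_, rfl⟩
  obtain ⟨y3, hy3⟩ : ∃ y : F, y = d (dec 18) * d (dec 19) := ⟨_, rfl⟩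
  obtain ⟨y4, hy4⟩ : ∃ y : F, y = (d (dec 15) * d (dec 12) * d (dec 9))⁻¹ := ⟨_, rfl⟩
  obtain ⟨y5, hy5⟩ : ∃ y : F, y = (d (dec 12) * d (dec 9))⁻¹ := ⟨_, rfl⟩
  obtain ⟨y6, hy6⟩ : ∃ y : F, y = (d (dec 9))⁻¹ := ⟨_, rfl⟩
  have n9 := hd0 (dec 9)
  have n10 := hd0 (dec 10)
  have n12 := hd0 (dec 12)
  have n15 := hd0 (dec 15)
  have n18 := hd0 (dec 18)
  have n19 := hd0 (dec 19)
  have ny1 : y1 ≠ 0 := by rw [hy1]; exact n18
  have ny2 : y2 ≠ 0 := by rw [hy2]; exact mul_ne_zero n10 (inv_ne_zero n9)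
  have ny3 : y3 ≠ 0 := by rw [hy3]; exact mul_ne_zero n18 n19
  have ny4 : y4 ≠ 0 := by rw [hy4]; exact inv_ne_zero (mul_ne_zero (mul_ne_zero n15 n12) n9)
  have ny5 : y5 ≠ 0 := by rw [hy5]; exact inv_ne_zero (mul_ne_zero n12 n9)
  have ny6 : y6 ≠ 0 := by rw [hy6]; exact inv_ne_zero n9
  set z : GL I27 F := hU 0 y1 * (hU 1 y2 * (hU 2 y3 * (hU 3 y4 * (hU 4 y5 * hU 5 y6)))) with hz
  have hzm : z ∈ Zgrp F := mul_mem (hU_mem _ _) (mul_mem (hU_mem _ _) (mul_mem (hU_mem _ _) (mul_mem (hU_mem _ _)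
    (mul_mem (hU_mem _ _) (hU_mem _ _)))))
  have hze : ∀ x, (z : Matrix I27 I27 F) *ᵥ e F x = (y1 ^ (wt x 0) * (y2 ^ (wt x 1) * (y3 ^ (wt x 2) *
      (y4 ^ (wt x 3) * (y5 ^ (wt x 4) * y6 ^ (wt x 5)))))) • e F x := by
    intro x
    exact mul_scale (hU_e (by norm_num) ny1 x) (mul_scale (hU_e (by norm_num) ny2 x)
      (mul_scale (hU_e (by norm_num) ny3 x) (mul_scale (hU_e (by norm_num) ny4 x)
      (mul_scale (hU_e (by norm_num) ny5 x) (hU_e (by norm_num) ny6 x)))))
  set δ : I27 → F := fun x => (y1 ^ (wt x 0) * (y2 ^ (wt x 1) * (y3 ^ (wt x 2) *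
      (y4 ^ (wt x 3) * (y5 ^ (wt x 4) * y6 ^ (wt x 5)))))) * d x with hδ
  have hzg : ∀ x, ((z * g : GL I27 F) : Matrix I27 I27 F) *ᵥ e F x = δ x • e F x :=
    fun x => mul_scale (hze x) (hd x)
  have hmem : z * g ∈ E6univ F := mul_mem (mem_E6univ_of_mem hzm) hg
  have hδ1 : ∀ x, δ x = 1 := by
    refine prop_spec (fun m k h => diag_rel hmem hzg h) _ _ ?_ prop_check
    intro x hx
    have hx' : x = dec (code x) := (dec_code x).symm
    simp only [List.mem_cons, List.not_mem_nil, or_false] at hx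
    rcases hx with h | h | h | h | h | h
    · rw [h] at hx'
      rw [hx', hδ]
      simp only [show wt (dec 9) 0 = 0 from by decide +kernel, show wt (dec 9) 1 = 0 from by decide +kernel,
        show wt (dec 9) 2 = 0 from by decide +kernel, show wt (dec 9) 3 = 0 from by decide +kernel,
        show wt (dec 9) 4 = 0 from by decide +kernel, show wt (dec 9) 5 = 1 from by decide +kernel, zpow_zero,
        zpow_one, one_mul]
      rw [hy6]; field_simp
    · rw [h] at hx'
      rw [hx', hδ]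
      simp only [show wt (dec 10) 0 = 0 from by decide +kernel, show wt (dec 10) 1 = -1 from by decide +kernel,
        show wt (dec 10) 2 = 0 from by decide +kernel, show wt (dec 10) 3 = 0 from by decide +kernel,
        show wt (dec 10) 4 = 0 from by decide +kernel, show wt (dec 10) 5 = 1 from by decide +kernel, zpow_zero,
        zpow_one, one_mul, zpow_neg]
      rw [hy6, hy2]; field_simp
    · rw [h] at hx'
      rw [hx', hδ]
      simp only [show wt (dec 12) 0 = 0 from by decide +kernel, show wt (dec 12) 1 = 0 from by decide +kernel,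
        show wt (dec 12) 2 = 0 from by decide +kernel, show wt (dec 12) 3 = 0 from by decide +kernel,
        show wt (dec 12) 4 = 1 from by decide +kernel, show wt (dec 12) 5 = -1 from by decide +kernel, zpow_zero,
        zpow_one, one_mul, zpow_neg]
      rw [hy6, hy5]; field_simp
    · rw [h] at hx'
      rw [hx', hδ]
      simp only [show wt (dec 15) 0 = 0 from by decide +kernel, show wt (dec 15) 1 = 0 from by decide +kernel,
        show wt (dec 15) 2 = 0 from by decide +kernel, show wt (dec 15) 3 = 1 from by decide +kernel,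
        show wt (dec 15) 4 = -1 from by decide +kernel, show wt (dec 15) 5 = 0 from by decide +kernel, zpow_zero,
        zpow_one, one_mul, zpow_neg, mul_one]
      rw [hy4, hy5]; field_simp
    · rw [h] at hx'
      rw [hx', hδ]
      simp only [show wt (dec 18) 0 = -1 from by decide +kernel, show wt (dec 18) 1 = 0 from by decide +kernel,
        show wt (dec 18) 2 = 0 from by decide +kernel, show wt (dec 18) 3 = 0 from by decide +kernel,
        show wt (dec 18) 4 = 0 from by decide +kernel, show wt (dec 18) 5 = 0 from by decide +kernel, zpow_zero,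
        zpow_one, one_mul, zpow_neg, mul_one]
      rw [hy1]; field_simp
    · rw [h] at hx'
      rw [hx', hδ]
      simp only [show wt (dec 19) 0 = 1 from by decide +kernel, show wt (dec 19) 1 = 0 from by decide +kernel,
        show wt (dec 19) 2 = -1 from by decide +kernel, show wt (dec 19) 3 = 0 from by decide +kernel,
        show wt (dec 19) 4 = 0 from by decide +kernel, show wt (dec 19) 5 = 0 from by decide +kernel, zpow_zero,
        zpow_one, one_mul, zpow_neg, mul_one]
      rw [hy1, hy3]; field_simp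
  have h1 : z * g = 1 := by
    apply Units.ext
    rw [Units.val_one]
    ext x y
    have := congrFun (hzg y) x
    rw [hδ1 y, one_smul] at this
    unfold e at this
    rw [Matrix.mulVec_single_one] at this
    rw [Matrix.one_apply]
    rw [Matrix.col_apply] at this
    rw [this, Pi.single_apply]
  rw [show g = z⁻¹ from eq_inv_of_mul_eq_one_right h1]
  exact inv_mem hzm

/-- the isometry group of the cubic form is generated by the root elements -/
theorem Zgrp_eq [Fintype F] (hF : 3 ≤ Fintype.card F) : Zgrp F = E6univ F := by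
  refine le_antisymm (Zgrp_le F) fun g hg => ?_
  obtain ⟨z, hz, h⟩ := elim hF hg
  have h1 := diag_mem (mul_mem (mem_E6univ_of_mem hz) hg) h
  have h2 := mul_mem (inv_mem hz) h1
  rwa [inv_mul_cancel_left] at h2

end

end Cfsg.Agent.ChevalleyStructure.E6Min.Torus
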